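import Groth.Agent.AmpleX.RelAffine
import Groth.Agent.AmpleX.Proj
import Groth.Agent.ProjUPX.Sections
import Groth.Agent.AmpleX.Separated

/-!
# Pullback of an ample module along a topological embedding
-/

universe u

open CategoryTheory AlgebraicGeometry TopologicalSpace
open Groth.Agent.H23.PicMul

set_option backward.isDefEq.respectTransparency false
set_option backward.isDefEq.respectTransparency.types false
set_option linter.style.haveILetI false

namespace Groth.Agent.AmpleVan

open Groth.Agent Groth.Agent.AmpleX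

variable {X Z : Scheme.{u}}

theorem isAmple_pullback_of_isEmbedding (u : Z ⟶ X) [CompactSpace Z] (hu : Topology.IsEmbedding u.base)
    {L : X.Modules} (h : CohB1.IsAmple L) : CohB1.IsAmple ((Scheme.Modules.pullback u).obj L) := by
  haveI := AmpleX.isSeparated_of_isAmple h
  refine isAmple_iff.2 ⟨PicClLib.isInvertible_pullback u h.1, inferInstance, fun z => ?_⟩
  obtain ⟨_, ⟨U, hU, rfl⟩, hzU, -⟩ :=
    Z.isBasis_affineOpens.exists_subset_of_mem_open (show z ∈ (⊤ : Z.Opens) from trivial) (⊤ : Z.Opens).2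
  obtain ⟨V, hV, hVU⟩ := hu.isInducing.isOpen_iff.1 U.2
  have hzV : u z ∈ (⟨V, hV⟩ : X.Opens) := by
    show z ∈ u.base ⁻¹' V
    rw [hVU]; exact hzU
  obtain ⟨m, hm, s, hz, hle, hs⟩ := AmpleX.exists_genLocus_le h hzV
  obtain ⟨e⟩ := PicClLib.nonempty_pullback_structureModule u
  have hg := InvX.genLocus_pullback u (InvX.isInvertible_tensorPow h.1 m) s e.symm
  have haff : IsAffineOpen (U ⊓ CohB1.genLocus _ (e.symm.hom ≫ (Scheme.Modules.pullback u).map s)) :=
    AmpleX.isAffineOpen_inf_genLocus (PicClLib.isInvertible_pullback u (InvX.isInvertible_tensorPow h.1 m)) hU _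
  rw [hg, inf_eq_right.2 (fun y hy => show y ∈ U from by
    show y ∈ (U : Set Z)
    exact (Set.ext_iff.1 hVU y).1 (hle hy))] at haff
  obtain ⟨t, ht⟩ := exists_section_of_cl_eq
    (B := CohB1.tensorPow ((Scheme.Modules.pullback u).obj L) m)
    (by
      show PicF.pullCl u (PicF.cl (CohB1.tensorPow L m)) = _
      rw [cl_tensorPow, pullCl_pow, cl_tensorPow]
      rfl) (e.symm.hom ≫ (Scheme.Modules.pullback u).map s)
  rw [hg] at ht
  exact ⟨m, hm, t, ht.symm ▸ hz, ht.symm ▸ haff⟩

/-- `O(1)` restricted to a closed subscheme of projective space is ample. -/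
theorem exists_ample_of_closedImmersion_projSpace {A : Type u} [CommRing A] {n : ℕ}
    (i : X ⟶ CohB1.ProjSpace n A) [IsClosedImmersion i] : ∃ L : X.Modules, CohB1.IsAmple L := by
  classical
  let T := Finset.image (fun j : Fin (n + 1) => (MvPolynomial.X j : MvPolynomial (Fin (n + 1)) A)) Finset.univ
  have hT : CohB1.IsAmple (Twist.twist (CohB1.polyGrading n A) 1) := by
    refine AmpleX.isAmple_twist_one (CohB1.polyGrading n A) T (fun f hf => ?_) (top_le_iff.1 fun y _ => ?_)
    · obtain ⟨j, -, rfl⟩ := Finset.mem_image.1 hf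
      exact ProjPt.X_mem j
    · obtain ⟨j, hj⟩ := ProjUPX.cov_X y
      exact Opens.mem_iSup.2 ⟨⟨_, Finset.mem_image.2 ⟨j, Finset.mem_univ _, rfl⟩⟩, hj⟩
  haveI : CompactSpace (CohB1.ProjSpace n A) := hT.2.1
  haveI : CompactSpace X := i.isClosedEmbedding.compactSpace
  exact ⟨_, isAmple_pullback_of_isEmbedding i i.isClosedEmbedding.isEmbedding hT⟩

end Groth.Agent.AmpleVan
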