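import Groth.Agent.AmpleVan.FiniteSurj
import Groth.Agent.AmpleX.Coprod
import Groth.Agent.AmpleX.RelAffine
import Groth.Agent.InvX.GenLocusPull

/-!
# Ampleness on pieces of a proper scheme
-/

set_option linter.style.haveILetI false
set_option backward.isDefEq.respectTransparency false
set_option backward.isDefEq.respectTransparency.types false

universe u

open CategoryTheory CategoryTheory.Limits AlgebraicGeometry TopologicalSpace Opposite

noncomputable section

namespace Groth.Agent.AmpleVan.FiniteSurj

open Groth.Agent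

variable {A : Type u} [CommRing A] [IsNoetherianRing A] {X : Scheme.{u}} {L : X.Modules}

/-- Ampleness is detected on two closed subschemes covering the space. -/
theorem isAmple_of_two [X.Over (Spec (CommRingCat.of A))] [IsProper (X ↘ Spec (CommRingCat.of A))]
    {B C : Scheme.{u}} (i : B ⟶ X) (j : C ⟶ X) [IsClosedImmersion i] [IsClosedImmersion j]
    (hcov : Set.range i ∪ Set.range j = Set.univ) (hL : PicF.IsInvertible L)
    (hi : CohB1.IsAmple ((Scheme.Modules.pullback i).obj L))
    (hj : CohB1.IsAmple ((Scheme.Modules.pullback j).obj L)) : CohB1.IsAmple L := by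
  let π := X ↘ Spec (CommRingCat.of A)
  let h : B ⨿ C ⟶ X := coprod.desc i j
  haveI : Surjective h := ⟨fun x => by
    rcases hcov.ge (Set.mem_univ x) with ⟨b, rfl⟩ | ⟨c, rfl⟩
    · exact ⟨(coprod.inl : B ⟶ B ⨿ C) b, by rw [← Scheme.Hom.comp_apply, coprod.inl_desc]⟩
    · exact ⟨(coprod.inr : C ⟶ B ⨿ C) c, by rw [← Scheme.Hom.comp_apply, coprod.inr_desc]⟩⟩
  haveI : IsFinite h := inferInstanceAs (IsFinite (coprod.desc i j))
  haveI : QuasiCompact (i ≫ π) := inferInstance
  haveI : QuasiCompact (j ≫ π) := inferInstance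
  haveI : QuasiCompact (coprod.desc (i ≫ π) (j ≫ π)) := by
    rw [← coprod.desc_comp]; exact inferInstanceAs (QuasiCompact (h ≫ π))
  refine isAmple_of_finite_surjective (A := A) h hL ?_
  refine (AmpleX.isRelAmple_iff_isAmple (coprod.desc (i ≫ π) (j ≫ π)) _).1
    ((AmpleX.isRelAmple_coprod_iff (i ≫ π) (j ≫ π) _).2 ⟨?_, ?_⟩)
  · exact (AmpleX.isRelAmple_iff_isAmple _ _).2 (AmpleX.isAmple_of_iso
      (((Scheme.Modules.pullbackComp coprod.inl h).app L ≪≫
        (Scheme.Modules.pullbackCongr (coprod.inl_desc i j)).app L).symm) hi)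
  · exact (AmpleX.isRelAmple_iff_isAmple _ _).2 (AmpleX.isAmple_of_iso
      (((Scheme.Modules.pullbackComp coprod.inr h).app L ≪≫
        (Scheme.Modules.pullbackCongr (coprod.inr_desc i j)).app L).symm) hj)

theorem range_vanishingIdeal (C : Closeds X) :
    Set.range (Scheme.IdealSheafData.vanishingIdeal C).subschemeι = (C : Set X) := by
  rw [Scheme.IdealSheafData.range_subschemeι, Scheme.IdealSheafData.coe_support_vanishingIdeal]

/-- Ampleness is detected on a finite closed covering. -/
theorem isAmple_of_finite_cover [X.Over (Spec (CommRingCat.of A))] [IsProper (X ↘ Spec (CommRingCat.of A))]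
    (hL : PicF.IsInvertible L) (s : Finset (Closeds X)) (hcov : (s.sup id : Closeds X) = ⊤)
    (h : ∀ C ∈ s, CohB1.IsAmple ((Scheme.Modules.pullback (Scheme.IdealSheafData.vanishingIdeal C).subschemeι).obj L)) :
    CohB1.IsAmple L := by
  classical
  let π := X ↘ Spec (CommRingCat.of A)
  haveI : IsLocallyNoetherian X := LocallyOfFiniteType.isLocallyNoetherian π
  have key : ∀ t : Finset (Closeds X), t ⊆ s → CohB1.IsAmple
      ((Scheme.Modules.pullback (Scheme.IdealSheafData.vanishingIdeal (t.sup id)).subschemeι).obj L) := by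
    intro t
    induction t using Finset.induction with
    | empty =>
      intro _
      haveI : IsEmpty (Scheme.IdealSheafData.vanishingIdeal ((∅ : Finset (Closeds X)).sup id)).subscheme :=
        ⟨fun x => by
          have hx : ∀ (E : Closeds X), E = ⊥ → ∀ z, z ∉ (E : Set X) := fun E hE z hz => by rw [hE] at hz; exact hz
          exact hx _ Finset.sup_empty _ ((range_vanishingIdeal _).le ⟨x, rfl⟩)⟩
      exact AmpleX.isAmple_iff.2 ⟨PicClLib.isInvertible_pullback _ hL, inferInstance, fun x => isEmptyElim x⟩
    | insert C t hC ih =>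
      intro hts
      let D := (insert C t).sup id
      let ι := (Scheme.IdealSheafData.vanishingIdeal D).subschemeι
      let Z := (Scheme.IdealSheafData.vanishingIdeal D).subscheme
      letI : Z.Over (Spec (CommRingCat.of A)) := ⟨ι ≫ π⟩
      haveI : IsProper (Z ↘ Spec (CommRingCat.of A)) := inferInstanceAs (IsProper (ι ≫ π))
      haveI := H23.RedSub.isReduced_vanishingIdeal C
      haveI := H23.RedSub.isReduced_vanishingIdeal (t.sup id)
      have hD : (D : Set X) = (C : Set X) ∪ ((t.sup id : Closeds X) : Set X) := by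
        show (((insert C t).sup id : Closeds X) : Set X) = _
        rw [Finset.sup_insert, Closeds.coe_sup]
        rfl
      obtain ⟨a, ha⟩ := H23.RedSub.exists_lift_closed (Scheme.IdealSheafData.vanishingIdeal C).subschemeι ι
        (by rw [range_vanishingIdeal, range_vanishingIdeal, hD]; exact Set.subset_union_left)
      obtain ⟨b, hb⟩ := H23.RedSub.exists_lift_closed (Scheme.IdealSheafData.vanishingIdeal (t.sup id)).subschemeι ι
        (by rw [range_vanishingIdeal, range_vanishingIdeal, hD]; exact Set.subset_union_right)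
      haveI : IsClosedImmersion (a ≫ ι) := by rw [ha]; infer_instance
      haveI : IsClosedImmersion (b ≫ ι) := by rw [hb]; infer_instance
      haveI : IsClosedImmersion a := IsClosedImmersion.of_comp a ι
      haveI : IsClosedImmersion b := IsClosedImmersion.of_comp b ι
      refine isAmple_of_two (A := A) a b ?_ (PicClLib.isInvertible_pullback ι hL) ?_ ?_
      · refine Set.eq_univ_of_forall fun z => ?_
        have hz : ι z ∈ (D : Set X) := (range_vanishingIdeal D).le ⟨z, rfl⟩
        rw [hD, ← range_vanishingIdeal C, ← range_vanishingIdeal (t.sup id), ← ha, ← hb] at hz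
        rcases hz with ⟨w, hw⟩ | ⟨w, hw⟩
        · exact Or.inl ⟨w, ι.isClosedEmbedding.injective (by simpa using hw)⟩
        · exact Or.inr ⟨w, ι.isClosedEmbedding.injective (by simpa using hw)⟩
      · exact AmpleX.isAmple_of_iso
          (((Scheme.Modules.pullbackComp a ι).app L ≪≫ (Scheme.Modules.pullbackCongr ha).app L).symm)
          (h C (hts (Finset.mem_insert_self _ _)))
      · exact AmpleX.isAmple_of_iso
          (((Scheme.Modules.pullbackComp b ι).app L ≪≫ (Scheme.Modules.pullbackCongr hb).app L).symm)
          (ih ((Finset.subset_insert _ _).trans hts))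
  let ι := (Scheme.IdealSheafData.vanishingIdeal (s.sup id)).subschemeι
  haveI : Surjective ι := ⟨fun x => by
    have : x ∈ Set.range ι := by
      rw [range_vanishingIdeal, hcov]
      trivial
    exact this⟩
  exact isAmple_of_finite_surjective (A := A) ι hL (key s subset_rfl)

end Groth.Agent.AmpleVan.FiniteSurj

namespace Groth.Agent.AmpleVan.FiniteSurj

open Groth.Agent

/-- The pullback of an ample module along an affine morphism is ample. -/
theorem isAmple_pullback_of_isAffineHom {X Z : Scheme.{u}} (u : Z ⟶ X) [IsAffineHom u] [CompactSpace Z]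
    {L : X.Modules} (h : CohB1.IsAmple L) : CohB1.IsAmple ((Scheme.Modules.pullback u).obj L) := by
  refine AmpleX.isAmple_iff.2 ⟨PicClLib.isInvertible_pullback u h.1, inferInstance, fun z => ?_⟩
  obtain ⟨m, hm, s, hz, hs⟩ := (AmpleX.isAmple_iff.1 h).2.2 (u z)
  obtain ⟨e₀⟩ := PicClLib.nonempty_pullback_structureModule u
  obtain ⟨e⟩ := RelVanish.pullback_tensorPow u L m
  refine ⟨m, hm, (e₀.symm.hom ≫ (Scheme.Modules.pullback u).map s) ≫ e.hom, ?_, ?_⟩
  · rw [InvX.genLocus_comp_iso, InvX.genLocus_pullback u (InvX.isInvertible_tensorPow h.1 m) s e₀.symm]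
    exact hz
  · rw [InvX.genLocus_comp_iso, InvX.genLocus_pullback u (InvX.isInvertible_tensorPow h.1 m) s e₀.symm]
    exact hs.preimage u

end Groth.Agent.AmpleVan.FiniteSurj
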