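import Groth.Agent.AmpleVan.Uniform
import Groth.Agent.PnCoh.Chow.Relative
import Groth.Agent.H23.PicMul
import Groth.Agent.QCoh.RpushProper

/-!
# Vanishing of higher direct images for relatively ample invertible modules
-/

set_option linter.style.haveILetI false
set_option linter.unusedSectionVars false
set_option backward.isDefEq.respectTransparency false
set_option backward.isDefEq.respectTransparency.types false

universe u

open CategoryTheory CategoryTheory.Limits AlgebraicGeometry TopologicalSpace Opposite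

noncomputable section

namespace Groth.Agent.AmpleVan.RelVanish

open Groth.Agent

variable {X S : Scheme.{u}} (f : X ⟶ S)

/-- Higher direct images vanish when the cohomology over an affine covering does. -/
theorem isZero_RpushAb_of_cover [QuasiCompact f] [IsSeparated f] {M : X.Modules} (hM : Coh.IsQCoh M)
    (B : Set S.affineOpens) (hB : ∀ y : S, ∃ W ∈ B, y ∈ (W : S.affineOpens).1)
    (h : ∀ W ∈ B, ∀ q, Subsingleton (Coh.HH (f ⁻¹ᵁ (W : S.affineOpens).1).toScheme (M.restrict (f ⁻¹ᵁ (W : S.affineOpens).1).ι) (q + 1))) :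
    ∀ p, 0 < p → IsZero ((Coh.RpushAb f p).obj (Coh.toAb M)) := by
  intro p hp
  refine QCoh.Ab.Rpush_isZero_of_bound f.base
    (fun V => ∃ W ∈ B, ∃ b : Γ(S, (W : S.affineOpens).1), V = S.basicOpen b) ?_ 0 (QCoh.abSheaf M) ?_ p hp
  · intro U y hy
    obtain ⟨W, hW, hyW⟩ := hB y
    obtain ⟨b, hb, hyb⟩ := W.2.exists_basicOpen_le (V := U) ⟨y, hy⟩ hyW
    exact ⟨S.basicOpen b, hb, hyb, W, hW, b, rfl⟩
  rintro V ⟨W, hW, b, rfl⟩ q hq
  obtain ⟨q, rfl⟩ : ∃ r, q = r + 1 := ⟨q - 1, by omega⟩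
  let U : X.Opens := f ⁻¹ᵁ W.1
  let s : Γ(U.toScheme, ⊤) := U.topIso.inv (f.app W.1 b)
  haveI : CompactSpace U.toScheme := isCompact_iff_compactSpace.1 (f.isCompact_preimage W.2.isCompact)
  haveI : U.toScheme.IsSeparated := ⟨by
    have e : terminal.from U.toScheme = (f ∣_ W.1) ≫ terminal.from W.1.toScheme := Subsingleton.elim _ _
    rw [e]
    haveI : IsAffine W.1.toScheme := W.2
    exact MorphismProperty.comp_mem @IsSeparated _ _ (IsZariskiLocalAtTarget.restrict ‹IsSeparated f› W.1) inferInstance⟩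
  have himage : U.ι ''ᵁ U.toScheme.basicOpen s = f ⁻¹ᵁ S.basicOpen b := by
    rw [Scheme.image_basicOpen, Scheme.preimage_basicOpen, Scheme.Opens.ι_appIso]
    show X.basicOpen (U.topIso.inv (f.app W.1 b)) = _
    rw [Scheme.Opens.topIso_inv]
    exact X.basicOpen_res_eq _ _
  letI := QCoh.modHH (QCoh.idTop U.toScheme) (M.restrict U.ι) (q + 1)
  obtain ⟨e⟩ := QCoh.HH_localization s (QCoh.isQCoh_restrict U.ι hM) (q + 1)
  have h1 := PnCoh.Chow.subsingleton_HU_of_HHon (M.restrict U.ι) _ q (by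
    haveI := h W hW q
    exact e.toEquiv.subsingleton)
  have h2 := (QCoh.Ab.subsingleton_HU_restr_iff U.ι.isOpenEmbedding q (QCoh.abSheaf M) _).1 h1
  rw [← himage]
  exact h2

theorem tensor_congr {Y : Scheme.{u}} {A A' B B' : Y.Modules} (e : A ≅ A') (e' : B ≅ B') :
    Nonempty (CohB1.tensorMod A B ≅ CohB1.tensorMod A' B') :=
  ⟨(DCoh.tensorBi.mapIso e).app B ≪≫ (DCoh.tensorBi.obj A').mapIso e'⟩

theorem pullback_tensorPow {Y : Scheme.{u}} (j : Y ⟶ X) (L : X.Modules) (n : ℕ) :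
    Nonempty ((Scheme.Modules.pullback j).obj (CohB1.tensorPow L n) ≅
      CohB1.tensorPow ((Scheme.Modules.pullback j).obj L) n) := by
  induction n with
  | zero => exact PicClLib.nonempty_pullback_structureModule j
  | succ n ih =>
    obtain ⟨e⟩ := ih
    obtain ⟨e'⟩ := H23.PicMul.pull j (CohB1.tensorPow L n) L
    exact ⟨e' ≪≫ (tensor_congr e (Iso.refl _)).some⟩

theorem pullback_twist_iso {Y : Scheme.{u}} (j : Y ⟶ X) (L M : X.Modules) (n : ℕ) :
    Nonempty ((Scheme.Modules.pullback j).obj (CohB1.tensorMod M (CohB1.tensorPow L n)) ≅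
      CohB1.tensorMod ((Scheme.Modules.pullback j).obj M) (CohB1.tensorPow ((Scheme.Modules.pullback j).obj L) n)) := by
  obtain ⟨e⟩ := H23.PicMul.pull j M (CohB1.tensorPow L n)
  exact ⟨e ≪≫ (tensor_congr (Iso.refl _) (pullback_tensorPow j L n).some).some⟩

theorem tensorPow_congr {Y : Scheme.{u}} {A A' : Y.Modules} (e : A ≅ A') (n : ℕ) :
    Nonempty (CohB1.tensorPow A n ≅ CohB1.tensorPow A' n) := by
  induction n with
  | zero => exact ⟨Iso.refl _⟩
  | succ n ih => obtain ⟨e'⟩ := ih; exact tensor_congr e' e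

theorem restrict_iso {Y : Scheme.{u}} (j : Y ⟶ X) [IsOpenImmersion j] (L M : X.Modules) (n : ℕ) :
    Nonempty ((CohB1.tensorMod M (CohB1.tensorPow L n)).restrict j ≅
      CohB1.tensorMod (M.restrict j) (CohB1.tensorPow (L.restrict j) n)) := by
  obtain ⟨e⟩ := pullback_twist_iso j L M n
  let r := Scheme.Modules.restrictFunctorIsoPullback j
  obtain ⟨e₁⟩ := tensorPow_congr (r.app L).symm n
  obtain ⟨e₂⟩ := tensor_congr (r.app M).symm e₁
  exact ⟨(r.app _) ≪≫ e ≪≫ e₂⟩

theorem exists_vanishing [IsProper f] [AlgebraicGeometry.IsNoetherian S] {L : X.Modules} (hL : PicF.IsInvertible L)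
    (ha : ∀ W : S.Opens, IsAffineOpen W → CohB1.IsAmple (L.restrict (f ⁻¹ᵁ W).ι))
    {M : X.Modules} (hM : Coh.IsCoh M) :
    ∃ n₀ : ℕ, ∀ n : ℕ, n₀ ≤ n → ∀ p : ℕ, 0 < p →
      IsZero ((Coh.RpushAb f p).obj (Coh.toAb (CohB1.tensorMod M (CohB1.tensorPow L n)))) := by
  classical
  obtain ⟨B, hBfin, hBT⟩ := isCompact_iff_finite_and_eq_biUnion_affineOpens.mp
    (show IsCompact ((⊤ : S.Opens) : Set S) by simpa using isCompact_univ)
  have hd : ∀ W : S.affineOpens, ∃ d₀, ∀ d, d₀ ≤ d → ∀ q, Subsingleton (Coh.HH (f ⁻¹ᵁ W.1).toScheme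
      (CohB1.tensorMod (M.restrict (f ⁻¹ᵁ W.1).ι) (CohB1.tensorPow (L.restrict (f ⁻¹ᵁ W.1).ι) d)) (q + 1)) := by
    intro W
    haveI : IsAffine W.1.toScheme := W.2
    haveI : IsNoetherianRing Γ(S, W.1) := IsLocallyNoetherian.component_noetherian W
    letI : (f ⁻¹ᵁ W.1).toScheme.Over (Spec (CommRingCat.of Γ(S, W.1))) := ⟨(f ∣_ W.1) ≫ W.2.isoSpec.hom⟩
    haveI : IsProper ((f ⁻¹ᵁ W.1).toScheme ↘ Spec (CommRingCat.of Γ(S, W.1))) :=
      MorphismProperty.comp_mem @IsProper _ _ (IsZariskiLocalAtTarget.restrict ‹IsProper f› W.1) inferInstance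
    exact AmpleVan.exists_vanishing (A := Γ(S, W.1)) (ha W.1 W.2) (QCoh.isCoh_restrict_open hM)
  choose d hd using hd
  refine ⟨hBfin.toFinset.sup d, fun n hn p hp => ?_⟩
  haveI : IsLocallyNoetherian X := LocallyOfFiniteType.isLocallyNoetherian f
  refine isZero_RpushAb_of_cover f
    (AmpleVan.isCoh_tensor hM (AmpleVan.isCoh_invertible (InvX.isInvertible_tensorPow hL n))).1 B (fun y => ?_)
    (fun W hW q => ?_) p hp
  · have hy : y ∈ (⊤ : S.Opens) := trivial
    rw [hBT] at hy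
    simpa using hy
  · obtain ⟨e⟩ := restrict_iso (f ⁻¹ᵁ W.1).ι L M n
    exact QCoh.subsingleton_HH_of_iso e.symm _
      (hd W n ((Finset.le_sup (hBfin.mem_toFinset.2 hW)).trans hn) q)

end Groth.Agent.AmpleVan.RelVanish
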