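import Groth.Agent.AmpleVan.Vanish

/-!
# Serre vanishing for large powers of an ample module, uniformly on systems generated in bounded degrees
-/

set_option linter.style.haveILetI false
set_option backward.isDefEq.respectTransparency false
set_option backward.isDefEq.respectTransparency.types false

universe u

open CategoryTheory CategoryTheory.Limits AlgebraicGeometry TopologicalSpace Opposite

attribute [local instance] HasDerivedCategory.standard
attribute [local instance] Groth.Agent.QCoh.hasFiniteBiproducts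

noncomputable section

namespace Groth.Agent.AmpleVan

open Groth.Agent
open Groth.Agent.H23.PicMul

variable {X : Scheme.{u}} {L : X.Modules}

theorem cl_itw (L M : X.Modules) (n : ℕ) : PicF.cl ((itw L n).obj M) = PicF.cl M * PicF.cl L ^ n := by
  obtain ⟨θ, -⟩ := exists_itwIso L M n
  rw [cl_eq_iff.2 ⟨θ⟩, cl_tensor, cl_tensorPow]

theorem isSeparated_of_proper {A : Type u} [CommRing A] [X.Over (Spec (CommRingCat.of A))]
    [IsProper (X ↘ Spec (CommRingCat.of A))] : X.IsSeparated := ⟨by
  have h : terminal.from X = (X ↘ Spec (CommRingCat.of A)) ≫ terminal.from _ := Subsingleton.elim _ _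
  rw [h]
  infer_instance⟩

/-- Serre vanishing. -/
theorem exists_vanishing {A : Type u} [CommRing A] [IsNoetherianRing A]
    [X.Over (Spec (CommRingCat.of A))] [IsProper (X ↘ Spec (CommRingCat.of A))]
    (hL : CohB1.IsAmple L) {M : X.Modules} (hM : Coh.IsCoh M) :
    ∃ d₀, ∀ d, d₀ ≤ d → ∀ q, Subsingleton (Coh.HH X (CohB1.tensorMod M (CohB1.tensorPow L d)) (q + 1)) := by
  classical
  haveI : CompactSpace X := compactSpace_of_proper (A := A)
  haveI := isSeparated_of_proper (X := X) (A := A)
  haveI : IsLocallyNoetherian X := LocallyOfFiniteType.isLocallyNoetherian (X ↘ Spec (CommRingCat.of A))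
  obtain ⟨a, ha, κ, _, σ, hσ, -, hcov⟩ := AmpleX.exists_cover_genLocus hL
  let e := (Fintype.equivFin κ).symm
  have hLa := InvX.isInvertible_tensorPow hL.1 a
  obtain ⟨B, hB⟩ := QCoh.exists_HH_bound (X := X)
  have h : ∀ p : ℕ × ℕ, ∃ N, ∀ n, N ≤ n → Subsingleton (Coh.HH X
      ((itw (CohB1.tensorPow L a) n).obj (CohB1.tensorMod M (CohB1.tensorPow L p.1))) (p.2 + 1)) := fun p =>
    exists_vanishing_itw hLa (fun k => σ (e k)) (fun k => hσ _)
      (fun x => ⟨e.symm (hcov x).choose, by rw [e.apply_symm_apply]; exact (hcov x).choose_spec⟩)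
      A (isCoh_tensor hM (isCoh_invertible (InvX.isInvertible_tensorPow hL.1 _))) p.2
  choose N hN using h
  refine ⟨a * ((Finset.range a ×ˢ Finset.range B).sup N + 1), fun d hd q => ?_⟩
  by_cases hq : q < B
  · have hr : d % a < a := Nat.mod_lt _ ha
    have hle : N (d % a, q) ≤ d / a := by
      refine le_trans ?_ ((Nat.le_div_iff_mul_le ha).2 (le_of_eq_of_le (mul_comm _ _) hd))
      exact le_trans (Finset.le_sup (f := N) (Finset.mk_mem_product (Finset.mem_range.2 hr) (Finset.mem_range.2 hq)))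
        (Nat.le_succ _)
    obtain ⟨φ⟩ : Nonempty ((itw (CohB1.tensorPow L a) (d / a)).obj (CohB1.tensorMod M (CohB1.tensorPow L (d % a))) ≅
        CohB1.tensorMod M (CohB1.tensorPow L d)) := cl_eq_iff.1 (by
      rw [cl_itw, cl_tensor, cl_tensor, cl_tensorPow, cl_tensorPow, cl_tensorPow, ← pow_mul, mul_assoc,
        ← pow_add, Nat.mod_add_div])
    exact QCoh.subsingleton_HH_of_iso φ _ (hN (d % a, q) (d / a) hle)
  · exact hB _ (KFlatLib.isQCoh_tensor hM.1 (ProjUPX.isQCoh_of_isInvertible (InvX.isInvertible_tensorPow hL.1 d))) _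
      (by omega)

/-- Serre vanishing uniformly on a system generated in bounded degrees. -/
theorem exists_uniform_vanishing {A : Type u} [CommRing A] [IsNoetherianRing A]
    [X.Over (Spec (CommRingCat.of A))] [IsProper (X ↘ Spec (CommRingCat.of A))]
    (hL : CohB1.IsAmple L) {r : ℕ} (S : FFun.Gen.Sys X r) (hS : ∀ n, Coh.IsCoh (S.G n)) {d : ℕ}
    (hd : S.GenFrom d) :
    ∃ m₀, ∀ m, m₀ ≤ m → ∀ n q,
      Subsingleton (Coh.HH X (CohB1.tensorMod (S.G n) (CohB1.tensorPow L m)) (q + 1)) := by
  classical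
  haveI : CompactSpace X := compactSpace_of_proper (A := A)
  haveI := isSeparated_of_proper (X := X) (A := A)
  haveI : IsLocallyNoetherian X := LocallyOfFiniteType.isLocallyNoetherian (X ↘ Spec (CommRingCat.of A))
  haveI : IsNoetherian X := { __ := ‹IsLocallyNoetherian X›, __ := ‹CompactSpace X› }
  obtain ⟨B, hB⟩ := QCoh.exists_HH_bound (X := X)
  suffices h : ∀ k, ∀ p, B ≤ p + k → ∀ S : FFun.Gen.Sys X r, (∀ n, Coh.IsCoh (S.G n)) → ∀ d, S.GenFrom d →
      ∃ m₀, ∀ m, m₀ ≤ m → ∀ n q, p ≤ q + 1 →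
        Subsingleton (Coh.HH X (CohB1.tensorMod (S.G n) (CohB1.tensorPow L m)) (q + 1)) by
    obtain ⟨m₀, hm₀⟩ := h B 0 (by omega) S hS d hd
    exact ⟨m₀, fun m hm n q => hm₀ m hm n q (Nat.zero_le _)⟩
  intro k
  induction k with
  | zero =>
    intro p hp S hS d _
    exact ⟨0, fun m _ n q hq => hB _ (KFlatLib.isQCoh_tensor (hS n).1
      (ProjUPX.isQCoh_of_isInvertible (InvX.isInvertible_tensorPow hL.1 m))) _ (by omega)⟩
  | succ k ih =>
    intro p hp S hS d hd
    let W := S.shiftBy d
    have hW : ∀ n, Coh.IsCoh (W.G n) := fun n => hS (d + n)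
    have hg : W.GenFrom 0 := S.genFrom_shiftBy hd
    have hF : ∀ n, Coh.IsCoh ((FFun.Gen.Sys.free (W.G 0) r).G n) := fun n =>
      QCoh.isCoh_biproduct _ fun _ => hW 0
    have hK : ∀ n, Coh.IsCoh (W.rel.G n) := fun n => QCoh.isCoh_kernel (hF n) (hW n) _
    obtain ⟨d', hd'⟩ := FFun.Gen.exists_genFrom_rel W hW
    obtain ⟨m₁, hm₁⟩ := ih (p + 1) (by omega) W.rel hK d' hd'
    have hfin : ∀ n, ∃ m₀, ∀ m, m₀ ≤ m → ∀ q,
        Subsingleton (Coh.HH X (CohB1.tensorMod (S.G n) (CohB1.tensorPow L m)) (q + 1)) :=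
      fun n => exists_vanishing (A := A) hL (hS n)
    choose M₀ hM₀ using hfin
    refine ⟨max m₁ ((Finset.range (d + 1)).sup M₀), fun m hm n q hq => ?_⟩
    by_cases hn : n ≤ d
    · exact hM₀ n m ((Finset.le_sup (f := M₀) (Finset.mem_range.2 (by omega))).trans (le_of_max_le_right hm)) q
    obtain ⟨j, rfl⟩ := Nat.exists_eq_add_of_le (show d ≤ n by omega)
    let T := tw (CohB1.tensorPow L m)
    haveI : T.IsEquivalence := isEquivalence_tw (InvX.isInvertible_tensorPow hL.1 m)
    haveI : T.Additive := Functor.additive_of_preserves_binary_products T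
    haveI := W.epi_aug hg j
    have hses : (ShortComplex.mk (kernel.ι (W.aug j)) (W.aug j) (kernel.condition _)).ShortExact :=
      { exact := ShortComplex.exact_kernel _, mono_f := inferInstance, epi_g := inferInstance }
    refine PnCoh.Finite.subsingleton_HH_X₃ (hses.map_of_exact T) (q + 1) ?_
      (hm₁ m (le_of_max_le_left hm) j (q + 1) (by omega))
    let E := fun _ : ULift.{u} (Sym (Fin r) j) => W.G 0
    refine PnCoh.Finite.subsingleton_HH_of_decomposition (fun s => T.obj (E s))
      (fun s => T.map (biproduct.π E s)) (fun s => T.map (biproduct.ι E s)) ?_ (q + 1) fun _ =>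
        hM₀ d m ((Finset.le_sup (f := M₀) (Finset.mem_range.2 (by omega))).trans (le_of_max_le_right hm)) q
    simp only [← Functor.map_comp, ← Functor.map_sum]
    rw [QCoh.biproduct_total', CategoryTheory.Functor.map_id]

end Groth.Agent.AmpleVan
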