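import Groth.Agent.AmpleVan.Tw
import Groth.Agent.InvX.Tensor
import Groth.Agent.QCoh.TensorUnit
import Groth.Agent.H23.ModLoc

/-!
# Multiplication by a section of a module
-/

set_option linter.style.haveILetI false
set_option backward.isDefEq.respectTransparency false
set_option backward.isDefEq.respectTransparency.types false

universe u

open CategoryTheory CategoryTheory.Limits AlgebraicGeometry TopologicalSpace Opposite MonoidalCategory

attribute [local instance] HasDerivedCategory.standard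

noncomputable section

namespace Groth.Agent.AmpleVan

open Groth.Agent InvX

variable {X : Scheme.{u}} {M M' N P : X.Modules}

lemma tmul_add_left {U : X.Opens} (a a' : Γ(M, U)) (b : Γ(N, U)) :
    tmul (a + a') b = tmul a b + tmul a' b :=
  (congrArg _ (KFlatLib.tm_add_left a a' b)).trans (map_add _ _ _)

lemma tmul_zero_left {U : X.Opens} (b : Γ(N, U)) : tmul (0 : Γ(M, U)) b = 0 := by
  have h := tmul_add_left (0 : Γ(M, U)) 0 b
  rw [add_zero] at h
  exact left_eq_add.1 h

lemma map_tmul_left (φ : M ⟶ M') {U : X.Opens} (a : Γ(M, U)) (b : Γ(N, U)) :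
    ((tw N).map φ).app U (tmul a b) = tmul (φ.app U a) b := by
  have h := KFlatLib.unitShP_naturality (DCoh.toP.map φ ▷ DCoh.toP.obj N)
  exact congr(($h).app (op U) (KFlatLib.tm a b)).symm

/-- The associator, objectwise. -/
def assocT (M N P : X.Modules) :
    (tw P).obj (CohB1.tensorMod M N) ≅ CohB1.tensorMod M (CohB1.tensorMod N P) :=
  KFlatLib.assocShP (DCoh.toP.obj M) (DCoh.toP.obj N) (DCoh.toP.obj P)

lemma assoc_tmul {U : X.Opens} (a : Γ(M, U)) (b : Γ(N, U)) (c : Γ(P, U)) :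
    (assocT M N P).hom.app U (tmul (tmul a b) c) =
      tmul a (tmul b c) := by
  let A := DCoh.toP.obj M
  let B := DCoh.toP.obj N
  let C := DCoh.toP.obj P
  let u := KFlatLib.unitShP (A ⊗ B)
  haveI := KFlatLib.isIso_shP_map_unit_whiskerRight (A ⊗ B) C
  let z : ((A ⊗ B) ⊗ C).obj (op U) := KFlatLib.tm (P := A ⊗ B) (KFlatLib.tm (P := A) (Q := B) a b) c
  have h1 : tmul (tmul a b) c = (DCoh.shP.map (u ▷ C)).app U
      ((KFlatLib.unitShP ((A ⊗ B) ⊗ C)).app (op U) z) :=
    congr(($(KFlatLib.unitShP_naturality (u ▷ C))).app (op U) z)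
  rw [h1]
  show (KFlatLib.assocShP A B C).hom.app U _ = _
  have e : DCoh.shP.map (u ▷ C) ≫ (KFlatLib.assocShP A B C).hom =
      DCoh.shP.map ((α_ A B C).hom ≫ A ◁ KFlatLib.unitShP (B ⊗ C)) := by
    simp only [KFlatLib.assocShP, Iso.trans_hom, Iso.symm_hom, asIso_inv, Functor.mapIso_hom, asIso_hom,
      IsIso.hom_inv_id_assoc, Functor.map_comp, u]
  refine (congr(($e).app U ((KFlatLib.unitShP ((A ⊗ B) ⊗ C)).app (op U) z)) : _).trans ?_
  exact congr(($(KFlatLib.unitShP_naturality ((α_ A B C).hom ≫ A ◁ KFlatLib.unitShP (B ⊗ C)))).app (op U) z).symm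

/-- `t ↦ t ⊗ σ` on sections. -/
def mulSecApp (σ : Γ(N, ⊤)) (M : X.Modules) (U : X.Opens) : Γ(M, U) →+ Γ((tw N).obj M, U) where
  toFun t := tmul t (AModX.res N (le_top : U ≤ ⊤) σ)
  map_zero' := tmul_zero_left _
  map_add' t t' := tmul_add_left t t' _

set_option maxHeartbeats 1000000 in
/-- `t ↦ t ⊗ σ`. -/
def mulSec (σ : Γ(N, ⊤)) (M : X.Modules) : M ⟶ (tw N).obj M :=
  ⟨PresheafOfModules.homMk
    { app := fun U => AddCommGrpCat.ofHom (mulSecApp σ M U.unop)
      naturality := fun U V i => by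
        ext t
        show tmul (AModX.res M i.unop.le t) _ = AModX.res (CohB1.tensorMod M N) i.unop.le (tmul t _)
        rw [res_tmul, AModX.res_res] }
    (fun U r t => tmul_smul_left (U := U.unop) r t _)⟩

lemma mulSec_app (σ : Γ(N, ⊤)) (M : X.Modules) (U : X.Opens) (t : Γ(M, U)) :
    (mulSec σ M).app U t = tmul t (AModX.res N (le_top : U ≤ ⊤) σ) := rfl

lemma mulSec_naturality (σ : Γ(N, ⊤)) (φ : M ⟶ M') :
    φ ≫ mulSec σ M' = mulSec σ M ≫ (tw N).map φ :=
  QCoh.hom_ext_app fun U t => by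
    show (mulSec σ M').app U (φ.app U t) = ((tw N).map φ).app U ((mulSec σ M).app U t)
    rw [mulSec_app, mulSec_app]
    exact (map_tmul_left φ t _).symm

/-- Morphisms out of a tensor product agree if they agree on pure tensors. -/
lemma hom_ext_tmul {W : X.Modules} {φ ψ : (tw N).obj M ⟶ W}
    (h : ∀ (U : X.Opens) (m : Γ(M, U)) (b : Γ(N, U)), φ.app U (tmul m b) = ψ.app U (tmul m b)) : φ = ψ := by
  let P := DCoh.toP.obj M ⊗ DCoh.toP.obj N
  refine ((PresheafOfModules.sheafificationAdjunction (𝟙 X.ringCatSheaf.obj)).homEquiv P W).injective ?_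
  rw [Adjunction.homEquiv_unit, Adjunction.homEquiv_unit]
  ext U z
  induction z using KFlatLib.tm_induction with
  | h0 => simp
  | htm m b => exact h U.unop m b
  | hadd a b ha hb => rw [map_add, map_add, ha, hb]

/-- Multiplication by sections of an invertible module commute. -/
lemma tw_map_mulSec (hN : PicF.IsInvertible N) (σ : Γ(N, ⊤)) (M : X.Modules) :
    (tw N).map (mulSec σ M) = mulSec σ ((tw N).obj M) := by
  refine hom_ext_tmul fun U m a => ?_
  rw [map_tmul_left, mulSec_app, mulSec_app]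
  refine AModX.eq_of_locally _ _ fun p hp => ?_
  obtain ⟨V₀, hpV, e₀, he₀⟩ := exists_frame hN p
  have he := he₀.res (inf_le_left : V₀ ⊓ U ≤ V₀)
  let e := AModX.res N (inf_le_left : V₀ ⊓ U ≤ V₀) e₀
  obtain ⟨r, hr⟩ := he.exists_coord le_rfl (AModX.res N inf_le_right a)
  obtain ⟨g, hg⟩ := he.exists_coord le_rfl (AModX.res N (le_top : V₀ ⊓ U ≤ ⊤) σ)
  rw [AModX.res_self] at hr hg
  refine ⟨V₀ ⊓ U, inf_le_right, ⟨hpV, hp⟩, ?_⟩
  show AModX.res (CohB1.tensorMod (CohB1.tensorMod M N) N) inf_le_right (tmul (tmul m _) a) =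
    AModX.res (CohB1.tensorMod (CohB1.tensorMod M N) N) inf_le_right (tmul (tmul m a) _)
  simp only [res_tmul, AModX.res_res, hr, hg, tmul_smul_right, tmul_smul_left]
  rw [← mul_smul, ← mul_smul, mul_comm]

end Groth.Agent.AmpleVan
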