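import Groth.Agent.AmpleVan.Kill
import Groth.Agent.AmpleX.Generated
import Groth.Agent.FFun.GenSheaf
import Groth.Agent.QCoh.TensorSections
import Groth.Agent.S0002

/-!
# Serre vanishing for ample invertible modules
-/

set_option linter.style.haveILetI false
set_option backward.isDefEq.respectTransparency false
set_option backward.isDefEq.respectTransparency.types false

universe u

open CategoryTheory CategoryTheory.Limits AlgebraicGeometry TopologicalSpace Opposite
open Groth.Agent.PnCoh.Finite (mapLin deltaLin)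

attribute [local instance] HasDerivedCategory.standard
attribute [local instance] Groth.Agent.QCoh.hasFiniteBiproducts

noncomputable section

namespace Groth.Agent.AmpleVan

open Groth.Agent

variable {X : Scheme.{u}} {L : X.Modules}

theorem isCoh_tensor [IsLocallyNoetherian X] {M N : X.Modules} (hM : Coh.IsCoh M) (hN : Coh.IsCoh N) :
    Coh.IsCoh (CohB1.tensorMod M N) := by
  refine QCoh.isCoh_iff.2 ⟨KFlatLib.isQCoh_tensor hM.1 hN.1, fun U => ?_⟩
  haveI := (QCoh.isCoh_iff.1 hM).2 U
  haveI := (QCoh.isCoh_iff.1 hN).2 U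
  exact Module.Finite.of_surjective (QCoh.tmLin M N U.1) (QCoh.bijective_tmLin hM.1 hN.1 U.2).2

theorem isCoh_invertible [IsLocallyNoetherian X] (hL : PicF.IsInvertible L) : Coh.IsCoh L :=
  QCoh.isCoh_iff_isFP.2 (QCoh.isFP_of_isFinLocFree (H23.PullPush.isFinLocFree_of_isInvertible hL))

theorem isCoh_itw [IsLocallyNoetherian X] (hL : PicF.IsInvertible L) {M : X.Modules} (hM : Coh.IsCoh M) :
    ∀ n, Coh.IsCoh ((itw L n).obj M)
  | 0 => hM
  | n + 1 => isCoh_tensor (isCoh_itw hL hM n) (isCoh_invertible hL)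

/-- Twisting commutes with multiplication. -/
theorem exists_itw_mulSec (hL : PicF.IsInvertible L) (σ : Γ(L, ⊤)) (M : X.Modules) : ∀ c,
    ∃ ψ : (itw L c).obj ((tw L).obj M) ≅ (tw L).obj ((itw L c).obj M),
      (itw L c).map (mulSec σ M) ≫ ψ.hom = mulSec σ ((itw L c).obj M)
  | 0 => ⟨Iso.refl _, by
      show mulSec σ M ≫ 𝟙 _ = mulSec σ M
      rw [Category.comp_id]⟩
  | c + 1 => by
    obtain ⟨ψ, hψ⟩ := exists_itw_mulSec hL σ M c
    let e₁ : (tw L).obj ((itw L c).obj ((tw L).obj M)) ≅ (tw L).obj ((tw L).obj ((itw L c).obj M)) :=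
      (tw L).mapIso ψ
    refine ⟨e₁, ?_⟩
    show (tw L).map ((itw L c).map (mulSec σ M)) ≫ (tw L).map ψ.hom = mulSec σ ((tw L).obj ((itw L c).obj M))
    rw [← Functor.map_comp, hψ, tw_map_mulSec hL]

/-- The system of iterated twists with multiplication by finitely many sections. -/
def twSys {r : ℕ} (hL : PicF.IsInvertible L) (σ : Fin r → Γ(L, ⊤)) (M : X.Modules) : FFun.Gen.Sys X r where
  G n := (itw L n).obj M
  t n i := mulSec (σ i) ((itw L n).obj M)
  comm n i j := by
    exact (mulSec_naturality (σ i) (mulSec (σ j) ((itw L n).obj M))).trans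
      (congrArg (mulSec (σ i) ((itw L n).obj M) ≫ ·) (tw_map_mulSec hL (σ j) ((itw L n).obj M)))

theorem genFrom_twSys {r : ℕ} (hL : PicF.IsInvertible L) (s : Fin r → (Coh.structureModule X ⟶ L))
    (hcov : ∀ x : X, ∃ k, x ∈ CohB1.genLocus L (s k)) (M : X.Modules) :
    (twSys hL (fun k => InvX.one (s k)) M).GenFrom 0 := by
  intro n _
  refine Preadditive.epi_of_cancel_zero _ fun {Z} g hg => ?_
  have hk : ∀ k, mulSec (InvX.one (s k)) ((itw L n).obj M) ≫ g = 0 := fun k => by
    have h := congrArg (fun z => biproduct.ι (fun _ : ULift.{u} (Fin r) => (itw L n).obj M) ⟨k⟩ ≫ z) hg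
    simp only [FFun.Gen.Sys.tAll, twSys, biproduct.ι_desc_assoc, comp_zero] at h
    exact h
  refine hom_ext_tmul (M := (itw L n).obj M) (N := L) fun U m b => ?_
  refine AModX.eq_of_locally _ _ fun p hp => ?_
  obtain ⟨k, hk'⟩ := hcov p
  let W := CohB1.genLocus L (s k) ⊓ U
  have hτ := (AmpleX.res_genLocus_frame (s k)).res (inf_le_left : W ≤ CohB1.genLocus L (s k))
  obtain ⟨c, hc⟩ := hτ.exists_coord le_rfl (AModX.res L (inf_le_right : W ≤ U) b)
  rw [AModX.res_self, AModX.res_res] at hc
  refine ⟨W, inf_le_right, ⟨hk', hp⟩, ?_⟩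
  rw [← AModX.app_res, ← AModX.app_res]
  show g.app W (AModX.res (CohB1.tensorMod ((itw L n).obj M) L) inf_le_right (InvX.tmul m b)) = _
  rw [InvX.res_tmul, hc, InvX.tmul_smul_right, ← InvX.tmul_smul_left]
  exact (congr(($(hk k)).app W (c • AModX.res _ inf_le_right m)) : _).trans rfl

variable {A : Type u} [CommRing A] [X.Over (Spec (CommRingCat.of A))]

/-- Classes killed by all words of length `N`. -/
def Dead {r : ℕ} (S : FFun.Gen.Sys X r) (q : ℕ) : ℕ → ∀ n, Set (Coh.HH X (S.G n) q)
  | 0, _ => {0}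
  | N + 1, n => {x | ∀ i, Hmap (S.t n i) q x ∈ Dead S q N (n + 1)}

theorem zero_mem_dead {r : ℕ} (S : FFun.Gen.Sys X r) (q : ℕ) : ∀ N n, 0 ∈ Dead S q N n
  | 0, _ => rfl
  | N + 1, n => fun i => by rw [map_zero]; exact zero_mem_dead S q N (n + 1)

theorem add_mem_dead {r : ℕ} (S : FFun.Gen.Sys X r) (q : ℕ) : ∀ N n x y,
    x ∈ Dead S q N n → y ∈ Dead S q N n → x + y ∈ Dead S q N n
  | 0, _, x, y, hx, hy => by
    rw [Set.mem_singleton_iff.1 hx, Set.mem_singleton_iff.1 hy, add_zero]; exact rfl
  | N + 1, n, x, y, hx, hy => fun i => by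
    rw [map_add]; exact add_mem_dead S q N (n + 1) _ _ (hx i) (hy i)

theorem mem_dead_mono {r : ℕ} (S : FFun.Gen.Sys X r) (q : ℕ) : ∀ N n x, x ∈ Dead S q N n → x ∈ Dead S q (N + 1) n
  | 0, n, x, hx => fun i => by rw [Set.mem_singleton_iff.1 hx, map_zero]; exact rfl
  | N + 1, n, x, hx => fun i => mem_dead_mono S q N (n + 1) _ (hx i)

theorem mem_dead_of_kill {r : ℕ} (hL : PicF.IsInvertible L) (σ : Fin r → Γ(L, ⊤)) (M : X.Modules) (q : ℕ) :
    ∀ N n (x : Coh.HH X ((itw L n).obj M) q) (c : Fin r → ℕ), ∑ i, c i < N →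
      (∀ i, Hmap ((pw (σ i) (c i)).app ((itw L n).obj M)) q x = 0) → x ∈ Dead (twSys hL σ M) q N n := by
  classical
  intro N
  induction N with
  | zero => intro n x c h; omega
  | succ N ih =>
    intro n x c hc hx j
    rcases Nat.eq_zero_or_pos (c j) with h0 | h0
    · have h := hx j
      rw [h0] at h
      rw [show x = 0 from (Sheaf.H.map_id_apply x).symm.trans
        ((congrArg (fun φ => Sheaf.H.map φ q x) ((QCoh.toAbFunctor X).map_id _).symm).trans h)]
      rw [map_zero]
      exact zero_mem_dead _ q N (n + 1)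
    · obtain ⟨d, hd⟩ := Nat.exists_eq_add_of_le' (show 1 ≤ c j from h0)
      refine ih (n + 1) _ (Function.update c j d) ?_ fun i => ?_
      · have h1 := Finset.add_sum_erase Finset.univ c (Finset.mem_univ j)
        have h2 := Finset.add_sum_erase Finset.univ (Function.update c j d) (Finset.mem_univ j)
        have h3 : ∑ i ∈ Finset.univ.erase j, Function.update c j d i = ∑ i ∈ Finset.univ.erase j, c i :=
          Finset.sum_congr rfl fun i hi => Function.update_of_ne (Finset.ne_of_mem_erase hi) _ _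
        rw [Function.update_self] at h2
        omega
      · rcases eq_or_ne i j with rfl | hij
        · rw [Function.update_self]
          obtain ⟨ψ, hψ⟩ := exists_itw_mulSec hL (σ i) ((itw L n).obj M) d
          refine (Hmap_comp _ _ q x).trans ?_
          have h := hx i
          rw [hd] at h
          have e : mulSec (σ i) ((itw L n).obj M) ≫ (pw (σ i) d).app ((tw L).obj ((itw L n).obj M)) =
              ((pw (σ i) (d + 1)).app ((itw L n).obj M)) ≫ ψ.inv :=
            ((pw (σ i) d).naturality (mulSec (σ i) ((itw L n).obj M))).trans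
              ((congrArg ((pw (σ i) d).app ((itw L n).obj M) ≫ ·) ((Iso.eq_comp_inv ψ).2 hψ)).trans
                (Category.assoc _ _ _).symm)
          refine (congrArg (fun φ => Hmap φ q x) e).trans ?_
          rw [← Hmap_comp]
          exact (congrArg (Hmap ψ.inv q) h).trans (map_zero _)
        · rw [Function.update_of_ne hij]
          refine (Hmap_comp _ _ q x).trans ?_
          refine (congrArg (fun φ => Hmap φ q x) ((pw (σ i) (c i)).naturality (mulSec (σ j) ((itw L n).obj M)))).trans ?_
          rw [← Hmap_comp]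
          exact (congrArg (Hmap _ q) (hx i)).trans (map_zero _)

theorem compactSpace_of_proper [IsProper (X ↘ Spec (CommRingCat.of A))] : CompactSpace X :=
  QuasiCompact.compactSpace_of_compactSpace (X ↘ Spec (CommRingCat.of A))

/-- Vanishing for iterated twists by sections with affine generating loci. -/
theorem exists_vanishing_itw {r : ℕ} (hL : PicF.IsInvertible L) (s : Fin r → (Coh.structureModule X ⟶ L))
    (hs : ∀ k, IsAffineOpen (CohB1.genLocus L (s k))) (hcov : ∀ x : X, ∃ k, x ∈ CohB1.genLocus L (s k))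
    (A : Type u) [CommRing A] [X.Over (Spec (CommRingCat.of A))] [IsNoetherianRing A]
    [IsProper (X ↘ Spec (CommRingCat.of A))]
    {M : X.Modules} (hM : Coh.IsCoh M) (q : ℕ) :
    ∃ N, ∀ n, N ≤ n → Subsingleton (Coh.HH X ((itw L n).obj M) (q + 1)) := by
  classical
  haveI : CompactSpace X := compactSpace_of_proper (A := A)
  haveI : IsLocallyNoetherian X := LocallyOfFiniteType.isLocallyNoetherian (X ↘ Spec (CommRingCat.of A))
  haveI : IsNoetherian X := { __ := ‹IsLocallyNoetherian X›, __ := ‹CompactSpace X› }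
  haveI : X.IsSeparated := ⟨by
    have h : terminal.from X = (X ↘ Spec (CommRingCat.of A)) ≫ terminal.from _ := Subsingleton.elim _ _
    rw [h]
    infer_instance⟩
  let σ := fun k => InvX.one (s k)
  let S := twSys hL σ M
  have hG : ∀ n, Coh.IsCoh (S.G n) := fun n => isCoh_itw hL hM n
  have hfin := fun (N : X.Modules) (hN : Coh.IsCoh N) (p : ℕ) => Groth.Agent.S0002.result A X N hN p
  obtain ⟨e, he⟩ := FFun.Gen.exists_genHH (A := A) hfin (q + 1) S hG 0 (genFrom_twSys hL s hcov M)
  obtain ⟨k, g, hg⟩ := Submodule.fg_iff_exists_fin_generating_family.1 (hfin _ (hG e) (q + 1)).fg_top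
  choose c hc using fun (a : Fin k) (i : Fin r) => exists_kill hL (s i) (hs i) q (hG e).1 (g a)
  let N₀ := (Finset.univ.sup fun a => ∑ i, c a i) + 1
  have hge : ∀ x : Coh.HH X (S.G e) (q + 1), x ∈ Dead S (q + 1) N₀ e := fun x => by
    have hx : x ∈ Submodule.span A (Set.range g) := hg ▸ Submodule.mem_top
    have hlin : ∀ N n (y : Coh.HH X (S.G n) (q + 1)) (a : A), y ∈ Dead S (q + 1) N n → a • y ∈ Dead S (q + 1) N n := by
      intro N
      induction N with
      | zero => intro n y a hy; rw [Set.mem_singleton_iff.1 hy, smul_zero]; exact rfl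
      | succ N ih =>
        intro n y a hy i
        have h := ih (n + 1) _ a (hy i)
        exact ((mapLin A (S.t n i) (q + 1)).map_smul a y).symm ▸ h
    induction hx using Submodule.span_induction with
    | mem x hx =>
      obtain ⟨a, rfl⟩ := hx
      exact mem_dead_of_kill hL σ M (q + 1) N₀ e (g a) (c a)
        (Nat.lt_succ_of_le (Finset.le_sup (f := fun a => ∑ i, c a i) (Finset.mem_univ a))) (hc a)
    | zero => exact zero_mem_dead _ _ _ _
    | add x y _ _ hx hy => exact add_mem_dead _ _ _ _ x y hx hy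
    | smul a x _ hx => exact hlin _ _ _ a hx
  have hall : ∀ j (x : Coh.HH X (S.G (e + j)) (q + 1)), x ∈ Dead S (q + 1) (N₀ - j) (e + j) := by
    intro j
    induction j with
    | zero => exact hge
    | succ j ih =>
      intro x
      have hx : x ∈ ⨆ i, LinearMap.range (mapLin A (S.t (e + j) i) (q + 1)) :=
        (he (e + j) (Nat.le_add_right e j)).ge Submodule.mem_top
      induction hx using Submodule.iSup_induction' with
      | mem i x hx =>
        obtain ⟨y, rfl⟩ := hx
        rcases Nat.eq_zero_or_pos (N₀ - j) with h0 | h0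
        · have hy := ih y
          rw [h0] at hy
          rw [Set.mem_singleton_iff.1 hy, map_zero]
          exact zero_mem_dead _ _ _ _
        · have hy := ih y
          rw [show N₀ - j = (N₀ - (j + 1)) + 1 by omega] at hy
          exact hy i
      | zero => exact zero_mem_dead _ _ _ _
      | add x y _ _ hx hy => exact add_mem_dead _ _ _ _ x y hx hy
  refine ⟨e + N₀, fun n hn => subsingleton_of_forall_eq 0 fun x => ?_⟩
  obtain ⟨j, rfl⟩ := Nat.exists_eq_add_of_le (show e ≤ n by omega)
  have h := hall j x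
  rw [show N₀ - j = 0 by omega] at h
  exact h

end Groth.Agent.AmpleVan
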