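import Groth.Agent.QCoh.ClosedPush
import Groth.Agent.FFun.Basic
import Groth.Agent.QCoh.TensorUnit
import Groth.Agent.FComplLib.IdealComap
import Groth.Agent.ModPairLib.Basic
import Groth.Prelude.Def_CohB1

/-!
# Modules on a closed thickening pushed forward
-/

set_option linter.style.haveILetI false
set_option backward.isDefEq.respectTransparency false
set_option backward.isDefEq.respectTransparency.types false

universe u

open CategoryTheory CategoryTheory.Limits AlgebraicGeometry TopologicalSpace Opposite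

noncomputable section

namespace Groth.Agent.AmpleVan

open Groth.Agent

variable {A : Type u} [CommRing A] {X Z : Scheme.{u}}

theorem resTop_app (i : Z ⟶ X) (c : Γ(X, ⊤)) (U : X.Opens) :
    i.app U (Coh.resTop X (op U) c) = Coh.resTop Z (op (i ⁻¹ᵁ U)) (i.appTop c) :=
  congr($(i.naturality (homOfLE (le_top : U ≤ ⊤)).op) c)

/-- Direct images commute with multiplication by scalars of the base. -/
theorem push_map_smulMod [X.Over (Spec (CommRingCat.of A))] [Z.Over (Spec (CommRingCat.of A))]
    (i : Z ⟶ X) (hi : i ≫ (X ↘ Spec (CommRingCat.of A)) = Z ↘ Spec (CommRingCat.of A))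
    (M : Z.Modules) (a : A) :
    (Scheme.Modules.pushforward i).map (Formal.smulMod A M a) =
      Formal.smulMod A ((Scheme.Modules.pushforward i).obj M) a := by
  refine QCoh.hom_ext_app fun U m => ?_
  have e : i.appTop (Coh.toGlobal (X ↘ Spec (CommRingCat.of A)) a) = Coh.toGlobal (Z ↘ Spec (CommRingCat.of A)) a :=
    congr(($hi).appTop ((Scheme.ΓSpecIso (CommRingCat.of A)).inv a))
  show (show Γ(Z, i ⁻¹ᵁ U) from Coh.resTop Z (op (i ⁻¹ᵁ U)) (Coh.toGlobal (Z ↘ Spec (CommRingCat.of A)) a)) • (show Γ(M, i ⁻¹ᵁ U) from m) =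
    i.app U (show Γ(X, U) from Coh.resTop X (op U) (Coh.toGlobal (X ↘ Spec (CommRingCat.of A)) a)) • (show Γ(M, i ⁻¹ᵁ U) from m)
  rw [resTop_app, e]

section Closed

variable (i : Z ⟶ X) [IsClosedImmersion i]

/-- Direct image along a closed immersion is faithful. -/
theorem faithful_push : (Scheme.Modules.pushforward i).Faithful := ⟨fun {M N} a b h =>
  Scheme.Modules.hom_ext _ _ fun V => by
    obtain ⟨O, hO, hOV⟩ := (IsClosedImmersion.base_closed (f := i)).isInducing.isOpen_iff.1 V.2
    obtain rfl : (TopologicalSpace.Opens.map i.base).obj ⟨O, hO⟩ = V := TopologicalSpace.Opens.ext hOV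
    exact congrArg (fun t => Scheme.Modules.Hom.app t ⟨O, hO⟩) h⟩

theorem isIso_of_push {M N : Z.Modules} (φ : M ⟶ N) [IsIso ((Scheme.Modules.pushforward i).map φ)] :
    IsIso φ := by
  refine Scheme.Modules.Hom.isIso_iff_isIso_app.2 fun V => ?_
  obtain ⟨O, hO, hOV⟩ := (IsClosedImmersion.base_closed (f := i)).isInducing.isOpen_iff.1 V.2
  obtain rfl : (TopologicalSpace.Opens.map i.base).obj ⟨O, hO⟩ = V := TopologicalSpace.Opens.ext hOV
  exact (Scheme.Modules.Hom.isIso_iff_isIso_app.1
    (inferInstance : IsIso ((Scheme.Modules.pushforward i).map φ)) ⟨O, hO⟩ : _)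

theorem isIso_unit_push {M : Z.Modules} (hM : Coh.IsQCoh M) :
    IsIso ((Scheme.Modules.pullbackPushforwardAdjunction i).unit.app ((Scheme.Modules.pushforward i).obj M)) := by
  refine (QCoh.isIso_unit_closed_iff i (QCoh.isQCoh_pushforward i hM)).2 fun U a ha s => ?_
  rw [FComplLib.ideal_ker, RingHom.mem_ker] at ha
  show (i.app U.1).hom a • (show Γ(M, i ⁻¹ᵁ U.1) from s) = 0
  rw [ha, zero_smul]

theorem isIso_counit {M : Z.Modules} (hM : Coh.IsQCoh M) :
    IsIso ((Scheme.Modules.pullbackPushforwardAdjunction i).counit.app M) := by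
  haveI := isIso_unit_push i hM
  let adj := Scheme.Modules.pullbackPushforwardAdjunction i
  haveI : IsIso ((Scheme.Modules.pushforward i).map (adj.counit.app M)) := by
    haveI : IsIso (adj.unit.app ((Scheme.Modules.pushforward i).obj M) ≫
        (Scheme.Modules.pushforward i).map (adj.counit.app M)) := by
      rw [adj.right_triangle_components]; infer_instance
    exact IsIso.of_isIso_comp_left (adj.unit.app ((Scheme.Modules.pushforward i).obj M)) _
  exact isIso_of_push i _

/-- Morphisms between direct images come from morphisms. -/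
theorem exists_push_map {M N : Z.Modules} (hM : Coh.IsQCoh M) (hN : Coh.IsQCoh N)
    (φ : (Scheme.Modules.pushforward i).obj M ⟶ (Scheme.Modules.pushforward i).obj N) :
    ∃ ψ : M ⟶ N, (Scheme.Modules.pushforward i).map ψ = φ := by
  let adj := Scheme.Modules.pullbackPushforwardAdjunction i
  haveI := isIso_counit i hM
  haveI := isIso_counit i hN
  refine ⟨inv (adj.counit.app M) ≫ (adj.homEquiv _ _).symm φ, ?_⟩
  haveI := isIso_unit_push i hM
  rw [← cancel_epi (adj.unit.app ((Scheme.Modules.pushforward i).obj M) ≫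
    (Scheme.Modules.pushforward i).map (adj.counit.app M))]
  rw [Category.assoc, ← Functor.map_comp, IsIso.hom_inv_id_assoc, adj.right_triangle_components]
  refine Eq.trans ?_ (Category.id_comp φ).symm
  exact ((adj.homEquiv_unit _ _ _).symm.trans ((adj.homEquiv _ _).apply_symm_apply φ))

/-- A quasi-coherent module killed by the ideal of the closed subscheme is a direct image. -/
theorem exists_eq_push {M : X.Modules} (hM : Coh.IsQCoh M)
    (h : ∀ (U : X.affineOpens), ∀ a ∈ i.ker.ideal U, ∀ s : Γ(M, U.1), a • s = 0) :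
    Nonempty (M ≅ (Scheme.Modules.pushforward i).obj ((Scheme.Modules.pullback i).obj M)) := by
  haveI := (QCoh.isIso_unit_closed_iff i hM).2 h
  exact ⟨asIso ((Scheme.Modules.pullbackPushforwardAdjunction i).unit.app M)⟩

end Closed

section Over

variable [X.Over (Spec (CommRingCat.of A))]

variable (A) in
/-- The structure map of the base on sections. -/
def scal (U : X.Opens) : A →+* Γ(X, U) :=
  (Coh.resTop X (op U)).comp (Coh.toGlobal (X ↘ Spec (CommRingCat.of A)))

theorem smulMod_app_affine (M : X.Modules) (a : A) (U : X.Opens) (s : Γ(M, U)) :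
    (Formal.smulMod A M a).app U s =
      (show Γ(X, U) from Coh.resTop X (op U) (Coh.toGlobal (X ↘ Spec (CommRingCat.of A)) a)) • s := rfl

/-- Over the base change of `Spec (A / J) ⟶ Spec A` the ideal is generated by `J`. -/
theorem ker_ideal_of_isPullback {J : Ideal A} {i : Z ⟶ X} {q : Z ⟶ Spec (CommRingCat.of (A ⧸ J))}
    (sq : IsPullback i q (X ↘ Spec (CommRingCat.of A)) (Spec.map (CommRingCat.ofHom (Ideal.Quotient.mk J))))
    (U : X.affineOpens) :
    i.ker.ideal U = J.map (scal A U.1) := by
  let t := Spec.map (CommRingCat.ofHom (Ideal.Quotient.mk J))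
  haveI : IsClosedImmersion t := IsClosedImmersion.spec_of_surjective _ Ideal.Quotient.mk_surjective
  let T : (Spec (CommRingCat.of A)).affineOpens := ⟨⊤, isAffineOpen_top _⟩
  let e := Scheme.ΓSpecIso (CommRingCat.of A)
  have ht : t.ker.ideal T = J.map e.inv.hom := by
    rw [FComplLib.ideal_ker]
    have h : (t.app T.1) = e.hom ≫ CommRingCat.ofHom (Ideal.Quotient.mk J) ≫
        (Scheme.ΓSpecIso (CommRingCat.of (A ⧸ J))).inv := by
      rw [Scheme.ΓSpecIso_inv_naturality, Iso.hom_inv_id_assoc]
      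
    refine Ideal.ext fun x => ?_
    have hbij := (ConcreteCategory.bijective_of_isIso (Scheme.ΓSpecIso (CommRingCat.of (A ⧸ J))).inv)
    rw [RingHom.mem_ker, h]
    show (Scheme.ΓSpecIso (CommRingCat.of (A ⧸ J))).inv (Ideal.Quotient.mk J (e.hom x)) = 0 ↔ _
    rw [map_eq_zero_iff _ hbij.1, Ideal.Quotient.eq_zero_iff_mem]
    refine ⟨fun hx => ?_, fun hx => ?_⟩
    · have := Ideal.mem_map_of_mem e.inv.hom hx
      rwa [Iso.hom_inv_id_apply] at this
    · have := Ideal.mem_map_of_mem e.hom.hom hx
      rwa [Ideal.map_map, ← CommRingCat.hom_comp, Iso.inv_hom_id, CommRingCat.hom_id, Ideal.map_id] at this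
  rw [FComplLib.ker_of_isPullback sq, ModPairLib.ideal_comap _ _ T U (fun _ _ => trivial), ht, Ideal.map_map]
  rfl

/-- Being killed by `J` in terms of sections. -/
theorem smul_eq_zero_of_killed {J : Ideal A} {M : X.Modules} (h : ∀ a ∈ J, Formal.smulMod A M a = 0)
    {U : X.Opens} {b : Γ(X, U)}
    (hb : b ∈ J.map (scal A U)) (s : Γ(M, U)) :
    b • s = 0 := by
  induction hb using Submodule.span_induction generalizing s with
  | mem b hb =>
    obtain ⟨a, ha, rfl⟩ := hb
    exact congr(($(h a ha)).app U s)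
  | zero => exact zero_smul _ s
  | add b c _ _ hb hc => rw [add_smul, hb, hc, add_zero]
  | smul r b _ hb => rw [smul_eq_mul, mul_smul, hb, smul_zero]

/-- A quasi-coherent module killed by `J` is a direct image from the base change to `A / J`. -/
theorem exists_eq_push_of_killed {J : Ideal A} {i : Z ⟶ X} [IsClosedImmersion i]
    {q : Z ⟶ Spec (CommRingCat.of (A ⧸ J))}
    (sq : IsPullback i q (X ↘ Spec (CommRingCat.of A)) (Spec.map (CommRingCat.ofHom (Ideal.Quotient.mk J))))
    {M : X.Modules} (hM : Coh.IsQCoh M) (h : ∀ a ∈ J, Formal.smulMod A M a = 0) :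
    Nonempty (M ≅ (Scheme.Modules.pushforward i).obj ((Scheme.Modules.pullback i).obj M)) :=
  exists_eq_push i hM fun U a ha s => smul_eq_zero_of_killed h (ker_ideal_of_isPullback sq U ▸ ha) s

/-- The unit to the base change to `A / J` is the quotient by `J`. -/
theorem unit_desc_iso {J : Ideal A} {i : Z ⟶ X} [IsClosedImmersion i]
    {q : Z ⟶ Spec (CommRingCat.of (A ⧸ J))}
    (sq : IsPullback i q (X ↘ Spec (CommRingCat.of A)) (Spec.map (CommRingCat.ofHom (Ideal.Quotient.mk J))))
    {M : X.Modules} (hM : Coh.IsQCoh M) :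
    ∃ h : Formal.smulFamily J M ≫ (Scheme.Modules.pullbackPushforwardAdjunction i).unit.app M = 0,
      IsIso (cokernel.desc _ _ h) := by
  let η := (Scheme.Modules.pullbackPushforwardAdjunction i).unit.app M
  let P := (Scheme.Modules.pushforward i).obj ((Scheme.Modules.pullback i).obj M)
  have h0 : Formal.smulFamily J M ≫ η = 0 := by
    refine Sigma.hom_ext _ _ fun a => ?_
    rw [comp_zero, ← Category.assoc]
    refine (congrArg (· ≫ η) (Sigma.ι_desc _ _)).trans ?_
    refine QCoh.hom_ext_app fun U s => ?_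
    refine TopCat.Sheaf.eq_of_locally_eq' ⟨P.presheaf, P.isSheaf⟩
      (fun V : {V : X.affineOpens // V.1 ≤ U} => V.1.1) U (fun V => homOfLE V.2) (fun z hz => ?_) _ _ fun V => ?_
    · obtain ⟨_, ⟨W, hW, rfl⟩, hzW, hWU⟩ := X.isBasis_affineOpens.exists_subset_of_mem_open hz U.isOpen
      exact Opens.mem_iSup.2 ⟨⟨⟨W, hW⟩, hWU⟩, hzW⟩
    · refine ((QCoh.map_app_comm (Formal.smulMod A M a.1 ≫ η) (homOfLE V.2) s).symm.trans ?_).trans (map_zero _).symm
      refine (((QCoh.unit_app_closed i hM V.1.2).2 _).2 ?_)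
      refine Submodule.smul_mem_smul ?_ Submodule.mem_top
      rw [ker_ideal_of_isPullback sq]
      exact Ideal.mem_map_of_mem _ a.2
  refine ⟨h0, ?_⟩
  let C := cokernel (Formal.smulFamily J M)
  have hk : ∀ a ∈ J, Formal.smulMod A M a ≫ cokernel.π (Formal.smulFamily J M) = 0 := fun a ha => by
    have hι : Sigma.ι (fun _ : J => M) ⟨a, ha⟩ ≫ Formal.smulFamily J M = Formal.smulMod A M a := Sigma.ι_desc _ _
    rw [← hι, Category.assoc, cokernel.condition, comp_zero]
  have hC : Coh.IsQCoh (cokernel (Formal.smulFamily J M)) := QCoh.isQCoh_cokernel (QCoh.isQCoh_colimit (Discrete.functor fun _ : J => M) fun _ => hM) hM _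
  refine QCoh.isIso_of_isBasis _ X.isBasis_affineOpens fun U hU => ?_
  have hπ : Function.Surjective ((cokernel.π (Formal.smulFamily J M)).app U) :=
    QCoh.app_surjective_of_epi hM hC _ hU
  have hd : ∀ m, (cokernel.desc _ _ h0).app U ((cokernel.π (Formal.smulFamily J M)).app U m) = η.app U m :=
    fun m => congr(($(cokernel.π_desc _ _ h0)).app U m)
  refine ⟨(injective_iff_map_eq_zero _).2 fun y hy => ?_, fun z => ?_⟩
  · obtain ⟨m, rfl⟩ := hπ y
    rw [hd] at hy
    have hm := ((QCoh.unit_app_closed i hM hU).2 m).1 hy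
    rw [ker_ideal_of_isPullback sq] at hm
    refine Submodule.smul_induction_on hm (fun b hb n _ => ?_) (fun m m' h h' => ?_)
    · rw [Scheme.Modules.Hom.app_smul]
      exact smul_eq_zero_of_killed (fun a ha => FFun.mem_killIdeal.1 (FFun.le_killIdeal_modJ J M ha)) hb _
    · rw [map_add, h, h', add_zero]
  · obtain ⟨m, rfl⟩ := (QCoh.unit_app_closed i hM hU).1 z
    exact ⟨_, hd m⟩

end Over

end Groth.Agent.AmpleVan
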