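import Groth.Agent.AmpleVan.ThickPush
import Groth.Agent.AmpleVan.Uniform
import Groth.Agent.FComplLib.Thicken
import Groth.Agent.SheafHomX.Smul
import Groth.Agent.QCoh.AffineCohom
import Groth.Agent.ZClosLib.CohDescent

/-!
# Adic systems of schemes over a base ring
-/

set_option linter.style.haveILetI false
set_option backward.isDefEq.respectTransparency false
set_option backward.isDefEq.respectTransparency.types false

universe u

open CategoryTheory CategoryTheory.Limits AlgebraicGeometry TopologicalSpace Opposite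
open Groth.Agent.H23.PicMul

attribute [local instance] HasDerivedCategory.standard

noncomputable section

namespace Groth.Agent.AmpleVan

open Groth.Agent

/-- An adic system of schemes over the thickenings of `V(J)` in `Spec A`. -/
structure AdicSys (A : Type u) [CommRing A] (J : Ideal A) where
  /-- The levels. -/
  X : ℕ → Scheme.{u}
  /-- The structure maps. -/
  p : ∀ k, X k ⟶ Spec (CommRingCat.of (A ⧸ J ^ (k + 1)))
  /-- The transitions. -/
  i : ∀ k, X k ⟶ X (k + 1)
  cart : ∀ k, IsPullback (i k) (p k) (p (k + 1)) (CohB1.specQuotTrans J k)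

namespace AdicSys

variable {A : Type u} [CommRing A] {J : Ideal A} (S : AdicSys A J)

instance overBase (k : ℕ) : (S.X k).Over (Spec (CommRingCat.of A)) := ⟨S.p k ≫ CohB1.specQuot J k⟩

theorem str_eq (k : ℕ) : (S.X k ↘ Spec (CommRingCat.of A)) = S.p k ≫ CohB1.specQuot J k := rfl

/-- The embedding of the bottom level. -/
def j : ∀ k, S.X 0 ⟶ S.X k
  | 0 => 𝟙 _
  | k + 1 => j k ≫ S.i k

/-- The composite transition of bases. -/
def jq (J : Ideal A) : ∀ k, Spec (CommRingCat.of (A ⧸ J ^ (0 + 1))) ⟶ Spec (CommRingCat.of (A ⧸ J ^ (k + 1)))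
  | 0 => 𝟙 _
  | k + 1 => jq J k ≫ CohB1.specQuotTrans J k

theorem jq_specQuot (J : Ideal A) : ∀ k, jq J k ≫ CohB1.specQuot J k = CohB1.specQuot J 0
  | 0 => Category.id_comp _
  | k + 1 => by
    show (jq J k ≫ _) ≫ _ = _
    rw [Category.assoc, CohB1.specQuotTrans_specQuot, jq_specQuot J k]

instance closed_specQuot (J : Ideal A) (k : ℕ) : IsClosedImmersion (CohB1.specQuot J k) :=
  IsClosedImmersion.spec_of_surjective _ Ideal.Quotient.mk_surjective

theorem isClosedImmersion_jq (J : Ideal A) (k : ℕ) : IsClosedImmersion (jq J k) := by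
  haveI : IsClosedImmersion (jq J k ≫ CohB1.specQuot J k) := by rw [jq_specQuot]; infer_instance
  exact IsClosedImmersion.of_comp (jq J k) (CohB1.specQuot J k)

theorem square_of_mono {T₀ T B : Scheme.{u}} (τ : T₀ ⟶ T) (m : T₀ ⟶ B) (m' : T ⟶ B) [Mono m'] (h : τ ≫ m' = m) :
    IsPullback τ (𝟙 T₀) m' m :=
  ⟨⟨by rw [Category.id_comp, h]⟩, ⟨PullbackCone.IsLimit.mk _ (fun s => s.snd)
    (fun s => by rw [← cancel_mono m', Category.assoc, h, s.condition])
    (fun s => Category.comp_id _) (fun s φ _ h₂ => by rw [← h₂, Category.comp_id])⟩⟩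

theorem square_i (k : ℕ) : IsPullback (S.i k) (S.p k) (S.X (k + 1) ↘ Spec (CommRingCat.of A)) (CohB1.specQuot J k) := by
  have h := (S.cart k).paste_vert (square_of_mono (CohB1.specQuotTrans J k) (CohB1.specQuot J k)
    (CohB1.specQuot J (k + 1)) (CohB1.specQuotTrans_specQuot J k))
  rw [Category.comp_id] at h
  exact h

theorem square_j : ∀ k, IsPullback (S.j k) (S.p 0) (S.p k) (jq J k)
  | 0 => by
    haveI : IsIso (S.j 0) := inferInstanceAs (IsIso (𝟙 _))
    haveI : IsIso (jq J 0) := inferInstanceAs (IsIso (𝟙 _))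
    exact IsPullback.of_horiz_isIso ⟨by show 𝟙 _ ≫ _ = _ ≫ 𝟙 _; rw [Category.id_comp, Category.comp_id]⟩
  | k + 1 => by
    show IsPullback (S.j k ≫ S.i k) _ _ (jq J k ≫ CohB1.specQuotTrans J k)
    exact (square_j k).paste_horiz (S.cart k)

theorem square_j' (k : ℕ) : IsPullback (S.j k) (S.p 0) (S.X k ↘ Spec (CommRingCat.of A)) (CohB1.specQuot J 0) := by
  have h := (S.square_j k).paste_vert (square_of_mono (jq J k) (CohB1.specQuot J 0) (CohB1.specQuot J k) (jq_specQuot J k))
  rw [Category.comp_id] at h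
  exact h

theorem i_over (k : ℕ) : S.i k ≫ (S.X (k + 1) ↘ Spec (CommRingCat.of A)) = S.X k ↘ Spec (CommRingCat.of A) :=
  (S.square_i k).w

theorem j_over (k : ℕ) : S.j k ≫ (S.X k ↘ Spec (CommRingCat.of A)) = S.X 0 ↘ Spec (CommRingCat.of A) :=
  (S.square_j' k).w

instance closed_i (k : ℕ) : IsClosedImmersion (S.i k) :=
  MorphismProperty.of_isPullback (S.square_i k).flip (closed_specQuot J k)

instance closed_j (k : ℕ) : IsClosedImmersion (S.j k) :=
  MorphismProperty.of_isPullback (S.square_j' k).flip (closed_specQuot J 0)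

theorem surjective_jq (J : Ideal A) (k : ℕ) : Surjective (jq J k) := by
  refine ⟨fun x => ?_⟩
  obtain ⟨y, hy⟩ : (CohB1.specQuot J k) x ∈ Set.range (CohB1.specQuot J 0) := by
    have h : (CohB1.specQuot J k) x ∈ Set.range (CohB1.specQuot J k) := ⟨x, rfl⟩
    rw [show Set.range (CohB1.specQuot J k) = Set.range (PrimeSpectrum.comap (Ideal.Quotient.mk (J ^ (k + 1)))) from rfl,
      range_comap_of_surjective _ _ Ideal.Quotient.mk_surjective] at h
    rw [show Set.range (CohB1.specQuot J 0) = Set.range (PrimeSpectrum.comap (Ideal.Quotient.mk (J ^ (0 + 1)))) from rfl,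
      range_comap_of_surjective _ _ Ideal.Quotient.mk_surjective]
    rw [Ideal.mk_ker] at h ⊢
    rwa [PrimeSpectrum.zeroLocus_pow J (by omega), ← PrimeSpectrum.zeroLocus_pow J (n := k + 1) (by omega)]
  refine ⟨y, (CohB1.specQuot J k).isClosedEmbedding.injective ?_⟩
  rw [← Scheme.Hom.comp_apply, jq_specQuot, hy]

instance surjective_j (k : ℕ) : Surjective (S.j k) :=
  MorphismProperty.of_isPullback (S.square_j k).flip (surjective_jq J k)

/-- Elements of `J^(k+1)` act as zero on level `k`. -/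
theorem smulMod_eq_zero (k : ℕ) (M : (S.X k).Modules) {a : A} (ha : a ∈ J ^ (k + 1)) :
    Formal.smulMod A M a = 0 := by
  refine QCoh.hom_ext_app fun U m => ?_
  have e0 : (CohB1.specQuot J k).appTop ((Scheme.ΓSpecIso (CommRingCat.of A)).inv a) =
      (Scheme.ΓSpecIso (CommRingCat.of (A ⧸ J ^ (k + 1)))).inv (Ideal.Quotient.mk (J ^ (k + 1)) a) :=
    congr($(Scheme.ΓSpecIso_inv_naturality (CommRingCat.ofHom (Ideal.Quotient.mk (J ^ (k + 1))))) a).symm
  have e1 : Coh.toGlobal (S.X k ↘ Spec (CommRingCat.of A)) a = (0 : Γ(S.X k, ⊤)) := by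
    show (S.p k).appTop ((CohB1.specQuot J k).appTop ((Scheme.ΓSpecIso (CommRingCat.of A)).inv a)) = 0
    rw [e0, Ideal.Quotient.eq_zero_iff_mem.2 ha, map_zero, map_zero]
  show (show Γ(S.X k, U) from Coh.resTop (S.X k) (op U) (Coh.toGlobal (S.X k ↘ Spec (CommRingCat.of A)) a)) • m = 0
  rw [show Coh.toGlobal (S.X k ↘ Spec (CommRingCat.of A)) a = 0 from e1, map_zero, zero_smul]

variable [IsNoetherianRing A]

theorem isProper_str₀ (hp : IsProper (S.p 0)) : IsProper (S.X 0 ↘ Spec (CommRingCat.of A)) := by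
  rw [str_eq]; infer_instance

theorem isLocallyNoetherian (hp : IsProper (S.p 0)) (k : ℕ) : IsLocallyNoetherian (S.X k) := by
  haveI := isClosedImmersion_jq J k
  haveI := surjective_jq J k
  haveI := FComplLib.locallyOfFiniteType_of_thickening (S.square_j k)
  exact LocallyOfFiniteType.isLocallyNoetherian (S.p k)

theorem compactSpace (hp : IsProper (S.p 0)) (k : ℕ) : CompactSpace (S.X k) := by
  haveI : CompactSpace (S.X 0) := QuasiCompact.compactSpace_of_compactSpace (S.p 0)
  exact Function.Surjective.compactSpace (S.j k).continuous (S.j k).surjective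

end AdicSys

section Proj

variable {A : Type u} [CommRing A] {X Z : Scheme.{u}} [X.Over (Spec (CommRingCat.of A))]
  {J : Ideal A} {i : Z ⟶ X} [IsClosedImmersion i] {q : Z ⟶ Spec (CommRingCat.of (A ⧸ J))}
  (sq : IsPullback i q (X ↘ Spec (CommRingCat.of A)) (Spec.map (CommRingCat.ofHom (Ideal.Quotient.mk J))))

include sq in
set_option maxHeartbeats 1000000 in
/-- Twisting a quasi-coherent module killed by `J`. -/
theorem exists_twist_push {P : X.Modules} (hP : Coh.IsQCoh P) (h : ∀ a ∈ J, Formal.smulMod A P a = 0)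
    {N : X.Modules} (hN : PicF.IsInvertible N) :
    Nonempty (CohB1.tensorMod P N ≅ (Scheme.Modules.pushforward i).obj
      (CohB1.tensorMod ((Scheme.Modules.pullback i).obj P) ((Scheme.Modules.pullback i).obj N))) := by
  haveI := isEquivalence_tw hN
  haveI : (tw N).Additive := Functor.additive_of_preserves_binary_products _
  obtain ⟨e⟩ := exists_eq_push_of_killed sq (M := (tw N).obj P)
    (KFlatLib.isQCoh_tensor hP (ProjUPX.isQCoh_of_isInvertible hN)) fun a ha => by
      have h1 : (tw N).map (Formal.smulMod A P a) = Formal.smulMod A ((tw N).obj P) a :=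
        SheafHomX.ten_map_smulMod N P a
      rw [← h1, h a ha, Functor.map_zero]
  obtain ⟨e'⟩ := H23.PicMul.pull i P N
  let e₂ : (Scheme.Modules.pushforward i).obj ((Scheme.Modules.pullback i).obj ((tw N).obj P)) ≅
      (Scheme.Modules.pushforward i).obj
        (CohB1.tensorMod ((Scheme.Modules.pullback i).obj P) ((Scheme.Modules.pullback i).obj N)) :=
    (Scheme.Modules.pushforward i).mapIso e'
  exact ⟨e.trans e₂⟩

/-- A direct image along a closed immersion of an epimorphism of quasi-coherent modules. -/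
theorem epi_push (i : Z ⟶ X) [IsAffineHom i] {M N : Z.Modules} (hM : Coh.IsQCoh M) (hN : Coh.IsQCoh N)
    (φ : M ⟶ N) [Epi φ] : Epi ((Scheme.Modules.pushforward i).map φ) := by
  refine Preadditive.epi_of_cancel_zero _ fun {W} g hg => QCoh.hom_ext_app fun U y => ?_
  refine TopCat.Sheaf.eq_of_locally_eq' ⟨W.presheaf, W.isSheaf⟩
    (fun V : {V : X.affineOpens // V.1 ≤ U} => V.1.1) U (fun V => homOfLE V.2) (fun z hz => ?_) _ _ fun V => ?_
  · obtain ⟨_, ⟨V, hV, rfl⟩, hzV, hVU⟩ := X.isBasis_affineOpens.exists_subset_of_mem_open hz U.isOpen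
    exact Opens.mem_iSup.2 ⟨⟨⟨V, hV⟩, hVU⟩, hzV⟩
  · obtain ⟨m, hm⟩ := QCoh.app_surjective_of_epi hM hN φ (V.1.2.preimage i)
      (((Scheme.Modules.pushforward i).obj N).presheaf.map (homOfLE V.2).op y)
    refine ((QCoh.map_app_comm g (homOfLE V.2) y).symm.trans ?_).trans (map_zero _).symm
    rw [← hm]
    exact congr(($hg).app V.1.1 m)

end Proj

end Groth.Agent.AmpleVan
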