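import Groth.Agent.AmpleVan.Kill
import Groth.Agent.QCoh.Serre
import Groth.Agent.KFlatLib.Scheme.TensorStalk

/-!
# Ampleness from vanishing of first cohomology
-/

set_option linter.style.haveILetI false
set_option backward.isDefEq.respectTransparency false
set_option backward.isDefEq.respectTransparency.types false

universe u

open CategoryTheory CategoryTheory.Limits AlgebraicGeometry TopologicalSpace Opposite MonoidalCategory
open scoped TensorProduct

attribute [local instance] HasDerivedCategory.standard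

noncomputable section

namespace Groth.Agent.AmpleVan

open Groth.Agent InvX
open Groth.Agent.H23.PicMul

variable {X : Scheme.{u}} {L N : X.Modules}

local notation "O_" => Coh.structureModule X

/-- Germs in the maximal ideal times the stalk. -/
def vanAt (M : X.Modules) (z : X) : Submodule (X.presheaf.stalk z) (KFlatLib.stalkMod z (DCoh.toP.obj M)) :=
  IsLocalRing.maximalIdeal (X.presheaf.stalk z) • ⊤

/-- The germ of a section in the stalk module. -/
abbrev germM (M : X.Modules) {U : X.Opens} {z : X} (hz : z ∈ U) (t : Γ(M, U)) :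
    KFlatLib.stalkMod z (DCoh.toP.obj M) :=
  KFlatLib.germP (DCoh.toP.obj M) U hz t

lemma fn_smul_one {U : X.Opens} (f : Γ(O_, U)) :
    QCoh.toFn f • (show Γ(O_, U) from (1 : Γ(X, U))) = f := mul_one (QCoh.toFn f)

/-- The image of `I ⊗ N` in `O ⊗ N` vanishes on the zero set of `I`. -/
theorem twMap_ι_mem {Z : Set X} {z : X} (hz : z ∈ Z) (N : X.Modules) {U : X.Opens} (hzU : z ∈ U)
    (e : Γ((tw N).obj (QCoh.vanIdeal Z).toModules, U)) :
    germM ((tw N).obj O_) hzU (((tw N).map (QCoh.vanIdeal Z).ι).app U e) ∈ vanAt ((tw N).obj O_) z := by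
  let P := DCoh.toP.obj (QCoh.vanIdeal Z).toModules
  let Q := DCoh.toP.obj N
  let u := (KFlatLib.stalkP z).map (KFlatLib.unitShP (P ⊗ Q))
  let f := (KFlatLib.stalkP z).map (DCoh.toP.map ((tw N).map (QCoh.vanIdeal Z).ι))
  haveI := KFlatLib.isIso_stalk_unitShP (x := z) (P ⊗ Q)
  have hu : Function.Surjective u.hom := (ConcreteCategory.bijective_of_isIso u).2
  obtain ⟨w, hw⟩ := hu (KFlatLib.germP _ U hzU e)
  have key : ∀ w, f.hom (u.hom w) ∈ vanAt ((tw N).obj O_) z := fun w => by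
    obtain ⟨v, rfl⟩ := (KFlatLib.tensorStalkEquiv P Q).surjective w
    induction v using TensorProduct.induction_on with
    | zero => rw [map_zero, map_zero, map_zero]; exact zero_mem _
    | add a b ha hb => rw [map_add, map_add, map_add]; exact add_mem ha hb
    | tmul a b =>
      obtain ⟨W, hW, s, t, rfl, rfl⟩ := KFlatLib.exists_germP_pair a b
      have h0 : KFlatLib.tensorStalkEquiv P Q (KFlatLib.germP P W hW s ⊗ₜ KFlatLib.germP Q W hW t) =
          KFlatLib.germP (P ⊗ Q) W hW (KFlatLib.tm s t) := KFlatLib.ofTensor_germ W hW s t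
      rw [h0]
      have h1 : u.hom (KFlatLib.germP (P ⊗ Q) W hW (KFlatLib.tm s t)) =
          KFlatLib.germP (DCoh.toP.obj ((tw N).obj (QCoh.vanIdeal Z).toModules)) W hW
            (tmul (M := (QCoh.vanIdeal Z).toModules) (N := N) s t) :=
        KFlatLib.stalkModMap_germ _ W hW _
      have h2 : f.hom (KFlatLib.germP _ W hW (tmul (M := (QCoh.vanIdeal Z).toModules) (N := N) s t)) =
          germM ((tw N).obj O_) hW (((tw N).map (QCoh.vanIdeal Z).ι).app W (tmul s t)) :=
        KFlatLib.stalkModMap_germ _ W hW _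
      erw [h1, h2, map_tmul_left]
      let fn := QCoh.toFn ((QCoh.vanIdeal Z).ι.app W s)
      have h3 : tmul ((QCoh.vanIdeal Z).ι.app W s) t =
          fn • tmul (show Γ(O_, W) from (1 : Γ(X, W))) t := by
        rw [← tmul_smul_left, fn_smul_one]
      rw [h3]
      have h4 : germM ((tw N).obj O_) hW (fn • tmul (show Γ(O_, W) from (1 : Γ(X, W))) t) =
          X.presheaf.germ W z hW fn • germM ((tw N).obj O_) hW (tmul (show Γ(O_, W) from (1 : Γ(X, W))) t) :=
        KFlatLib.germP_smul (P := DCoh.toP.obj ((tw N).obj O_)) W hW fn _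
      rw [h4]
      exact Submodule.smul_mem_smul ((QCoh.notMem_basicOpen_iff _ z hW).1
        ((QCoh.vanIdeal Z).ι_app_mem W s z hz)) trivial
  have h5 := key w
  rw [hw] at h5
  exact (congrArg (· ∈ vanAt ((tw N).obj O_) z)
    (KFlatLib.stalkModMap_germ (DCoh.toP.map ((tw N).map (QCoh.vanIdeal Z).ι)) U hzU e)).mp h5

/-- A coordinate in a frame of a germ in `vanAt` is in the maximal ideal. -/
theorem coord_mem_maximalIdeal {M : X.Modules} {U : X.Opens} {z : X} (hz : z ∈ U) {t e : Γ(M, U)}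
    (he : IsFrame e) {g : Γ(X, U)} (hg : t = g • e) (ht : germM M hz t ∈ vanAt M z) :
    X.presheaf.germ U z hz g ∈ IsLocalRing.maximalIdeal (X.presheaf.stalk z) := by
  let b := germM M hz e
  have hb : Function.Bijective fun c : X.presheaf.stalk z => c • b := he.germ_bijective hz
  have hsub : ∀ y ∈ vanAt M z, ∃ c ∈ IsLocalRing.maximalIdeal (X.presheaf.stalk z), c • b = y := by
    intro y hy
    refine Submodule.smul_induction_on hy ?_ ?_
    · intro r hr y _
      obtain ⟨d, rfl⟩ := hb.2 y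
      exact ⟨r * d, Ideal.mul_mem_right _ _ hr, mul_smul _ _ _⟩
    · rintro y y' ⟨c, hc, rfl⟩ ⟨c', hc', rfl⟩
      exact ⟨c + c', add_mem hc hc', add_smul _ _ _⟩
  obtain ⟨c, hc, hcb⟩ := hsub _ ht
  have h : germM M hz t = X.presheaf.germ U z hz g • b := by
    rw [hg]
    exact KFlatLib.germP_smul (P := DCoh.toP.obj M) U hz g e
  rwa [← hb.1 (hcb.trans h)]

/-- A closed point with `H¹`-vanishing for the twisted vanishing ideals has an affine generating locus
around it. -/
theorem exists_genLocus_affine (hL : PicF.IsInvertible L)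
    (h : ∀ Z : Set X, IsClosed Z → ∃ n : ℕ,
      Subsingleton (Coh.HH X (CohB1.tensorMod (QCoh.vanIdeal Z).toModules (CohB1.tensorPow L (n + 1))) 1))
    {x : X} (hx : IsClosed ({x} : Set X)) :
    ∃ (n : ℕ) (s : O_ ⟶ CohB1.tensorPow L (n + 1)),
      x ∈ CohB1.genLocus _ s ∧ IsAffineOpen (CohB1.genLocus _ s) := by
  obtain ⟨U₀, hxU₀, e₀, he₀⟩ := exists_frame hL x
  obtain ⟨_, ⟨U, hU₀, rfl⟩, hxU, hle⟩ :=
    X.isBasis_affineOpens.exists_subset_of_mem_open (show x ∈ U₀ from hxU₀) U₀.2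
  have hU : IsAffineOpen U := hU₀
  let Z : Set X := (U : Set X)ᶜ
  let Z' : Set X := insert x Z
  obtain ⟨n, hn⟩ := h Z' (by
    rw [show Z' = {x} ∪ Z from Set.insert_eq x Z]; exact hx.union U.isOpen.isClosed_compl)
  let N := CohB1.tensorPow L (n + 1)
  have hN : PicF.IsInvertible N := InvX.isInvertible_tensorPow hL _
  haveI := isEquivalence_tw hN
  let j := QCoh.SubMod.homOfLE (N := QCoh.vanIdeal Z') (N' := QCoh.vanIdeal Z)
    (QCoh.vanIdeal_mono (Set.subset_insert x Z))
  let S₀ : ShortComplex X.Modules := ShortComplex.mk j (cokernel.π j) (cokernel.condition j)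
  have hS₀ : S₀.ShortExact := { exact := ShortComplex.exact_of_g_is_cokernel _ (cokernelIsCokernel j) }
  let S : ShortComplex X.Modules := S₀.map (tw N)
  have hS : S.ShortExact := hS₀.map_of_exact _
  let τ : Γ(N, U) := AmpleX.powElt (AModX.res L (show U ≤ U₀ from hle) e₀) (n + 1)
  have hτ : IsFrame τ := AmpleX.isFrame_powElt (he₀.res _) _
  let V : X.Opens := ⟨{x}ᶜ, hx.isOpen_compl⟩
  have hone : (show Γ(O_, U) from (1 : Γ(X, U))) ∈ (QCoh.vanIdeal Z).mem U :=
    fun z hz hzb => hz (X.basicOpen_le _ hzb)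
  obtain ⟨e₁, he₁⟩ := (QCoh.vanIdeal Z).exists_app_eq hone
  let q₁ : Γ(S.X₃, U) := S.g.app U (tmul e₁ τ)
  have hcomp : S.X₃.presheaf.map (homOfLE (inf_le_left : U ⊓ V ≤ U)).op q₁ = 0 := by
    have hone' : (show Γ(O_, U ⊓ V) from (1 : Γ(X, U ⊓ V))) ∈
        (QCoh.vanIdeal Z').mem (U ⊓ V) := fun z hz hzb => by
      rcases hz with rfl | hz
      · exact (X.basicOpen_le _ hzb).2 rfl
      · exact hz (X.basicOpen_le _ hzb).1
    obtain ⟨e₂, he₂⟩ := (QCoh.vanIdeal Z').exists_app_eq hone'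
    have he : AModX.res (QCoh.vanIdeal Z).toModules (inf_le_left : U ⊓ V ≤ U) e₁ = j.app (U ⊓ V) e₂ := by
      refine (QCoh.vanIdeal Z).ι_app_injective _ ?_
      rw [AModX.app_res, he₁]
      exact ((map_one (AModX.resR (inf_le_left : U ⊓ V ≤ U))).trans he₂.symm :)
    have : AModX.res S.X₂ (inf_le_left : U ⊓ V ≤ U) (tmul e₁ τ) =
        S.f.app (U ⊓ V) (tmul e₂ (AModX.res N inf_le_left τ)) := by
      refine (res_tmul _ e₁ τ).trans ?_
      rw [he]
      exact (map_tmul_left j e₂ _).symm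
    show AModX.res S.X₃ _ (S.g.app U (tmul e₁ τ)) = 0
    rw [← AModX.app_res, this, QCoh.app_g_f]
  have hcov : (⊤ : X.Opens) ≤ iSup fun b : ULift.{u} Bool => cond b.down U V := fun z _ => by
    by_cases hz : z = x
    · exact Opens.mem_iSup.2 ⟨⟨true⟩, hz ▸ hxU⟩
    · exact Opens.mem_iSup.2 ⟨⟨false⟩, hz⟩
  have hcompat : TopCat.Presheaf.IsCompatible (X := X.toPresheafedSpace.carrier) S.X₃.presheaf
      (fun b : ULift.{u} Bool => cond b.down U V)
      (fun b => match b with
        | ⟨true⟩ => q₁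
        | ⟨false⟩ => (0 : Γ(S.X₃, V))) := by
    rintro ⟨_ | _⟩ ⟨_ | _⟩
    · rfl
    · refine (map_zero (S.X₃.presheaf.map _).hom).trans ?_
      have h' := congrArg (S.X₃.presheaf.map (homOfLE (le_of_eq (inf_comm V U))).op) hcomp
      rw [map_zero, QCoh.map_map] at h'
      exact h'.symm
    · exact hcomp.trans (map_zero (S.X₃.presheaf.map _).hom).symm
    · rfl
  obtain ⟨q, hq, -⟩ := TopCat.Sheaf.existsUnique_gluing' (X := X.toPresheafedSpace.carrier)
    (⟨S.X₃.presheaf, S.X₃.isSheaf⟩ : TopCat.Sheaf AddCommGrpCat.{u} X.toPresheafedSpace.carrier)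
    _ ⊤ (fun _ => homOfLE le_top) hcov _ hcompat
  obtain ⟨e, he⟩ := QCoh.app_top_surjective_of_HH_one hS hn q
  let T : Γ((tw N).obj O_, ⊤) := ((tw N).map (QCoh.vanIdeal Z).ι).app ⊤ e
  let s : O_ ⟶ (tw N).obj O_ := ofSect T
  have hs : InvX.one s = T := one_ofSect T
  have hF : PicF.IsInvertible ((tw N).obj O_) := isInvertible_tensorMod isInvertible_structureModule hN
  have hsU : CohB1.genLocus _ s ≤ U := fun z hz => by
    by_contra hzU
    obtain ⟨W, hzW, hW⟩ := InvX.mem_genLocus hz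
    rw [hs] at hW
    have hm : germM ((tw N).obj O_) hzW (AModX.res _ (le_top : W ≤ ⊤) T) ∈ vanAt ((tw N).obj O_) z := by
      have : AModX.res _ (le_top : W ≤ ⊤) T =
          ((tw N).map (QCoh.vanIdeal Z).ι).app W (AModX.res _ (le_top : W ≤ ⊤) e) :=
        (AModX.app_res _ _ e).symm
      rw [this]
      exact twMap_ι_mem hzU N hzW _
    have h1 := coord_mem_maximalIdeal hzW hW (one_smul _ _).symm hm
    rw [map_one] at h1
    exact (IsLocalRing.maximalIdeal.isMaximal (X.presheaf.stalk z)).ne_top ((Ideal.eq_top_iff_one _).2 h1)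
  let fr : Γ((tw N).obj O_, U) := tmul (show Γ(O_, U) from (1 : Γ(X, U))) τ
  have hfr : IsFrame fr := isFrame_tmul (isFrame_one U) hτ
  obtain ⟨g, hg⟩ := hfr.exists_coord le_rfl (AModX.res _ (le_top : U ≤ ⊤) (InvX.one s))
  rw [AModX.res_self] at hg
  have hgl := InvX.genLocus_inf s hfr hg
  refine ⟨n, ?_⟩
  obtain ⟨φ⟩ : Nonempty ((tw N).obj O_ ≅ N) := cl_eq_iff.1 (by
    show PicF.cl (CohB1.tensorMod O_ N) = _
    rw [cl_tensor, ← H23.PicMul.one_def, one_mul])
  refine ⟨s ≫ φ.hom, ?_⟩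
  rw [InvX.genLocus_comp_iso s φ]
  rw [inf_eq_left.2 hsU] at hgl
  refine ⟨?_, hgl ▸ hU.basicOpen g⟩
  let t₁ : Γ(S.X₂, U) := tmul e₁ τ
  have hd : S.g.app U (AModX.res S.X₂ (le_top : U ≤ ⊤) e - t₁) = 0 := by
    rw [map_sub, AModX.app_res, he, sub_eq_zero]
    exact hq ⟨true⟩
  obtain ⟨a, ha⟩ := QCoh.exists_app_f_eq hS U _ hd
  have hT : ((tw N).map (QCoh.vanIdeal Z').ι).app U a = (g - 1) • fr := by
    have h1 : ((tw N).map (QCoh.vanIdeal Z').ι).app U a =
        ((tw N).map (QCoh.vanIdeal Z).ι).app U (S.f.app U a) := by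
      rw [show (QCoh.vanIdeal Z').ι = j ≫ (QCoh.vanIdeal Z).ι from (QCoh.SubMod.homOfLE_ι _).symm,
        Functor.map_comp]
      rfl
    have h4 : ((tw N).map (QCoh.vanIdeal Z).ι).app U (AModX.res S.X₂ (le_top : U ≤ ⊤) e) = g • fr :=
      (AModX.app_res ((tw N).map (QCoh.vanIdeal Z).ι) le_top e).trans ((congrArg (AModX.res _ le_top) hs.symm).trans hg)
    have h5 : ((tw N).map (QCoh.vanIdeal Z).ι).app U t₁ = fr :=
      (map_tmul_left (QCoh.vanIdeal Z).ι e₁ τ).trans (congrArg (fun z => tmul z τ) he₁)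
    rw [h1, ha, sub_smul, one_smul]
    exact (map_sub (((tw N).map (QCoh.vanIdeal Z).ι).app U).hom _ _).trans
      (congrArg₂ (fun a b => a - b) h4 h5)
  have h2 := coord_mem_maximalIdeal hxU hfr hT (twMap_ι_mem (Set.mem_insert x Z) N hxU a)
  rw [hgl, X.mem_basicOpen g x hxU]
  by_contra hxg
  refine (IsLocalRing.maximalIdeal.isMaximal (X.presheaf.stalk x)).ne_top ((Ideal.eq_top_iff_one _).2 ?_)
  have h3 : X.presheaf.germ U x hxU g ∈ IsLocalRing.maximalIdeal (X.presheaf.stalk x) := hxg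
  rw [map_sub, map_one] at h2
  simpa using sub_mem h3 h2

/-- Vanishing of `H¹` of twisted vanishing ideals implies ampleness. -/
theorem isAmple_of_HH_one [CompactSpace X] (hL : PicF.IsInvertible L)
    (h : ∀ Z : Set X, IsClosed Z → ∃ n : ℕ,
      Subsingleton (Coh.HH X (CohB1.tensorMod (QCoh.vanIdeal Z).toModules (CohB1.tensorPow L (n + 1))) 1)) :
    CohB1.IsAmple L :=
  ⟨hL, inferInstance, fun y => by
    obtain ⟨z, hz, hzc⟩ := IsClosed.exists_closed_singleton (isClosed_closure (s := ({y} : Set X)))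
      ⟨y, subset_closure rfl⟩
    obtain ⟨n, s, hzs, hs⟩ := exists_genLocus_affine hL h hzc
    exact ⟨n, s, (specializes_iff_mem_closure.2 hz).mem_open (CohB1.genLocus _ s).isOpen hzs, hs⟩⟩

end Groth.Agent.AmpleVan
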