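import Groth.Agent.AmpleVan.Mul
import Groth.Agent.AmpleX.ExtendQS

/-!
# Iterated twists and extension of sections
-/

set_option linter.style.haveILetI false
set_option backward.isDefEq.respectTransparency false
set_option backward.isDefEq.respectTransparency.types false

universe u

open CategoryTheory CategoryTheory.Limits AlgebraicGeometry TopologicalSpace Opposite MonoidalCategory

attribute [local instance] HasDerivedCategory.standard

noncomputable section

namespace Groth.Agent.AmpleVan

open Groth.Agent InvX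

variable {X : Scheme.{u}} {M M' L : X.Modules}

/-- The `n`-fold twist by `L`. -/
def itw (L : X.Modules) : ℕ → (X.Modules ⥤ X.Modules)
  | 0 => 𝟭 _
  | n + 1 => itw L n ⋙ tw L

/-- Multiplication by the `n`-th power of `σ`. -/
def pw (σ : Γ(L, ⊤)) : ∀ n, 𝟭 X.Modules ⟶ itw L n
  | 0 => 𝟙 _
  | n + 1 =>
    { app := fun M => (pw σ n).app M ≫ mulSec σ ((itw L n).obj M)
      naturality := fun {M M'} φ => by
        show φ ≫ (pw σ n).app M' ≫ mulSec σ _ = ((pw σ n).app M ≫ mulSec σ _) ≫ (tw L).map _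
        rw [Category.assoc, ← mulSec_naturality]
        exact (Category.assoc _ _ _).symm.trans ((congrArg (· ≫ _) ((pw σ n).naturality φ)).trans (Category.assoc _ _ _)) }

lemma pw_succ (σ : Γ(L, ⊤)) (n : ℕ) (M : X.Modules) :
    (pw σ (n + 1)).app M = (pw σ n).app M ≫ mulSec σ ((itw L n).obj M) := rfl

/-- `M ⊗ O ≅ M` inverts tensoring with one. -/
lemma unit_inv_app {U : X.Opens} (t : Γ(M, U)) :
    (twUnit.inv.app M).app U t = tmul t (show Γ(Coh.structureModule X, U) from (1 : Γ(X, U))) := by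
  have h : ∀ x, (twUnit.inv.app M).app U ((twUnit.hom.app M).app U x) = x := fun x =>
    congr(($(twUnit.hom_inv_id_app M)).app U x)
  refine (congrArg ((twUnit.inv.app M).app U) ?_).trans (h _)
  let P := DCoh.toP.obj M
  let one := (show Γ(Coh.structureModule X, U) from (1 : Γ(X, U)))
  let z := KFlatLib.tm (P := P) (Q := DCoh.toP.obj (Coh.structureModule X)) t one
  show t = ((KFlatLib.counitShP X).app M).app U ((DCoh.shP.map (ρ_ P).hom).app U
    ((KFlatLib.unitShP _).app (op U) z))
  have e1 : (DCoh.shP.map (ρ_ P).hom).app U ((KFlatLib.unitShP _).app (op U) z) =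
      (KFlatLib.unitShP P).app (op U) ((ρ_ P).hom.app (op U) z) :=
    congr(($(KFlatLib.unitShP_naturality (ρ_ P).hom)).app (op U) z).symm
  rw [e1]
  have e2 : (ρ_ P).hom.app (op U) z = t := by
    refine Eq.trans (b := (1 : Γ(X, U)) • t) ?_ (one_smul _ _)
    rfl
  rw [e2]
  exact congr(($((PresheafOfModules.sheafificationAdjunction (𝟙 X.ringCatSheaf.obj)).right_triangle_components M)).app (op U) t).symm

/-- Iterated twists are twists by powers. -/
theorem exists_itwIso (L M : X.Modules) : ∀ n,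
    ∃ θ : (itw L n).obj M ≅ CohB1.tensorMod M (CohB1.tensorPow L n),
      ∀ (s : Γ(L, ⊤)) (U : X.Opens) (t : Γ(M, U)),
        θ.hom.app U (((pw s n).app M).app U t) = tmul t (AmpleX.powElt (AModX.res L (le_top : U ≤ ⊤) s) n) := by
  intro n
  induction n with
  | zero =>
    refine ⟨(twUnit.app M).symm, fun s U t => ?_⟩
    have h : ((pw s 0).app M).app U t = t := rfl
    rw [h]
    exact unit_inv_app t
  | succ n ih =>
    obtain ⟨θ, hθ⟩ := ih
    let e₁ : (tw L).obj ((itw L n).obj M) ≅ (tw L).obj (CohB1.tensorMod M (CohB1.tensorPow L n)) :=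
      (tw L).mapIso θ
    let e₂ : (tw L).obj ((itw L n).obj M) ≅ CohB1.tensorMod M (CohB1.tensorPow L (n + 1)) :=
      e₁.trans (assocT M (CohB1.tensorPow L n) L)
    refine ⟨e₂, fun s U t => ?_⟩
    show (assocT M (CohB1.tensorPow L n) L).hom.app U
      (((tw L).map θ.hom).app U ((mulSec s ((itw L n).obj M)).app U (((pw s n).app M).app U t))) = _
    rw [mulSec_app, map_tmul_left, hθ]
    exact assoc_tmul t _ _

/-- A section over the generating locus extends after multiplication by a power. -/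
theorem exists_extend [CompactSpace X] [QuasiSeparatedSpace X] (hM : Coh.IsQCoh M) (hL : PicF.IsInvertible L)
    (s : Coh.structureModule X ⟶ L) (t : Γ(M, CohB1.genLocus L s)) :
    ∃ n, ∃ T : Γ((itw L n).obj M, ⊤),
      AModX.res _ (le_top : CohB1.genLocus L s ≤ ⊤) T =
        ((pw (InvX.one s) n).app M).app _ t := by
  obtain ⟨n₀, h⟩ := AmpleX.exists_extend' hM hL s t
  obtain ⟨T, hT⟩ := h n₀ le_rfl
  obtain ⟨θ, hθ⟩ := exists_itwIso L M n₀
  refine ⟨n₀, θ.inv.app ⊤ T, ?_⟩
  refine (AModX.app_res θ.inv le_top T).symm.trans ?_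
  rw [hT, ← hθ]
  exact congr(($(θ.hom_inv_id)).app _ _)

/-- A section vanishing on the generating locus is killed by a power. -/
theorem exists_killed [CompactSpace X] (hM : Coh.IsQCoh M) (hL : PicF.IsInvertible L)
    (s : Coh.structureModule X ⟶ L) (t : Γ(M, ⊤))
    (ht : AModX.res M (le_top : CohB1.genLocus L s ≤ ⊤) t = 0) :
    ∃ n, ((pw (InvX.one s) n).app M).app ⊤ t = 0 := by
  obtain ⟨n₀, h⟩ := AmpleX.exists_killed hM hL s t ht
  obtain ⟨θ, hθ⟩ := exists_itwIso L M n₀
  refine ⟨n₀, ?_⟩
  have h1 := hθ (InvX.one s) ⊤ t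
  rw [AModX.res_self, h n₀ le_rfl] at h1
  exact (congr(($(θ.hom_inv_id)).app _ _) : _).symm.trans ((congrArg (θ.inv.app ⊤) h1).trans (map_zero _))

end Groth.Agent.AmpleVan
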