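import Groth.Agent.ChevAffine.Main
import Groth.Agent.AmpleVan.Criterion
import Groth.Agent.AmpleVan.Uniform
import Groth.Agent.AmpleVan.RelVanish
import Groth.Agent.AmpleVan.Pull
import Groth.Agent.KFlatLib.Scheme.ProjLocFree
import Groth.Agent.H23.PullPush
import Groth.Agent.Lib.Euler

/-!
# Ampleness descends along finite surjective morphisms of proper schemes
-/

set_option linter.style.haveILetI false
set_option backward.isDefEq.respectTransparency false
set_option backward.isDefEq.respectTransparency.types false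

universe u

open CategoryTheory CategoryTheory.Limits AlgebraicGeometry TopologicalSpace Opposite
open Groth.Agent.H23.PicMul

noncomputable section

namespace Groth.Agent.AmpleVan.FiniteSurj

open Groth.Agent

attribute [local instance] HasDerivedCategory.standard

/-- The projection formula for an invertible module. -/
theorem nonempty_push_twist {X Y : Scheme.{u}} (f : X ⟶ Y) (K : X.Modules) {N : Y.Modules}
    (hN : PicF.IsInvertible N) :
    Nonempty (CohB1.tensorMod ((Coh.push f).obj K) N ≅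
      (Coh.push f).obj (CohB1.tensorMod K ((Scheme.Modules.pullback f).obj N))) := by
  haveI : HasInjectiveResolutions X.Modules := inferInstance
  haveI : PreservesFiniteLimits (Scheme.Modules.pushforward f) := QCoh.preservesFiniteLimits_push f
  obtain ⟨e⟩ := KFlatLib.nonempty_rpush_tensor_finLocFree f K N (H23.PullPush.isFinLocFree_of_isInvertible hN) 0
  let a : ∀ M : X.Modules, (Coh.Rpush f 0).obj M ≅ (Coh.push f).obj M := fun M =>
    (Scheme.Modules.pushforward f).rightDerivedZeroIsoSelf.app M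
  obtain ⟨e₁⟩ : Nonempty (CohB1.tensorMod ((Coh.push f).obj K) N ≅ CohB1.tensorMod N ((Coh.Rpush f 0).obj K)) :=
    cl_eq_iff.1 (by rw [cl_tensor, cl_tensor, cl_eq_iff.2 ⟨a K⟩, mul_comm])
  obtain ⟨e₂⟩ : Nonempty (CohB1.tensorMod ((Scheme.Modules.pullback f).obj N) K ≅
      CohB1.tensorMod K ((Scheme.Modules.pullback f).obj N)) := cl_eq_iff.1 (by rw [cl_tensor, cl_tensor, mul_comm])
  exact ⟨e₁ ≪≫ e ≪≫ a _ ≪≫ (Coh.push f).mapIso e₂⟩

/-- For an ideal sheaf `J` not passing through `ξ`, the submodule `J G` of a push forward `G` is again a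
push forward of a coherent module. -/
theorem exists_idealMul_push {X Y : Scheme.{u}} (f : Y ⟶ X) [IsAffineHom f] [IsLocallyNoetherian Y] (ξ : X)
    {M : Y.Modules} (hM : Coh.IsCoh M) (J : X.IdealSheafData) (hJ : ξ ∉ (J.support : Set X)) :
    ∃ (K : Y.Modules) (l : (Coh.push f).obj K ⟶ (Coh.push f).obj M), Coh.IsCoh K ∧ Mono l ∧
      l ≫ (Scheme.Modules.pullbackPushforwardAdjunction J.subschemeι).unit.app ((Coh.push f).obj M) = 0 ∧
      Function.Surjective ((TopCat.Presheaf.stalkFunctor _ ξ).map l.mapPresheaf) := by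
  let J' := J.comap f
  let v := (Scheme.Modules.pullbackPushforwardAdjunction J'.subschemeι).unit.app M
  have hpb : Coh.IsQCoh ((Scheme.Modules.pullback J'.subschemeι).obj M) := QCoh.isQCoh_pullback _ hM.1
  have hK : Coh.IsQCoh (kernel v) := QCoh.isQCoh_kernel hM.1 (QCoh.isQCoh_pushforward J'.subschemeι hpb) v
  let l := (Coh.push f).map (kernel.ι v)
  have hG : Coh.IsQCoh ((Coh.push f).obj M) := QCoh.isQCoh_pushforward f hM.1
  have hideal : ∀ U : X.affineOpens, J'.ideal ⟨f ⁻¹ᵁ U.1, U.2.preimage f⟩ = (J.ideal U).map (f.app U.1).hom :=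
    fun U => by
      rw [ModPairLib.ideal_comap J f U ⟨f ⁻¹ᵁ U.1, U.2.preimage f⟩ le_rfl, ← Scheme.Hom.app_eq_appLE]
  refine ⟨kernel v, l, QCoh.isCoh_of_mono (kernel.ι v) hM hK, Functor.map_mono _ _, ?_, ?_⟩
  · refine QCoh.hom_eq_zero_of_affine _ fun U hU x => ?_
    refine ((QCoh.unit_app_closed J.subschemeι hG hU).2 (l.app U x)).2 ?_
    rw [Scheme.IdealSheafData.ker_subschemeι]
    have h0 : v.app (f ⁻¹ᵁ U) ((kernel.ι v).app (f ⁻¹ᵁ U) x) = 0 :=
      congr(($(kernel.condition v)).app (f ⁻¹ᵁ U) x)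
    have h1 := ((QCoh.unit_app_closed J'.subschemeι hM.1 (hU.preimage f)).2 _).1 h0
    rw [Scheme.IdealSheafData.ker_subschemeι, hideal ⟨U, hU⟩] at h1
    refine Submodule.smul_induction_on (p := fun (z : Γ(M, f ⁻¹ᵁ U)) =>
      (show Γ((Coh.push f).obj M, U) from z) ∈ J.ideal ⟨U, hU⟩ • (⊤ : Submodule Γ(X, U) Γ((Coh.push f).obj M, U)))
      h1 (fun b hb m _ => ?_) fun z z' hz hz' => add_mem hz hz'
    refine Submodule.span_induction
      (p := fun b _ => ∀ m : Γ(M, f ⁻¹ᵁ U), (show Γ((Coh.push f).obj M, U) from (show Γ(M, f ⁻¹ᵁ U) from b • m)) ∈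
        J.ideal ⟨U, hU⟩ • (⊤ : Submodule Γ(X, U) Γ((Coh.push f).obj M, U))) ?_ ?_ ?_ ?_ hb m
    · rintro _ ⟨a, ha, rfl⟩ m
      exact Submodule.smul_mem_smul ha (Submodule.mem_top (x := (show Γ((Coh.push f).obj M, U) from m)))
    · intro m; rw [zero_smul]; exact zero_mem _
    · intro b b' _ _ hb hb' m; rw [add_smul]; exact add_mem (hb m) (hb' m)
    · intro c b _ hb m
      rw [smul_eq_mul, mul_comm, mul_smul]
      exact hb (c • m)
  · intro z
    obtain ⟨U₀, hξ₀, y, rfl⟩ := TopCat.Presheaf.exists_germ_eq ((Coh.push f).obj M).presheaf z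
    obtain ⟨_, ⟨U, hU, rfl⟩, hξU, hUsub⟩ := X.isBasis_affineOpens.exists_subset_of_mem_open
      (show ξ ∈ ((U₀ : Set X) ∩ (J.support : Set X)ᶜ) from ⟨hξ₀, hJ⟩)
      (U₀.2.inter J.support.2.isOpen_compl)
    have hle : U ≤ U₀ := fun x hx => (hUsub hx).1
    have hzero : X.zeroLocus (U := U) (J.ideal ⟨U, hU⟩) ∩ U = ∅ := by
      rw [← Scheme.IdealSheafData.coe_support_inter J ⟨U, hU⟩]
      exact Set.eq_empty_of_forall_notMem fun x hx => (hUsub hx.2).2 hx.1
    have htop : J.ideal ⟨U, hU⟩ = ⊤ := by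
      rw [← Ideal.span_eq (J.ideal ⟨U, hU⟩), ← hU.iSup_basicOpen_eq_self_iff]
      refine le_antisymm (iSup_le fun g => X.basicOpen_le _) fun x hx => ?_
      by_contra hne
      refine (Set.eq_empty_iff_forall_notMem.1 hzero x) ⟨(Scheme.mem_zeroLocus_iff _ _ _).2 fun g hg hxg => hne ?_, hx⟩
      exact Opens.mem_iSup.2 ⟨⟨g, hg⟩, hxg⟩
    let y' : Γ(M, f ⁻¹ᵁ U) := ((Coh.push f).obj M).presheaf.map (homOfLE hle).op y
    have hy' : v.app (f ⁻¹ᵁ U) y' = 0 := by
      refine ((QCoh.unit_app_closed J'.subschemeι hM.1 (hU.preimage f)).2 _).2 ?_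
      rw [Scheme.IdealSheafData.ker_subschemeι, hideal ⟨U, hU⟩, htop, Ideal.map_top, Submodule.top_smul]
      trivial
    obtain ⟨x, hx⟩ := QCoh.exists_app_f_eq
      (S := ShortComplex.mk (kernel.ι v) (Abelian.coimage.π v) (cokernel.condition _))
      (.mk' (ShortComplex.exact_of_g_is_cokernel _ (cokernelIsCokernel _)) inferInstance inferInstance)
      (f ⁻¹ᵁ U) y' (QCoh.app_injective (Abelian.factorThruCoimage v) (f ⁻¹ᵁ U) (by
        rw [map_zero]
        exact (congr(($(Abelian.coimage.fac v)).app (f ⁻¹ᵁ U) y') : _).trans hy'))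
    refine ⟨((Coh.push f).obj (kernel v)).presheaf.germ U ξ hξU x, ?_⟩
    rw [TopCat.Presheaf.stalkFunctor_map_germ_apply]
    refine Eq.trans ?_ (((Coh.push f).obj M).presheaf.germ_res_apply (homOfLE hle) ξ hξU y)
    exact congrArg _ hx

/-- Eventual vanishing of `H¹` of the twists. -/
def Good {X : Scheme.{u}} (L M : X.Modules) : Prop :=
  ∃ n₀ : ℕ, ∀ n, n₀ ≤ n → Subsingleton (Coh.HH X (CohB1.tensorMod M (CohB1.tensorPow L n)) 1)

variable {X Y : Scheme.{u}} {L : X.Modules}

theorem good_of_iso {M N : X.Modules} (e : M ≅ N) (h : Good L M) : Good L N := by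
  obtain ⟨n₀, hn⟩ := h
  exact ⟨n₀, fun n h' => QCoh.subsingleton_HH_of_iso (RelVanish.tensor_congr e (Iso.refl _)).some 1 (hn n h')⟩

theorem good_ext (hL : PicF.IsInvertible L) {S : ShortComplex X.Modules} (hS : S.ShortExact)
    (h₁ : Good L S.X₁) (h₃ : Good L S.X₃) : Good L S.X₂ := by
  obtain ⟨a, ha⟩ := h₁
  obtain ⟨b, hb⟩ := h₃
  refine ⟨max a b, fun n hn => ?_⟩
  have hP := InvX.isInvertible_tensorPow hL n
  haveI := isEquivalence_tw hP
  haveI : (tw (CohB1.tensorPow L n)).Additive := Functor.additive_of_preserves_binary_products _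
  exact QCoh.subsingleton_HH_X₂ (hS.map_of_exact (tw (CohB1.tensorPow L n))) 1
    (ha n ((le_max_left _ _).trans hn)) (hb n ((le_max_right _ _).trans hn))

theorem good_of_isZero (hL : PicF.IsInvertible L) {M : X.Modules} (h : IsZero M) : Good L M := by
  refine ⟨0, fun n _ => ?_⟩
  haveI := isEquivalence_tw (InvX.isInvertible_tensorPow hL n)
  haveI : (tw (CohB1.tensorPow L n)).Additive := Functor.additive_of_preserves_binary_products _
  exact Euler.subsingleton_HH_of_isZero ((tw (CohB1.tensorPow L n)).map_isZero h) 1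

/-- Ampleness descends along finite surjective morphisms. -/
theorem isAmple_of_finite_surjective {A : Type u} [CommRing A] [IsNoetherianRing A]
    [X.Over (Spec (CommRingCat.of A))] [IsProper (X ↘ Spec (CommRingCat.of A))]
    (f : Y ⟶ X) [IsFinite f] [Surjective f] (hL : PicF.IsInvertible L)
    (ha : CohB1.IsAmple ((Scheme.Modules.pullback f).obj L)) : CohB1.IsAmple L := by
  haveI := QCoh.hasFiniteBiproducts X
  let π := X ↘ Spec (CommRingCat.of A)
  haveI : IsLocallyNoetherian X := LocallyOfFiniteType.isLocallyNoetherian π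
  haveI : CompactSpace X := QuasiCompact.compactSpace_of_compactSpace π
  haveI : IsNoetherian X := ⟨⟩
  refine isAmple_of_HH_one hL fun C _ => ?_
  suffices H : ∀ M : X.Modules, Coh.IsCoh M → Good L M by
    obtain ⟨n₀, hn⟩ := H _ (QCoh.isCoh_of_mono (QCoh.vanIdeal C).ι QCoh.isCoh_structureModule' (QCoh.isQCoh_vanIdeal C))
    exact ⟨n₀, hn (n₀ + 1) (Nat.le_succ _)⟩
  intro M hM
  refine QCoh.devissage_ideals (Good L) (fun _ _ ⟨e⟩ h => good_of_iso e h) (fun _ h => good_of_isZero hL h)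
    Set.univ (fun S hS _ _ _ h₁ h₃ => good_ext hL hS h₁ h₃) ?_ hM (Set.subset_univ _)
  intro y _ hsmall Z i _ _ hr I ι hι hI hI0
  haveI := hι
  haveI : IsNoetherian Z :=
    { __ := LocallyOfFiniteType.isLocallyNoetherian i
      __ := QuasiCompact.compactSpace_of_compactSpace i }
  let W := pullback f i
  let q : W ⟶ Z := pullback.snd f i
  let p : W ⟶ Y := pullback.fst f i
  haveI : IsFinite q := MorphismProperty.pullback_snd (P := (@IsFinite : MorphismProperty Scheme.{u})) _ _ ‹_›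
  haveI : Surjective q := MorphismProperty.pullback_snd (P := (@Surjective : MorphismProperty Scheme.{u})) _ _ ‹_›
  haveI : IsClosedImmersion p :=
    MorphismProperty.pullback_fst (P := (@IsClosedImmersion : MorphismProperty Scheme.{u})) _ _ ‹_›
  haveI : IsLocallyNoetherian W := LocallyOfFiniteType.isLocallyNoetherian (q ≫ i)
  letI : W.Over (Spec (CommRingCat.of A)) := ⟨(q ≫ i) ≫ π⟩
  haveI : IsProper (W ↘ Spec (CommRingCat.of A)) := inferInstanceAs (IsProper ((q ≫ i) ≫ π))
  haveI : CompactSpace W := QuasiCompact.compactSpace_of_compactSpace (W ↘ Spec (CommRingCat.of A))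
  have hpq : p ≫ f = q ≫ i := pullback.condition
  have haW : CohB1.IsAmple ((Scheme.Modules.pullback (q ≫ i)).obj L) :=
    AmpleX.isAmple_of_iso ((Scheme.Modules.pullbackComp p f).app L ≪≫ (Scheme.Modules.pullbackCongr hpq).app L)
      (isAmple_pullback_of_isEmbedding p p.isClosedEmbedding.isEmbedding ha)
  have hpushgood : ∀ K : W.Modules, Coh.IsCoh K → Good L ((Coh.push (q ≫ i)).obj K) := fun K hK => by
    obtain ⟨d₀, hd⟩ := exists_vanishing (A := A) haW hK
    refine ⟨d₀, fun n hn => ?_⟩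
    have hP := InvX.isInvertible_tensorPow hL n
    obtain ⟨e⟩ := nonempty_push_twist (q ≫ i) K hP
    obtain ⟨e'⟩ := RelVanish.pullback_tensorPow (q ≫ i) L n
    have h1 := QCoh.subsingleton_HH_of_iso (RelVanish.tensor_congr (Iso.refl K) e').some.symm 1 (hd n hn 0)
    obtain ⟨E⟩ := QCoh.HH_push_of_isAffineHom (q ≫ i)
      (KFlatLib.isQCoh_tensor hK.1 (QCoh.isQCoh_pullback (q ≫ i) (ProjUPX.isQCoh_of_isInvertible hP))) 1
    exact QCoh.subsingleton_HH_of_iso e.symm 1 (@Equiv.subsingleton _ _ E.symm.toEquiv h1)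
  have hGc : Coh.IsCoh ((Coh.push (q ≫ i)).obj (Coh.structureModule W)) :=
    QCoh.isCoh_pushforward_finite (q ≫ i) QCoh.isCoh_structureModule'
  have hIc : Coh.IsCoh I := QCoh.isCoh_of_mono ι QCoh.isCoh_structureModule' hI
  obtain ⟨r, hr0, J, u, hJ, hu, hmain⟩ := QCoh.exists_ideal_mul hGc i
    (ChevAffine.mem_support_push_structure i q) (fun a ha m => ChevAffine.smul_eq_zero_of_mem_maximalIdeal i q a ha m)
    ι hIc hI0
  obtain ⟨K, l, hKc, hl, hlu, hls⟩ :=
    exists_idealMul_push (q ≫ i) (i (genericPoint Z)) QCoh.isCoh_structureModule' J hJ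
  haveI := hl
  have hG' : Coh.IsQCoh ((Coh.push (q ≫ i)).obj K) := QCoh.isQCoh_pushforward (q ≫ i) hKc.1
  obtain ⟨t, ht, hc⟩ := hmain _ l hl hG' (by rw [hu]; exact hlu) hls
  haveI := ht
  have hS := QCoh.isCoh_biproduct (fun _ : ULift.{u} (Fin r) => (Coh.push i).obj I) fun _ => QCoh.isCoh_push i hIc
  have hC := QCoh.isCoh_cokernel hG' hS t
  have hsum : Good L (⨁ fun _ : ULift.{u} (Fin r) => (Coh.push i).obj I) := by
    refine good_ext (S := ShortComplex.mk t (cokernel.π t) (cokernel.condition t)) hL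
      (.mk' (ShortComplex.exact_of_g_is_cokernel _ (cokernelIsCokernel t)) ht inferInstance) (hpushgood K hKc)
      (hsmall _ hC ?_ ?_)
    · refine (QCoh.support_of_epi hS.1 hC.1 (cokernel.π t)).trans fun x hx => ?_
      by_contra hx'
      obtain ⟨V, hV, hxV⟩ := QCoh.exists_affine_mem x
      refine ((QCoh.notMem_support_iff hS.1 hV hxV).2 fun m => ?_) hx
      have hAx := (QCoh.notMem_support_iff (QCoh.isCoh_push i hIc).1 hV hxV).1
        (fun h => hx' (hr.le (QCoh.support_push_subset i hI h)))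
      choose g hg hg0 using fun k => hAx
        ((biproduct.π (fun _ : ULift.{u} (Fin r) => (Coh.push i).obj I) k).app V m)
      refine ⟨∏ k, g k, ?_, ?_⟩
      · rw [X.mem_basicOpen _ x hxV, map_prod]
        exact IsUnit.prod_univ_iff.2 fun k => (X.mem_basicOpen (g k) x hxV).1 (hg k)
      · rw [QCoh.biproduct_app_decomp _ V m, Finset.smul_sum]
        refine Finset.sum_eq_zero fun k _ => ?_
        classical
        rw [← Scheme.Modules.Hom.app_smul, ← Finset.mul_prod_erase _ g (Finset.mem_univ k), mul_comm,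
          mul_smul, hg0 k, smul_zero, map_zero]
    · have hy : i (genericPoint Z) = y :=
        (inseparable_iff_closure_eq.2 ((QCoh.range_eq_closure i).symm.trans hr)).eq
      exact hy ▸ hc
  obtain ⟨n₀, hn⟩ := hsum
  refine ⟨n₀, fun n hn' => ?_⟩
  let T := tw (CohB1.tensorPow L n)
  haveI := isEquivalence_tw (InvX.isInvertible_tensorPow hL n)
  haveI : T.Additive := Functor.additive_of_preserves_binary_products _
  exact PnCoh.Finite.subsingleton_HH_of_decomposition (ι := PUnit.{1})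
    (fun _ => T.obj (⨁ fun _ : ULift.{u} (Fin r) => (Coh.push i).obj I))
    (fun _ => T.map (biproduct.ι (fun _ : ULift.{u} (Fin r) => (Coh.push i).obj I) ⟨⟨0, hr0⟩⟩))
    (fun _ => T.map (biproduct.π (fun _ : ULift.{u} (Fin r) => (Coh.push i).obj I) ⟨⟨0, hr0⟩⟩))
    (by simp only [Finset.univ_unique, Finset.sum_singleton]; rw [← T.map_comp, biproduct.ι_π_self, T.map_id]) 1 fun _ => hn n hn'

end Groth.Agent.AmpleVan.FiniteSurj
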