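import Groth.Agent.AmpleVan.FormalTower

/-!
# Grothendieck existence for proper schemes carrying an ample module
-/

set_option linter.style.haveILetI false
set_option backward.isDefEq.respectTransparency false
set_option backward.isDefEq.respectTransparency.types false

universe u

open CategoryTheory CategoryTheory.Limits AlgebraicGeometry TopologicalSpace Opposite

attribute [local instance] HasDerivedCategory.standard
attribute [local instance] Groth.Agent.QCoh.hasFiniteBiproducts

noncomputable section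

namespace Groth.Agent.AmpleVan

open Groth.Agent

variable {A : Type u} [CommRing A] {X : Scheme.{u}} [X.Over (Spec (CommRingCat.of A))] {I : Ideal A}
  {G : ℕᵒᵖ ⥤ X.Modules}

theorem epi_π (I : Ideal A) (M : X.Modules) (n : ℕ) : Epi (Formal.modPowπ I n M) := by
  unfold Formal.modPowπ; infer_instance

section Kernel

variable {E : X.Modules} (φ : ∀ n, E ⟶ G.obj (op n)) (hφ : ∀ n, φ (n + 1) ≫ fstep G n = φ n)
  [∀ n, Epi (φ n)] (hG : Formal.IsCohFormal I G)

/-- The induced map from the completion. -/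
def β (n : ℕ) : Formal.modPow I (n + 1) E ⟶ G.obj (op n) :=
  cokernel.desc _ (φ n) (Algz7.smulFamily_comp_eq_zero (hG.2.1 n) (φ n))

@[reassoc]
theorem π_β (n : ℕ) : Formal.modPowπ I (n + 1) E ≫ β φ hG n = φ n :=
  cokernel.π_desc _ _ _

theorem epi_β (n : ℕ) : Epi (β φ hG n) := by
  haveI : Epi (Formal.modPowπ I (n + 1) E ≫ β φ hG n) := by rw [π_β]; infer_instance
  exact epi_of_epi (Formal.modPowπ I (n + 1) E) _

include hφ in
theorem trans_β (n : ℕ) :
    Formal.modPowTrans I (n + 1) E ≫ β φ hG n = β φ hG (n + 1) ≫ fstep G n := by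
  haveI : Epi (Formal.modPowπ I (n + 1 + 1) E) := epi_π I E _
  rw [← cancel_epi (Formal.modPowπ I (n + 1 + 1) E), ← Category.assoc, Formal.modPowπ_trans, π_β,
    π_β_assoc, hφ]

/-- The transition maps of the kernels. -/
def kT (n : ℕ) : kernel (β φ hG (n + 1)) ⟶ kernel (β φ hG n) :=
  kernel.map _ _ (Formal.modPowTrans I (n + 1) E) (fstep G n) (trans_β φ hφ hG n).symm

@[reassoc]
theorem kT_ι (n : ℕ) : kT φ hφ hG n ≫ kernel.ι (β φ hG n) =
    kernel.ι (β φ hG (n + 1)) ≫ Formal.modPowTrans I (n + 1) E :=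
  kernel.lift_ι _ _ _

theorem completion_step (n : ℕ) :
    fstep (Formal.completion I E) n = Formal.modPowTrans I (n + 1) E :=
  Algz7.completion_map_succ I E n

theorem epi_trans (n : ℕ) : Epi (Formal.modPowTrans I (n + 1) E) := by
  haveI : Epi (Formal.modPowπ I (n + 1 + 1) E ≫ Formal.modPowTrans I (n + 1) E) := by
    rw [Formal.modPowπ_trans]
    exact epi_π I E _
  exact epi_of_epi (Formal.modPowπ I (n + 1 + 1) E) _

include hφ in
theorem epi_kT (hE : Coh.IsCoh E) (n : ℕ) : Epi (kT φ hφ hG n) := by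
  let tE := Formal.modPowTrans I (n + 1) E
  haveI : Epi tE := epi_trans n
  -- the kernel of the upper map surjects onto the kernel of the lower one
  have hEf := Algz7.isCohFormal_completion I hE
  obtain ⟨hE0, hEe⟩ := epi_rho hEf n
  obtain ⟨hG0, hGe⟩ := epi_rho hG n
  let κ : kernel tE ⟶ kernel (fstep G n) :=
    kernel.map _ _ (β φ hG (n + 1)) (β φ hG n) (trans_β φ hφ hG n)
  haveI : Epi κ := by
    haveI := epi_β φ hG (n + 1)
    let J := I ^ (n + 1)
    let σ : (∐ fun _ : ↥J => Formal.modPow I (n + 1 + 1) E) ⟶ ∐ fun _ : ↥J => G.obj (op (n + 1)) :=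
      Limits.Sigma.map fun _ => β φ hG (n + 1)
    haveI : Epi σ := ⟨fun {Z} u v huv => Sigma.hom_ext _ _ fun b => by
      rw [← cancel_epi (β φ hG (n + 1))]
      have := congrArg (Sigma.ι (fun _ : ↥J => Formal.modPow I (n + 1 + 1) E) b ≫ ·) huv
      simpa [σ] using this⟩
    have hz : Formal.smulFamily J (Formal.modPow I (n + 1 + 1) E) ≫ tE = 0 := by
      have h := hE0
      rw [completion_step] at h
      exact h
    have e : kernel.lift tE (Formal.smulFamily J (Formal.modPow I (n + 1 + 1) E)) hz ≫ κ =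
        σ ≫ kernel.lift (fstep G n) (Formal.smulFamily J (G.obj (op (n + 1)))) hG0 := by
      rw [← cancel_mono (kernel.ι (fstep G n)), Category.assoc, Category.assoc, kernel.lift_ι,
        kernel.lift_ι, kernel.lift_ι_assoc]
      refine Sigma.hom_ext _ _ fun b => ?_
      simp [σ, Formal.smulFamily, FFun.smulMod_naturality]
    haveI : Epi (kernel.lift tE (Formal.smulFamily J (Formal.modPow I (n + 1 + 1) E)) hz ≫ κ) := by
      rw [e]
      haveI := hGe
      exact epi_comp _ _
    exact epi_of_epi (kernel.lift tE (Formal.smulFamily J (Formal.modPow I (n + 1 + 1) E)) hz) κ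
  let P := pullback tE (kernel.ι (β φ hG n))
  let p₁ : P ⟶ _ := pullback.fst tE (kernel.ι (β φ hG n))
  let p₂ : P ⟶ kernel (β φ hG n) := pullback.snd tE (kernel.ι (β φ hG n))
  have hp : p₁ ≫ tE = p₂ ≫ kernel.ι (β φ hG n) := pullback.condition
  haveI : Epi p₂ := inferInstanceAs (Epi (pullback.snd _ _))
  let v : P ⟶ kernel (fstep G n) := kernel.lift _ (p₁ ≫ β φ hG (n + 1)) (by
    rw [Category.assoc, ← trans_β φ hφ hG, ← Category.assoc]
    exact (congrArg (· ≫ β φ hG n) hp).trans (by rw [Category.assoc, kernel.condition, comp_zero]))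
  let Q := pullback v κ
  let q : Q ⟶ P := pullback.fst v κ
  let k : Q ⟶ kernel tE := pullback.snd v κ
  have hq : q ≫ v = k ≫ κ := pullback.condition
  haveI : Epi q := inferInstanceAs (Epi (pullback.fst _ _))
  let w : Q ⟶ kernel (β φ hG (n + 1)) := kernel.lift _ (q ≫ p₁ - k ≫ kernel.ι tE) (by
    rw [Preadditive.sub_comp, Category.assoc, Category.assoc, sub_eq_zero,
      ← show κ ≫ kernel.ι (fstep G n) = kernel.ι tE ≫ β φ hG (n + 1) from kernel.lift_ι _ _ _, ← Category.assoc k,
      ← hq, Category.assoc, show v ≫ kernel.ι (fstep G n) = p₁ ≫ β φ hG (n + 1) from kernel.lift_ι _ _ _])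
  have hw : w ≫ kT φ hφ hG n = q ≫ p₂ := by
    rw [← cancel_mono (kernel.ι (β φ hG n)), Category.assoc, kT_ι, ← Category.assoc, kernel.lift_ι,
      Preadditive.sub_comp, Category.assoc, Category.assoc, kernel.condition, comp_zero, sub_zero,
      Category.assoc]
    exact congrArg (q ≫ ·) hp
  haveI : Epi (w ≫ kT φ hφ hG n) := by rw [hw]; exact epi_comp _ _
  exact epi_of_epi w _

variable [IsLocallyNoetherian X] (hE : Coh.IsCoh E)

/-- The tower of kernels. -/
def kerTower : Tower I X where
  H n := kernel (β φ hG n)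
  t := kT φ hφ hG
  epi := epi_kT φ hφ hG hE
  coh n := QCoh.isCoh_kernel ((Algz7.isCohFormal_completion I hE).1 n) (hG.1 n) _
  killed₀ a ha := by
    rw [← cancel_mono (kernel.ι (β φ hG 0)), FFun.smulMod_naturality, zero_comp]
    exact (congrArg (kernel.ι (β φ hG 0) ≫ ·)
      ((Algz7.isCohFormal_completion I hE).2.1 0 a (by rwa [zero_add, pow_one]))).trans comp_zero
  killedKer n a ha := by
    let T := formalTower (Algz7.isCohFormal_completion I hE)
    have h0 : (kernel.ι (kT φ hφ hG n) ≫ kernel.ι (β φ hG (n + 1))) ≫ T.t n = 0 := by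
      show (kernel.ι (kT φ hφ hG n) ≫ kernel.ι (β φ hG (n + 1))) ≫ fstep (Formal.completion I E) n = 0
      rw [completion_step, Category.assoc, ← kT_ι φ hφ hG n, kernel.condition_assoc, zero_comp]
    rw [← cancel_mono (kernel.ι (β φ hG (n + 1))), zero_comp, Category.assoc, FFun.smulMod_naturality,
      ← Category.assoc, ← kernel.lift_ι (T.t n) _ h0, Category.assoc]
    exact (congrArg (_ ≫ ·) (T.killedKer n a ha)).trans comp_zero

variable {r : ℕ} (a : Fin r → A) (ha : ∀ i, a i ∈ I)

/-- The graded kernels inside the graded completion. -/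
def kerJι : ∀ n, (kerTower φ hφ hG hE).J n ⟶ (formalTower (Algz7.isCohFormal_completion I hE)).J n
  | 0 => kernel.ι (β φ hG 0)
  | n + 1 => kernel.map (kT φ hφ hG n) (fstep (Formal.completion I E) n) (kernel.ι (β φ hG (n + 1)))
      (kernel.ι (β φ hG n)) (by rw [completion_step]; exact kT_ι φ hφ hG n)

theorem mono_kerJι : ∀ n, Mono (kerJι φ hφ hG hE n)
  | 0 => inferInstanceAs (Mono (kernel.ι (β φ hG 0)))
  | n + 1 => by
    haveI : Mono (kerJι φ hφ hG hE (n + 1) ≫ kernel.ι (fstep (Formal.completion I E) n)) := by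
      rw [show kerJι φ hφ hG hE (n + 1) ≫ kernel.ι (fstep (Formal.completion I E) n) =
        kernel.ι (kT φ hφ hG n) ≫ kernel.ι (β φ hG (n + 1)) from kernel.lift_ι _ _ _]
      exact mono_comp _ _
    exact mono_of_mono _ (kernel.ι (fstep (Formal.completion I E) n))

theorem kerJι_jι : ∀ n, kerJι φ hφ hG hE n ≫ (formalTower (Algz7.isCohFormal_completion I hE)).jι n =
    (kerTower φ hφ hG hE).jι n ≫ kernel.ι (β φ hG n)
  | 0 => (Category.comp_id _).trans (Category.id_comp _).symm
  | _ + 1 => kernel.lift_ι _ _ _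

theorem kerUp_ι (n : ℕ) (b : A) (hb : b ∈ I) :
    (kerTower φ hφ hG hE).up n b hb ≫ kernel.ι (β φ hG (n + 1)) =
      kernel.ι (β φ hG n) ≫ (formalTower (Algz7.isCohFormal_completion I hE)).up n b hb := by
  let T := kerTower φ hφ hG hE
  let T' := formalTower (Algz7.isCohFormal_completion I hE)
  haveI : Epi (kT φ hφ hG n) := epi_kT φ hφ hG hE n
  have h1 : kT φ hφ hG n ≫ kernel.ι (β φ hG n) = kernel.ι (β φ hG (n + 1)) ≫ T'.t n := by
    refine (kT_ι φ hφ hG n).trans (congrArg (_ ≫ ·) ?_)
    exact (completion_step n).symm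
  rw [← cancel_epi (kT φ hφ hG n), ← Category.assoc]
  refine (congrArg (· ≫ kernel.ι (β φ hG (n + 1))) (T.t_up n b hb)).trans ?_
  refine (FFun.smulMod_naturality (kernel.ι (β φ hG (n + 1))) b).trans ?_
  refine (congrArg (kernel.ι (β φ hG (n + 1)) ≫ ·) (T'.t_up n b hb).symm).trans ?_
  exact (Category.assoc _ _ _).symm.trans ((congrArg (· ≫ T'.up n b hb) h1.symm).trans (Category.assoc _ _ _))

theorem kerJι_comm (n : ℕ) (i : Fin r) :
    ((kerTower φ hφ hG hE).sys a ha).t n i ≫ kerJι φ hφ hG hE (n + 1) =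
      kerJι φ hφ hG hE n ≫ ((formalTower (Algz7.isCohFormal_completion I hE)).sys a ha).t n i := by
  let T := kerTower φ hφ hG hE
  let T' := formalTower (Algz7.isCohFormal_completion I hE)
  rw [← cancel_mono (kernel.ι (T'.t n)), Category.assoc, Category.assoc]
  refine (congrArg ((T.sys a ha).t n i ≫ ·) (kerJι_jι φ hφ hG hE (n + 1))).trans ?_
  refine ((Category.assoc _ _ _).symm.trans (congrArg (· ≫ kernel.ι (β φ hG (n + 1)))
    (kernel.lift_ι (T.t n) _ _))).trans ?_
  refine ((Category.assoc _ _ _).trans (congrArg (T.jι n ≫ ·) (kerUp_ι φ hφ hG hE n (a i) (ha i)))).trans ?_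
  refine ((Category.assoc _ _ _).symm.trans (congrArg (· ≫ T'.up n (a i) (ha i))
    (kerJι_jι φ hφ hG hE n).symm)).trans ?_
  exact (Category.assoc _ _ _).trans (congrArg (kerJι φ hφ hG hE n ≫ ·) (kernel.lift_ι (T'.t n) _ _).symm)

include hE in
theorem exists_genFrom_kerTower [IsNoetherian X] (hspan : Ideal.span (Set.range a) = I) :
    ∃ d, ((kerTower φ hφ hG hE).sys a ha).GenFrom d :=
  haveI := mono_kerJι φ hφ hG hE
  exists_genFrom_of_mono ((formalTower (Algz7.isCohFormal_completion I hE)).sys a ha)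
    ((kerTower φ hφ hG hE).sys a ha) (Tower.isCoh_J _) (Tower.isCoh_J _)
    (genFrom_formalTower _ a ha hspan) (kerJι φ hφ hG hE) (kerJι_comm φ hφ hG hE a ha)

end Kernel

variable [IsNoetherianRing A] [IsAdicComplete I A] [IsProper (X ↘ Spec (CommRingCat.of A))]

/-- Grothendieck existence, for a proper scheme with an ample invertible module. -/
theorem exists_algebraization {L : X.Modules} (hL : CohB1.IsAmple L) (hG : Formal.IsCohFormal I G) :
    ∃ M : X.Modules, Coh.IsCoh M ∧ Nonempty (Formal.completion I M ≅ G) := by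
  haveI : CompactSpace X := compactSpace_of_proper (A := A)
  haveI : IsLocallyNoetherian X := LocallyOfFiniteType.isLocallyNoetherian (X ↘ Spec (CommRingCat.of A))
  haveI : IsNoetherian X := { __ := ‹IsLocallyNoetherian X›, __ := ‹CompactSpace X› }
  obtain ⟨r, a, hspan⟩ := Submodule.fg_iff_exists_fin_generating_family.1 (IsNoetherian.noetherian I)
  replace hspan : Ideal.span (Set.range a) = I := hspan
  have ha : ∀ i, a i ∈ I := fun i => hspan ▸ Ideal.subset_span ⟨i, rfl⟩
  obtain ⟨E, φ, hE, hφ, hφe⟩ : ∃ (E : X.Modules) (φ : ∀ n, E ⟶ G.obj (op n)), Coh.IsCoh E ∧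
      (∀ n, φ (n + 1) ≫ fstep G n = φ n) ∧ ∀ n, Epi (φ n) :=
    (formalTower hG).exists_compatible_epi a ha hL (genFrom_formalTower hG a ha hspan)
  obtain ⟨d, hd⟩ := exists_genFrom_kerTower φ hφ hG hE a ha hspan
  obtain ⟨E', φ', hE', hφ', hφe'⟩ := (kerTower φ hφ hG hE).exists_compatible_epi a ha hL hd
  -- the map of completions
  let b : ∀ n, E' ⟶ Formal.modPow I (n + 1) E := fun n => φ' n ≫ kernel.ι (β φ hG n)
  have hb : ∀ n, b (n + 1) ≫ Formal.modPowTrans I (n + 1) E = b n := fun n => by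
    show (φ' (n + 1) ≫ kernel.ι _) ≫ _ = φ' n ≫ kernel.ι _
    rw [Category.assoc, ← kT_ι φ hφ hG n, ← Category.assoc]
    exact congrArg (· ≫ kernel.ι (β φ hG n)) (hφ' n)
  have hk : ∀ n, Formal.KilledBy (I ^ (n + 1)) (Formal.modPow I (n + 1) E) :=
    (Algz7.isCohFormal_completion I hE).2.1
  let τ : Formal.completion I E' ⟶ Formal.completion I E :=
    NatTrans.ofOpSequence (fun n => cokernel.desc _ (b n) (Algz7.smulFamily_comp_eq_zero (hk n) (b n)))
      (fun n => by
        rw [Algz7.completion_map_succ, Algz7.completion_map_succ]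
        refine (cancel_epi (cokernel.π (Formal.smulFamily (I ^ (n + 1 + 1)) E'))).1 ?_
        refine ((Category.assoc _ _ _).symm.trans ((congrArg (· ≫ _) (Formal.modPowπ_trans I (n + 1) E')).trans
          (cokernel.π_desc _ _ _))).trans ?_
        exact ((Category.assoc _ _ _).symm.trans ((congrArg (· ≫ _) (cokernel.π_desc _ _ _)).trans (hb n))).symm)
  obtain ⟨u, hu, -⟩ := Groth.Agent.S0060.result A I X E' E hE' hE τ
  have hub : ∀ n, u ≫ Formal.modPowπ I (n + 1) E = b n := fun n => by
    refine (hu n).symm.trans ?_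
    exact cokernel.π_desc _ _ _
  let M := cokernel u
  refine ⟨M, QCoh.isCoh_cokernel hE'.1 hE u, ?_⟩
  have huφ : ∀ n, u ≫ φ n = 0 := fun n => by
    rw [← π_β φ hG n, ← Category.assoc, hub, Category.assoc, kernel.condition, comp_zero]
  let f : ∀ n, Formal.modPow I (n + 1) M ⟶ G.obj (op n) := fun n =>
    cokernel.desc _ (cokernel.desc u (φ n) (huφ n)) (Algz7.smulFamily_comp_eq_zero (hG.2.1 n) _)
  have hf : ∀ n, cokernel.π u ≫ Formal.modPowπ I (n + 1) M ≫ f n = φ n := fun n =>
    (congrArg (cokernel.π u ≫ ·) (cokernel.π_desc _ _ _)).trans (cokernel.π_desc _ _ _)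
  have hepi : ∀ n, Epi (cokernel.π u ≫ Formal.modPowπ I (n + 1) M) := fun n =>
    haveI := epi_π I M (n + 1)
    epi_comp _ _
  haveI : ∀ n, IsIso (f n) := fun n => by
    haveI := hepi n
    have hk' : Formal.KilledBy (I ^ (n + 1)) (Formal.modPow I (n + 1) M) :=
      Algz7.killedBy_of_isQuot (Algz7.isQuot_modPowπ I (n + 1) M)
    let g : Formal.modPow I (n + 1) E ⟶ Formal.modPow I (n + 1) M :=
      cokernel.desc _ (cokernel.π u ≫ Formal.modPowπ I (n + 1) M)
        (Algz7.smulFamily_comp_eq_zero hk' _)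
    have hg : kernel.ι (β φ hG n) ≫ g = 0 := by
      haveI : Epi (φ' n) := hφe' n
      rw [← cancel_epi (φ' n), comp_zero, ← Category.assoc]
      refine (congrArg (· ≫ g) (hub n).symm).trans ?_
      rw [Category.assoc]
      refine (congrArg (u ≫ ·) (cokernel.π_desc _ _ _)).trans ?_
      rw [cokernel.condition_assoc, zero_comp]
    haveI := epi_β φ hG n
    have hS : (ShortComplex.mk (kernel.ι (β φ hG n)) (β φ hG n) (kernel.condition _)).ShortExact :=
      { exact := ShortComplex.exact_kernel _, mono_f := inferInstance, epi_g := inferInstance }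
    let h := hS.exact.desc g hg
    have hh : β φ hG n ≫ h = g := hS.exact.g_desc g hg
    have hgπ : Formal.modPowπ I (n + 1) E ≫ g = cokernel.π u ≫ Formal.modPowπ I (n + 1) M :=
      cokernel.π_desc _ _ _
    refine ⟨h, ?_, ?_⟩
    · rw [← cancel_epi (cokernel.π u ≫ Formal.modPowπ I (n + 1) M), Category.comp_id,
        Category.assoc]
      refine (congrArg (cokernel.π u ≫ ·) (Category.assoc _ _ _).symm).trans ?_
      rw [← Category.assoc, hf n, ← π_β φ hG n, Category.assoc, hh, hgπ]
    · rw [← cancel_epi (φ n), Category.comp_id]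
      refine (Category.assoc _ _ _).symm.trans ?_
      refine (congrArg (· ≫ f n) (show φ n ≫ h = cokernel.π u ≫ Formal.modPowπ I (n + 1) M by
        rw [← π_β φ hG n, Category.assoc, hh, hgπ])).trans ?_
      rw [Category.assoc, hf n]
  let F : Formal.completion I M ⟶ G := NatTrans.ofOpSequence f fun n => by
    haveI := hepi (n + 1)
    rw [Algz7.completion_map_succ, ← cancel_epi (cokernel.π u ≫ Formal.modPowπ I (n + 1 + 1) M),
      Category.assoc, Category.assoc]
    refine (congrArg (cokernel.π u ≫ ·) ((Category.assoc _ _ _).symm.trans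
      (congrArg (· ≫ f n) (Formal.modPowπ_trans I (n + 1) M)))).trans ?_
    refine (hf n).trans ?_
    refine (hφ n).symm.trans ?_
    exact ((congrArg (· ≫ fstep G n) (hf (n + 1)).symm).trans (by rw [Category.assoc, Category.assoc]))
  haveI : ∀ k, IsIso (F.app k) := fun k => inferInstanceAs (IsIso (f k.unop))
  haveI : IsIso F := NatIso.isIso_of_isIso_app F
  exact ⟨asIso F⟩

end Groth.Agent.AmpleVan
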