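import Groth.Agent.AmpleVan.Spread
import Groth.Agent.H23.ModLoc
import Groth.Agent.InvX.Tensor
import Groth.Agent.H23.PullPush
import Groth.Agent.QCoh.RpushProper

/-!
# Isomorphisms on a fibre spread out to a neighbourhood
-/

set_option linter.style.haveILetI false
set_option backward.isDefEq.respectTransparency false
set_option backward.isDefEq.respectTransparency.types false

universe u

open CategoryTheory CategoryTheory.Limits AlgebraicGeometry TopologicalSpace Opposite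

noncomputable section

namespace Groth.Agent.AmpleVan

open Groth.Agent

theorem one_inj' {X : Scheme.{u}} {N : X.Modules} :
    Function.Injective (InvX.one : (Coh.structureModule X ⟶ N) → _) :=
  fun s t h => QCoh.hom_ext_app fun W r => by
    rw [InvX.app_eq_smul s r, InvX.app_eq_smul t r, h]

theorem smulMod_eq_of_comp {B A : Type u} [CommRing B] [CommRing A] (f : B →+* A) {Z : Scheme.{u}}
    [Z.Over (Spec (CommRingCat.of B))] [Z.Over (Spec (CommRingCat.of A))]
    (h : (Z ↘ Spec (CommRingCat.of A)) ≫ Spec.map (CommRingCat.ofHom f) = Z ↘ Spec (CommRingCat.of B))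
    (M : Z.Modules) (b : B) : Formal.smulMod B M b = Formal.smulMod A M (f b) := by
  have e : Coh.toGlobal (Z ↘ Spec (CommRingCat.of B)) b = Coh.toGlobal (Z ↘ Spec (CommRingCat.of A)) (f b) := by
    rw [← h]
    show ((Z ↘ Spec (CommRingCat.of A)) ≫ Spec.map (CommRingCat.ofHom f)).appTop
      ((Scheme.ΓSpecIso (CommRingCat.of B)).inv b) = _
    rw [Scheme.Hom.comp_appTop, ConcreteCategory.comp_apply]
    exact congrArg (Z ↘ Spec (CommRingCat.of A)).appTop
      (congr(($((Scheme.ΓSpecIso_inv_naturality (CommRingCat.ofHom f)))) b)).symm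
  exact congrArg (Formal.smulModΓ M) e

theorem isIso_smulMod {A : Type u} [CommRing A] {Z : Scheme.{u}} [Z.Over (Spec (CommRingCat.of A))]
    (M : Z.Modules) {a : A} (ha : IsUnit a) : IsIso (Formal.smulMod A M a) := by
  obtain ⟨u, rfl⟩ := ha
  have h1 : ∀ v : Aˣ, Formal.smulMod A M (v : A) ≫ Formal.smulMod A M ((v⁻¹ : Aˣ) : A) = 𝟙 M := fun v => by
    rw [← FFun.smulMod_mul, Units.inv_mul]
    refine QCoh.hom_ext_app fun U m => ?_
    show (show Γ(Z, U) from Coh.resTop Z (op U) (Coh.toGlobal (Z ↘ Spec (CommRingCat.of A)) 1)) • m = m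
    rw [map_one, map_one]
    exact one_smul _ m
  exact ⟨_, h1 u, by simpa using h1 u⁻¹⟩

theorem isZero_restrict_of_le {X : Scheme.{u}} {K : X.Modules} {U U' : X.Opens} (h : U ≤ U')
    (hK : IsZero (K.restrict U'.ι)) : IsZero (K.restrict U.ι) := by
  refine (IsZero.iff_id_eq_zero _).2 (QCoh.hom_ext_app fun O s => ?_)
  show s = 0
  have hW : U'.ι ''ᵁ (U'.ι ⁻¹ᵁ (U.ι ''ᵁ O)) = U.ι ''ᵁ O := by
    rw [Scheme.Hom.image_preimage_eq_opensRange_inf, Scheme.Opens.opensRange_ι]
    refine inf_eq_right.mpr (fun z hz => ?_)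
    obtain ⟨w, -, rfl⟩ := hz
    exact h w.2
  have h0 : ∀ t : Γ(K, U'.ι ''ᵁ (U'.ι ⁻¹ᵁ (U.ι ''ᵁ O))), t = 0 := fun t =>
    congr(($((IsZero.iff_id_eq_zero _).1 hK)).app (U'.ι ⁻¹ᵁ (U.ι ''ᵁ O)) t)
  rw [hW] at h0
  exact h0 s

/-- The fibre as the closed fibre of the localisation. -/
theorem exists_closedFibre (B : Type u) [CommRing B] {X : Scheme.{u}} [X.Over (Spec (CommRingCat.of B))]
    (x : Spec (CommRingCat.of B)) {X₁ : Scheme.{u}} {g : X₁ ⟶ X}
    {π₁ : X₁ ⟶ Spec (CommRingCat.of (Localization.AtPrime x.asIdeal))}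
    (sq₁ : IsPullback g π₁ (X ↘ Spec (CommRingCat.of B))
      (Spec.map (CommRingCat.ofHom (algebraMap B (Localization.AtPrime x.asIdeal))))) :
    ∃ (i₁ : (X ↘ Spec (CommRingCat.of B)).fiber x ⟶ X₁)
      (q : (X ↘ Spec (CommRingCat.of B)).fiber x ⟶
        Spec (CommRingCat.of (Localization.AtPrime x.asIdeal ⧸ IsLocalRing.maximalIdeal (Localization.AtPrime x.asIdeal)))),
      i₁ ≫ g = (X ↘ Spec (CommRingCat.of B)).fiberι x ∧
      IsPullback i₁ q π₁ (Spec.map (CommRingCat.ofHom (Ideal.Quotient.mk (IsLocalRing.maximalIdeal (Localization.AtPrime x.asIdeal))))) := by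
  let A := Localization.AtPrime x.asIdeal
  let π := X ↘ Spec (CommRingCat.of B)
  let loc := Spec.map (CommRingCat.ofHom (algebraMap B A))
  let Z := π.fiber x
  let i : Z ⟶ X := π.fiberι x
  let J := IsLocalRing.maximalIdeal A
  let t := Spec.map (CommRingCat.ofHom (Ideal.Quotient.mk J))
  let r := Scheme.Spec.residueFieldIso (CommRingCat.of B) x
  let E : CommRingCat.of (A ⧸ J) ≅ (Spec (CommRingCat.of B)).residueField x := r.symm
  let q : Z ⟶ Spec (CommRingCat.of (A ⧸ J)) := π.fiberToSpecResidueField x ≫ Spec.map E.hom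
  have hbig : IsPullback i q π (t ≫ loc) := by
    refine (IsPullback.of_hasPullback π ((Spec (CommRingCat.of B)).fromSpecResidueField x)).of_iso (Iso.refl _)
      (Iso.refl _) (asIso (Spec.map E.hom)) (Iso.refl _) (by simp [i, Scheme.Hom.fiberι])
      (by simp [q, Scheme.Hom.fiberToSpecResidueField]) (by simp) ?_
    simp only [Iso.refl_hom, Category.comp_id, asIso_hom]
    rw [← Spec.map_comp, ← Spec.map_comp]
    refine (Scheme.Spec.map_residueFieldIso_inv_eq_fromSpecResidueField (CommRingCat.of B) x).symm.trans ?_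
    rw [← Spec.map_comp]
    rfl
  let i₁ : Z ⟶ X₁ := sq₁.lift i (q ≫ t) (by rw [Category.assoc]; exact hbig.w)
  have hi : i₁ ≫ g = i := sq₁.lift_fst _ _ _
  have sq₂ : IsPullback i₁ q π₁ t := IsPullback.of_right (by rw [hi]; exact hbig) (sq₁.lift_snd _ _ _) sq₁
  exact ⟨i₁, q, hi, sq₂⟩


/-- An isomorphism on the closed fibre lifts to an isomorphism. -/
theorem exists_iso_lift (A : Type u) [CommRing A] [IsNoetherianRing A] [IsLocalRing A] {X : Scheme.{u}}
    [X.Over (Spec (CommRingCat.of A))] [IsProper (X ↘ Spec (CommRingCat.of A))] [Flat (X ↘ Spec (CommRingCat.of A))]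
    {Z : Scheme.{u}} {i : Z ⟶ X} {q : Z ⟶ Spec (CommRingCat.of (A ⧸ IsLocalRing.maximalIdeal A))}
    (sq : IsPullback i q (X ↘ Spec (CommRingCat.of A)) (Spec.map (CommRingCat.ofHom (Ideal.Quotient.mk (IsLocalRing.maximalIdeal A)))))
    {F G : X.Modules} (hF : FlatMod.IsFinLocFree F) (hG : FlatMod.IsFinLocFree G) {F₀ G₀ : Z.Modules}
    (cF : (Scheme.Modules.pullback i).obj F ≅ F₀) (cG : (Scheme.Modules.pullback i).obj G ≅ G₀) (e : F₀ ≅ G₀)
    (h1 : Subsingleton (Coh.HH Z ((SheafHomX.hom F₀).obj G₀) 1)) : Nonempty (F ≅ G) := by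
  haveI : IsClosedImmersion i :=
    MorphismProperty.of_isPullback sq.flip (IsClosedImmersion.spec_of_surjective _ Ideal.Quotient.mk_surjective)
  haveI : IsLocallyNoetherian X := LocallyOfFiniteType.isLocallyNoetherian (X ↘ Spec (CommRingCat.of A))
  let cH : (SheafHomX.hom F₀).obj G₀ ≅
      (SheafHomX.hom ((Scheme.Modules.pullback i).obj F)).obj ((Scheme.Modules.pullback i).obj G) :=
    { hom := (SheafHomX.homMap cF.hom).app _
      inv := (SheafHomX.homMap cF.inv).app _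
      hom_inv_id := by rw [← SheafHomX.homMap_comp, Iso.inv_hom_id, SheafHomX.homMap_id]
      inv_hom_id := by rw [← SheafHomX.homMap_comp, Iso.hom_inv_id, SheafHomX.homMap_id] } ≪≫
      (SheafHomX.hom _).mapIso cG.symm
  obtain ⟨u, hu⟩ := exists_lift_modPow A F G hF hG sq (subsingleton_of_iso cH 1 h1) (cF ≪≫ e ≪≫ cG.symm).hom
  haveI : IsIso ((Scheme.Modules.pullback i).map u) := by rw [hu]; infer_instance
  haveI := mono_of_fibre sq (CurveDeg.isCoh_of_isFinLocFree hF) (CurveDeg.isCoh_of_isFinLocFree hG)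
    (isFlatOver_of_isFinLocFree A hG) u
  haveI := epi_of_fibre sq (CurveDeg.isCoh_of_isFinLocFree hF).1 (CurveDeg.isCoh_of_isFinLocFree hG) u
  haveI : IsIso u := isIso_of_mono_of_epi u
  exact ⟨asIso u⟩

/-- An isomorphism over the localised base spreads out. -/
theorem exists_iso_of_localization (B : Type u) [CommRing B] {X : Scheme.{u}} [X.Over (Spec (CommRingCat.of B))]
    [IsLocallyNoetherian X] [CompactSpace X] [X.IsSeparated] (S : Submonoid B)
    {A : Type u} [CommRing A] [Algebra B A] [IsLocalization S A] {X₁ : Scheme.{u}}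
    [X₁.Over (Spec (CommRingCat.of A))] (g : X₁ ⟶ X)
    (sq₁ : IsPullback g (X₁ ↘ Spec (CommRingCat.of A)) (X ↘ Spec (CommRingCat.of B))
      (Spec.map (CommRingCat.ofHom (algebraMap B A))))
    {F G : X.Modules} (hF : FlatMod.IsFinLocFree F) (hG : FlatMod.IsFinLocFree G)
    (e₁ : (Scheme.Modules.pullback g).obj F ≅ (Scheme.Modules.pullback g).obj G) :
    ∃ b₁ ∈ S, ∃ b₂ ∈ S, Nonempty (F.restrict ((X ↘ Spec (CommRingCat.of B)) ⁻¹ᵁ (PrimeSpectrum.basicOpen b₁ ⊓ PrimeSpectrum.basicOpen b₂)).ι ≅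
      G.restrict ((X ↘ Spec (CommRingCat.of B)) ⁻¹ᵁ (PrimeSpectrum.basicOpen b₁ ⊓ PrimeSpectrum.basicOpen b₂)).ι) := by
  let π := X ↘ Spec (CommRingCat.of B)
  letI : X₁.Over (Spec (CommRingCat.of B)) := ⟨g ≫ π⟩
  have hcomp : (X₁ ↘ Spec (CommRingCat.of A)) ≫ Spec.map (CommRingCat.ofHom (algebraMap B A)) =
      X₁ ↘ Spec (CommRingCat.of B) := sq₁.w.symm
  let P := Scheme.Modules.pullback g
  let u₁ := e₁.hom
  -- spreading the morphism
  have hFc : Coh.IsCoh F := CurveDeg.isCoh_of_isFinLocFree hF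
  have hGc : Coh.IsCoh G := CurveDeg.isCoh_of_isFinLocFree hG
  let adj := Scheme.Modules.pullbackPushforwardAdjunction g
  let R := Scheme.Modules.pushforward g
  let v : F ⟶ R.obj (P.obj G) := adj.homEquiv _ _ u₁
  let H := SheafHomX.hom F
  let y := (SheafHomX.ev F _).symm v
  obtain ⟨b, hb, w, hw⟩ := exists_global (S := S) (κ := H.map (adj.unit.app G)) (fun z => by
    obtain ⟨U, a, hzU, ⟨ε⟩⟩ := hF z
    exact ⟨U, hzU, IsSIso.hom ε (isSIso_unit S sq₁ hGc.1 U)⟩) (InvX.one y)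
  let z : Coh.structureModule X ⟶ H.obj G := InvX.ofSect w
  let u : F ⟶ G := SheafHomX.ev F G z
  have hz : z ≫ H.map (adj.unit.app G) = y ≫ Formal.smulMod B (H.obj (R.obj (P.obj G))) b := by
    apply one_inj'
    show (H.map (adj.unit.app G)).app ⊤ (InvX.one z) = (Formal.smulMod B (H.obj (R.obj (P.obj G))) b).app ⊤ (InvX.one y)
    rw [InvX.one_ofSect]
    exact hw
  have hu : u ≫ adj.unit.app G = v ≫ R.map (Formal.smulMod B (P.obj G) b) := by
    rw [← SheafHomX.ev_naturality, hz, ← SheafHomX.hom_map_smulMod, SheafHomX.ev_naturality,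
      push_map_smulMod g (rfl : g ≫ (X ↘ Spec (CommRingCat.of B)) = X₁ ↘ Spec (CommRingCat.of B))]
    exact congrArg (· ≫ _) ((SheafHomX.ev F _).apply_symm_apply v)
  have hPu : P.map u = u₁ ≫ Formal.smulMod B (P.obj G) b := by
    apply (adj.homEquiv _ _).injective
    rw [adj.homEquiv_naturality_right, adj.homEquiv_unit]
    refine (adj.unit_naturality u).trans hu
  haveI : IsIso (Formal.smulMod B (P.obj G) b) := by
    rw [smulMod_eq_of_comp (algebraMap B A) hcomp]
    exact isIso_smulMod _ (IsLocalization.map_units A (⟨b, hb⟩ : S))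
  haveI : IsIso (P.map u) := by rw [hPu]; infer_instance
  -- kernel and cokernel die near the fibre
  have hC : Coh.IsCoh (cokernel u) := QCoh.isCoh_cokernel hFc.1 hGc u
  have hK : Coh.IsCoh (kernel u) := QCoh.isCoh_kernel hFc hGc u
  have hzC : IsZero (P.obj (cokernel u)) := by
    refine (IsZero.iff_id_eq_zero _).2 ?_
    rw [← P.map_id, ← cancel_epi (P.map (cokernel.π u)), ← cancel_epi (P.map u), ← P.map_comp, ← P.map_comp,
      Category.comp_id, cokernel.condition, P.map_zero, comp_zero, comp_zero]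
  obtain ⟨b₁, hb₁, hb₁'⟩ := exists_killing S sq₁ hC hzC
  obtain ⟨b₂, hb₂, hb₂'⟩ := exists_killing_of_torsion S hK fun W hW t => by
    let m : Γ(F, W) := (kernel.ι u).app W t
    have hm : u.app W m = 0 := congr(($(kernel.condition u)).app W t)
    have h2 : (R.map (P.map u)).app W ((adj.unit.app F).app W m) = 0 := by
      refine (congr(($(adj.unit_naturality u)).app W m)).trans ?_
      exact (congrArg ((adj.unit.app G).app W) hm).trans (map_zero _)
    have h3 : (adj.unit.app F).app W m = 0 := by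
      refine (ConcreteCategory.bijective_of_isIso ((R.map (P.map u)).app W)).1 ?_
      exact h2.trans (map_zero _).symm
    obtain ⟨b, hb, hbm⟩ := (isSIso_unit S sq₁ hFc.1 W W hW le_rfl).2 m h3
    refine ⟨b, hb, QCoh.app_injective (kernel.ι u) W ?_⟩
    rw [smulMod_app_comm, map_zero]
    exact hbm
  refine ⟨b₁, hb₁, b₂, hb₂, ?_⟩
  let V := π ⁻¹ᵁ (PrimeSpectrum.basicOpen b₁ ⊓ PrimeSpectrum.basicOpen b₂)
  let T := Scheme.Modules.restrictFunctor V.ι
  haveI : Epi (T.map u) := by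
    refine Preadditive.epi_of_isZero_cokernel _ (IsZero.of_iso ?_ (PreservesCokernel.iso T u).symm)
    exact isZero_restrict_of_le (U' := π ⁻¹ᵁ PrimeSpectrum.basicOpen b₁) (fun z hz => hz.1) (isZero_restrict_basicOpen hb₁')
  haveI : Mono (T.map u) := by
    refine Preadditive.mono_of_isZero_kernel _ (IsZero.of_iso ?_ (PreservesKernel.iso T u).symm)
    exact isZero_restrict_of_le (U' := π ⁻¹ᵁ PrimeSpectrum.basicOpen b₂) (fun z hz => hz.2) (isZero_restrict_basicOpen hb₂')
  haveI : IsIso (T.map u) := isIso_of_mono_of_epi _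
  exact ⟨asIso (T.map u)⟩


/-- Isomorphisms on a fibre spread out, over an affine base. -/
theorem exists_iso_near (B : Type u) [CommRing B] [IsNoetherianRing B] {X : Scheme.{u}}
    [X.Over (Spec (CommRingCat.of B))] [IsProper (X ↘ Spec (CommRingCat.of B))] [Flat (X ↘ Spec (CommRingCat.of B))]
    (x : Spec (CommRingCat.of B)) (F G : X.Modules) (hF : FlatMod.IsFinLocFree F) (hG : FlatMod.IsFinLocFree G)
    (e : CohIII.fiberMod (X ↘ Spec (CommRingCat.of B)) F x ≅ CohIII.fiberMod (X ↘ Spec (CommRingCat.of B)) G x)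
    (h1 : Subsingleton (Coh.HH ((X ↘ Spec (CommRingCat.of B)).fiber x)
      ((SheafHomX.hom (CohIII.fiberMod (X ↘ Spec (CommRingCat.of B)) F x)).obj
        (CohIII.fiberMod (X ↘ Spec (CommRingCat.of B)) G x)) 1)) :
    ∃ U : (Spec (CommRingCat.of B)).Opens, x ∈ U ∧
      Nonempty (F.restrict ((X ↘ Spec (CommRingCat.of B)) ⁻¹ᵁ U).ι ≅ G.restrict ((X ↘ Spec (CommRingCat.of B)) ⁻¹ᵁ U).ι) := by
  let π := X ↘ Spec (CommRingCat.of B)
  haveI : IsLocallyNoetherian X := LocallyOfFiniteType.isLocallyNoetherian π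
  haveI : CompactSpace X := QuasiCompact.compactSpace_of_compactSpace π
  haveI : X.IsSeparated := ⟨by
    rw [← Limits.terminal.comp_from π]
    infer_instance⟩
  let S := x.asIdeal.primeCompl
  let A := Localization.AtPrime x.asIdeal
  haveI : IsNoetherianRing A := IsLocalization.isNoetherianRing x.asIdeal.primeCompl A inferInstance
  let loc := Spec.map (CommRingCat.ofHom (algebraMap B A))
  letI : (pullback π loc).Over (Spec (CommRingCat.of A)) := ⟨pullback.snd π loc⟩
  haveI : IsProper (pullback π loc ↘ Spec (CommRingCat.of A)) := inferInstanceAs (IsProper (pullback.snd π loc))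
  haveI : Flat (pullback π loc ↘ Spec (CommRingCat.of A)) := inferInstanceAs (Flat (pullback.snd π loc))
  let g := pullback.fst π loc
  obtain ⟨i₁, q, hi, sq₂⟩ := exists_closedFibre B x (IsPullback.of_hasPullback π loc)
  obtain ⟨e₁⟩ := exists_iso_lift A sq₂ (KFlatLib.isFinLocFree_pullback g hF) (KFlatLib.isFinLocFree_pullback g hG)
    ((Scheme.Modules.pullbackComp i₁ g).app F ≪≫ (Scheme.Modules.pullbackCongr hi).app F)
    ((Scheme.Modules.pullbackComp i₁ g).app G ≪≫ (Scheme.Modules.pullbackCongr hi).app G) e h1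
  obtain ⟨b₁, hb₁, b₂, hb₂, h⟩ := exists_iso_of_localization B S (A := A) g (IsPullback.of_hasPullback π loc) hF hG e₁
  exact ⟨PrimeSpectrum.basicOpen b₁ ⊓ PrimeSpectrum.basicOpen b₂, ⟨hb₁, hb₂⟩, h⟩

end Groth.Agent.AmpleVan

namespace Groth.Agent.AmpleVan

open Groth.Agent

theorem isPullback_overSpec' {X Y : Scheme.{u}} (f : X ⟶ Y) {V : Y.Opens} (hV : IsAffineOpen V) :
    IsPullback (f ⁻¹ᵁ V).ι (QCoh.overSpec f hV) f hV.fromSpec := by
  refine (isPullback_morphismRestrict f V).flip.of_iso (Iso.refl _) (Iso.refl _) hV.isoSpec (Iso.refl _) ?_ ?_ ?_ ?_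
  · simp
  · simp [QCoh.overSpec]
  · simp
  · simp [hV.isoSpec_hom_fromSpec]

/-- Isomorphisms on a fibre spread out. -/
theorem exists_iso_near_fibre {X Y : Scheme.{u}} (f : X ⟶ Y) [IsProper f] [Flat f] [IsLocallyNoetherian Y] (y : Y)
    (F G : X.Modules) (hF : FlatMod.IsFinLocFree F) (hG : FlatMod.IsFinLocFree G)
    (e : CohIII.fiberMod f F y ≅ CohIII.fiberMod f G y)
    (h1 : Subsingleton (Coh.HH (f.fiber y) ((SheafHomX.hom (CohIII.fiberMod f F y)).obj (CohIII.fiberMod f G y)) 1)) :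
    ∃ U : Y.Opens, y ∈ U ∧ Nonempty (F.restrict (f ⁻¹ᵁ U).ι ≅ G.restrict (f ⁻¹ᵁ U).ι) := by
  obtain ⟨_, ⟨V, hV₀, rfl⟩, hyV, -⟩ :=
    Y.isBasis_affineOpens.exists_subset_of_mem_open (Set.mem_univ y) isOpen_univ
  have hV : IsAffineOpen V := hV₀
  let B := Γ(Y, V)
  haveI : IsNoetherianRing B := IsLocallyNoetherian.component_noetherian ⟨V, hV⟩
  let W := f ⁻¹ᵁ V
  letI : (W : Scheme.{u}).Over (Spec (CommRingCat.of B)) := ⟨QCoh.overSpec f hV⟩
  let π := (W : Scheme.{u}) ↘ Spec (CommRingCat.of B)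
  haveI : IsProper π := by
    show IsProper ((f ∣_ V) ≫ hV.isoSpec.hom)
    infer_instance
  haveI : Flat π := by
    show Flat ((f ∣_ V) ≫ hV.isoSpec.hom)
    infer_instance
  haveI : IsLocallyNoetherian (W : Scheme.{u}) := LocallyOfFiniteType.isLocallyNoetherian π
  haveI : CompactSpace (W : Scheme.{u}) := QuasiCompact.compactSpace_of_compactSpace π
  haveI : (W : Scheme.{u}).IsSeparated := ⟨by
    rw [← Limits.terminal.comp_from π]
    infer_instance⟩
  let A := Y.presheaf.stalk y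
  letI : Algebra B A := QCoh.stalkAlg hyV
  haveI : IsLocalization (hV.primeIdealOf ⟨y, hyV⟩).asIdeal.primeCompl A := QCoh.isLocalization_stalk' hV hyV
  haveI : IsNoetherianRing A := IsLocalization.isNoetherianRing (hV.primeIdealOf ⟨y, hyV⟩).asIdeal.primeCompl A inferInstance
  let loc := Spec.map (CommRingCat.ofHom (algebraMap B A))
  have hloc : loc ≫ hV.fromSpec = Y.fromSpecStalk y := hV.fromSpecStalk_eq_fromSpecStalk hyV
  let X₁ := pullback π loc
  letI : X₁.Over (Spec (CommRingCat.of A)) := ⟨pullback.snd π loc⟩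
  haveI : IsProper (X₁ ↘ Spec (CommRingCat.of A)) := inferInstanceAs (IsProper (pullback.snd π loc))
  haveI : Flat (X₁ ↘ Spec (CommRingCat.of A)) := inferInstanceAs (Flat (pullback.snd π loc))
  let g : X₁ ⟶ (W : Scheme.{u}) := pullback.fst π loc
  let t := Spec.map (CommRingCat.ofHom (Ideal.Quotient.mk (IsLocalRing.maximalIdeal A)))
  let q : f.fiber y ⟶ Spec (CommRingCat.of (A ⧸ IsLocalRing.maximalIdeal A)) := f.fiberToSpecResidueField y
  have hres : (t ≫ loc) ≫ hV.fromSpec = Y.fromSpecResidueField y := by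
    rw [Category.assoc, hloc]
    rfl
  have hbig : IsPullback (f.fiberι y) q f ((t ≫ loc) ≫ hV.fromSpec) := by
    rw [hres]
    exact IsPullback.of_hasPullback _ _
  have hpb := isPullback_overSpec' f hV
  let i₀ : f.fiber y ⟶ (W : Scheme.{u}) := hpb.lift (f.fiberι y) (q ≫ t ≫ loc) (by
    rw [Category.assoc, Category.assoc]; exact hbig.w.trans (by rw [Category.assoc]))
  have hi₀ : i₀ ≫ W.ι = f.fiberι y := hpb.lift_fst _ _ _
  have sq₀ : IsPullback i₀ q π (t ≫ loc) := IsPullback.of_right (by rw [hi₀]; exact hbig) (hpb.lift_snd _ _ _) hpb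
  have sq₁ : IsPullback g (pullback.snd π loc) π loc := IsPullback.of_hasPullback π loc
  let i₁ : f.fiber y ⟶ X₁ := sq₁.lift i₀ (q ≫ t) (by rw [Category.assoc]; exact sq₀.w)
  have hi₁ : i₁ ≫ g = i₀ := sq₁.lift_fst _ _ _
  have sq₂ : IsPullback i₁ q (X₁ ↘ Spec (CommRingCat.of A)) t :=
    IsPullback.of_right (by rw [hi₁]; exact sq₀) (sq₁.lift_snd _ _ _) sq₁
  let R := Scheme.Modules.restrictFunctor W.ι
  let c : ∀ M : X.Modules,
      (Scheme.Modules.pullback i₁).obj ((Scheme.Modules.pullback g).obj (R.obj M)) ≅ CohIII.fiberMod f M y := fun M =>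
    (Scheme.Modules.pullbackComp i₁ g).app _ ≪≫ (Scheme.Modules.pullbackCongr hi₁).app _ ≪≫
      (Scheme.Modules.pullback i₀).mapIso ((Scheme.Modules.restrictFunctorIsoPullback W.ι).app M) ≪≫
      (Scheme.Modules.pullbackComp i₀ W.ι).app M ≪≫ (Scheme.Modules.pullbackCongr hi₀).app M
  have hFW : FlatMod.IsFinLocFree (R.obj F) :=
    H23.PullPush.isFinLocFree_of_iso ((Scheme.Modules.restrictFunctorIsoPullback W.ι).app F).symm
      (KFlatLib.isFinLocFree_pullback W.ι hF)
  have hGW : FlatMod.IsFinLocFree (R.obj G) :=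
    H23.PullPush.isFinLocFree_of_iso ((Scheme.Modules.restrictFunctorIsoPullback W.ι).app G).symm
      (KFlatLib.isFinLocFree_pullback W.ι hG)
  obtain ⟨e₁⟩ := exists_iso_lift A sq₂ (KFlatLib.isFinLocFree_pullback g hFW) (KFlatLib.isFinLocFree_pullback g hGW)
    (c F) (c G) e h1
  obtain ⟨b₁, hb₁, b₂, hb₂, ⟨φ⟩⟩ := exists_iso_of_localization B (hV.primeIdealOf ⟨y, hyV⟩).asIdeal.primeCompl (A := A) g
    sq₁ hFW hGW e₁
  let D := PrimeSpectrum.basicOpen b₁ ⊓ PrimeSpectrum.basicOpen b₂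
  refine ⟨hV.fromSpec ''ᵁ D, ⟨hV.primeIdealOf ⟨y, hyV⟩, ⟨hb₁, hb₂⟩, hV.fromSpec_primeIdealOf ⟨y, hyV⟩⟩, ?_⟩
  let U' := f ⁻¹ᵁ (hV.fromSpec ''ᵁ D)
  let P := π ⁻¹ᵁ D
  let k : (P : Scheme.{u}) ⟶ X := P.ι ≫ W.ι
  have hrange : Set.range U'.ι ⊆ Set.range k := by
    rintro _ ⟨z, rfl⟩
    obtain ⟨d, hd, hdz⟩ := z.2
    have hzW : (U'.ι z : X) ∈ W := by
      show f (U'.ι z) ∈ V
      have hr : hV.fromSpec d ∈ Set.range hV.fromSpec := ⟨d, rfl⟩
      rw [hV.range_fromSpec] at hr
      exact hdz ▸ hr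
    have hd' : π (⟨_, hzW⟩ : W) = d := by
      refine hV.fromSpec.isOpenEmbedding.injective ?_
      refine Eq.trans ?_ hdz.symm
      exact (congr($(hpb.w) (⟨_, hzW⟩ : W))).symm
    exact ⟨⟨⟨_, hzW⟩, show π _ ∈ D from hd'.symm ▸ hd⟩, rfl⟩
  let j := IsOpenImmersion.lift k U'.ι hrange
  have hj : j ≫ k = U'.ι := IsOpenImmersion.lift_fac _ _ _
  let d : ∀ M : X.Modules, M.restrict U'.ι ≅ (Scheme.Modules.pullback j).obj ((R.obj M).restrict P.ι) := fun M =>
    (Scheme.Modules.restrictFunctorIsoPullback U'.ι).app M ≪≫ (Scheme.Modules.pullbackCongr hj.symm).app M ≪≫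
      ((Scheme.Modules.pullbackComp j k).app M).symm ≪≫
      (Scheme.Modules.pullback j).mapIso (((Scheme.Modules.pullbackComp P.ι W.ι).app M).symm ≪≫
        (Scheme.Modules.pullback P.ι).mapIso ((Scheme.Modules.restrictFunctorIsoPullback W.ι).app M).symm ≪≫
        ((Scheme.Modules.restrictFunctorIsoPullback P.ι).app (R.obj M)).symm)
  exact ⟨d F ≪≫ (Scheme.Modules.pullback j).mapIso φ ≪≫ (d G).symm⟩

end Groth.Agent.AmpleVan
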