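import Groth.Agent.AmpleVan.AmpleLocal
import Groth.Agent.AmpleVan.SpreadFibre
import Groth.Agent.InvX.GenLocusPull
import Groth.Agent.AmpleX.Basis

/-!
# Ampleness on a fibre spreads out to a neighbourhood
-/

set_option linter.style.haveILetI false
set_option backward.isDefEq.respectTransparency false
set_option backward.isDefEq.respectTransparency.types false

universe u

open CategoryTheory CategoryTheory.Limits AlgebraicGeometry TopologicalSpace Opposite

noncomputable section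

namespace Groth.Agent.AmpleVan.Near

open Groth.Agent

theorem isFrame_iff_of_smul {X : Scheme.{u}} {M : X.Modules} {U : X.Opens} {a b : Γ(M, U)} {c : Γ(X, U)}
    (hc : IsUnit c) (h : a = c • b) : InvX.IsFrame a ↔ InvX.IsFrame b := by
  subst h
  obtain ⟨c, rfl⟩ := hc
  refine ⟨fun ha => ?_, fun hb => hb.isUnit_smul c.isUnit⟩
  have := ha.isUnit_smul (c⁻¹).isUnit
  rwa [smul_smul, Units.inv_mul, one_smul] at this

/-- The generating locus only depends on the section up to units. -/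
theorem genLocus_pullElt {X Y : Scheme.{u}} (u : Y ⟶ X) {M : X.Modules} (hM : PicF.IsInvertible M)
    (s : Coh.structureModule X ⟶ M) (s₁ : Coh.structureModule Y ⟶ (Scheme.Modules.pullback u).obj M)
    {c : Γ(Y, ⊤)} (hcu : IsUnit c)
    (hone : InvX.one s₁ = c • (show Γ((Scheme.Modules.pullback u).obj M, ⊤) from InvX.pullElt u (U := ⊤) (InvX.one s))) :
    CohB1.genLocus _ s₁ = u ⁻¹ᵁ CohB1.genLocus M s := by
  refine Opens.ext (Set.ext fun y => ?_)
  obtain ⟨U, hyU, ε, hε⟩ := InvX.exists_frame hM (u y)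
  obtain ⟨g, hg⟩ := hε.exists_coord le_rfl (AModX.res M (le_top : U ≤ ⊤) (InvX.one s))
  rw [AModX.res_self] at hg
  have h' : AModX.res _ (le_top : u ⁻¹ᵁ U ≤ ⊤) (InvX.one s₁) =
      (AModX.resR (le_top : u ⁻¹ᵁ U ≤ ⊤) c * u.app U g) • InvX.pullElt u ε := by
    rw [hone, AModX.res_smul, mul_smul, ← InvX.pullElt_smul, ← hg]
    exact congrArg _ (InvX.res_pullElt u (le_top : U ≤ ⊤) _)
  have h1 := congrArg (fun V : Y.Opens => y ∈ V) (InvX.genLocus_inf s₁ (InvX.isFrame_pullElt u hε) h')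
  have h2 := congrArg (fun V : X.Opens => u y ∈ V) (InvX.genLocus_inf s hε hg)
  have hbU : Y.basicOpen (AModX.resR (le_top : u ⁻¹ᵁ U ≤ ⊤) c) = u ⁻¹ᵁ U := Y.basicOpen_of_isUnit (hcu.map _)
  rw [Scheme.basicOpen_mul, hbU, ← Scheme.preimage_basicOpen, ← Scheme.Hom.preimage_inf,
    inf_eq_right.2 (X.basicOpen_le g)] at h1
  have hyU' : y ∈ u ⁻¹ᵁ U := hyU
  simp only [Opens.mem_inf, hyU, hyU', and_true, eq_iff_iff] at h1 h2
  exact h1.trans h2.symm

theorem smulMod_app_top {A : Type u} [CommRing A] {X : Scheme.{u}} [X.Over (Spec (CommRingCat.of A))]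
    (M : X.Modules) (a : A) (m : Γ(M, ⊤)) :
    (Formal.smulMod A M a).app ⊤ m = (show Γ(X, ⊤) from Coh.toGlobal (X ↘ Spec (CommRingCat.of A)) a) • m := by
  show (show Γ(X, ⊤) from X.presheaf.map (homOfLE le_top).op (Coh.toGlobal (X ↘ Spec (CommRingCat.of A)) a)) • m = _
  congr 1
  exact congr($(X.presheaf.map_id (op ⊤)) _)

/-- Generating loci over a localisation of the base come from the base. -/
theorem exists_genLocus_lift {B : Type u} [CommRing B] {X : Scheme.{u}} [X.Over (Spec (CommRingCat.of B))]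
    [CompactSpace X] [X.IsSeparated] (S : Submonoid B) {A : Type u} [CommRing A] [Algebra B A]
    [IsLocalization S A] {X₁ : Scheme.{u}} [X₁.Over (Spec (CommRingCat.of A))] (g : X₁ ⟶ X)
    (sq : IsPullback g (X₁ ↘ Spec (CommRingCat.of A)) (X ↘ Spec (CommRingCat.of B))
      (Spec.map (CommRingCat.ofHom (algebraMap B A))))
    {N : X.Modules} (hN : PicF.IsInvertible N) (s₁ : Coh.structureModule X₁ ⟶ (Scheme.Modules.pullback g).obj N) :
    ∃ s : Coh.structureModule X ⟶ N, g ⁻¹ᵁ CohB1.genLocus N s = CohB1.genLocus _ s₁ := by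
  let N₁ := (Scheme.Modules.pullback g).obj N
  let η : N ⟶ (Scheme.Modules.pushforward g).obj N₁ := (Scheme.Modules.pullbackPushforwardAdjunction g).unit.app N
  let σ : Γ((Scheme.Modules.pushforward g).obj N₁, ⊤) := InvX.one (L := N₁) s₁
  obtain ⟨b, hb, t, ht⟩ := exists_global (S := S) (κ := η) (fun x =>
    ⟨⊤, trivial, isSIso_unit S sq (ProjUPX.isQCoh_of_isInvertible hN) ⊤⟩) σ
  rw [smulMod_app_top] at ht
  let c : Γ(X₁, ⊤) := g.app ⊤ (Coh.toGlobal (X ↘ Spec (CommRingCat.of B)) b)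
  have hc : IsUnit c := by
    have h1 : c = Coh.toGlobal (X₁ ↘ Spec (CommRingCat.of A)) (algebraMap B A b) :=
      (QCoh.toGlobal_comm _ _ g sq.w b).symm
    rw [h1]
    exact (IsLocalization.map_units A (⟨b, hb⟩ : S)).map _
  have ht' : (show Γ(N₁, ⊤) from InvX.pullElt g (U := ⊤) t) = c • InvX.one s₁ := by
    refine Eq.trans ?_ (ht.trans ?_) <;> rfl
  obtain ⟨c, hc'⟩ := hc
  refine ⟨InvX.ofSect t, (genLocus_pullElt g hN (InvX.ofSect t) s₁ (c := (↑c⁻¹ : Γ(X₁, ⊤))) c⁻¹.isUnit ?_).symm⟩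
  rw [InvX.one_ofSect, ht', ← hc', smul_smul, Units.inv_mul, one_smul]

/-- A locally closed set with no points over generisations of `y` misses a neighbourhood of the fibre. -/
theorem exists_basicOpen_avoid {B : Type u} [CommRing B] {X : Scheme.{u}} [NoetherianSpace X]
    (π : X ⟶ Spec (CommRingCat.of B)) [UniversallyClosed π] (y : Spec (CommRingCat.of B)) (O U : X.Opens)
    (h : ∀ z ∈ O, π z ⤳ y → z ∈ U) :
    ∃ b : B, y ∈ PrimeSpectrum.basicOpen b ∧ O ⊓ π ⁻¹ᵁ (PrimeSpectrum.basicOpen b) ≤ U := by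
  let Z : Set X := (O : Set X) \ (U : Set X)
  have hy : y ∉ π '' closure Z := by
    rintro ⟨x, hx, rfl⟩
    obtain ⟨T, hT, -, hTi, hTu⟩ := NoetherianSpace.exists_finite_set_isClosed_irreducible (α := Z) isClosed_univ
    have hZ : Z = ⋃ t ∈ T, Subtype.val '' t := by
      rw [← Set.image_iUnion₂, ← Set.sUnion_eq_biUnion, ← hTu, Set.image_univ, Subtype.range_coe]
    rw [hZ, hT.closure_biUnion] at hx
    obtain ⟨t, htT, hxt⟩ := Set.mem_iUnion₂.1 hx
    have hirr : IsIrreducible (Subtype.val '' t) := (hTi t htT).image _ continuous_subtype_val.continuousOn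
    have hgen := hirr.isGenericPoint_genericPoint_closure
    obtain ⟨w, hw⟩ := hirr.1
    have hsub : Subtype.val '' t ⊆ Z := fun z ⟨a, _, e⟩ => e ▸ a.2
    have hηO : hirr.genericPoint ∈ O := (hgen.specializes (subset_closure hw)).mem_open O.2 (hsub hw).1
    have hηU : hirr.genericPoint ∉ U := fun hU => by
      obtain ⟨v, hvU, hv⟩ := mem_closure_iff.1 hgen.mem U U.2 hU
      exact (hsub hv).2 hvU
    exact hηU (h _ hηO ((hgen.specializes hxt).map π.continuous))
  obtain ⟨_, ⟨b, rfl⟩, hyb, hb⟩ := PrimeSpectrum.isTopologicalBasis_basic_opens.exists_subset_of_mem_open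
    (show y ∈ (π '' closure Z)ᶜ from hy) (π.isClosedMap _ isClosed_closure).isOpen_compl
  refine ⟨b, hyb, fun z hz => ?_⟩
  by_contra hzU
  exact hb hz.2 ⟨z, subset_closure ⟨hz.1, hzU⟩, rfl⟩

theorem mem_range_of_specializes {B : Type u} [CommRing B] (y : PrimeSpectrum B) {A : Type u} [CommRing A]
    [Algebra B A] [IsLocalization y.asIdeal.primeCompl A] {X X₁ : Scheme.{u}} {π : X ⟶ Spec (CommRingCat.of B)}
    {π₁ : X₁ ⟶ Spec (CommRingCat.of A)} {g : X₁ ⟶ X}
    (sq : IsPullback g π₁ π (Spec.map (CommRingCat.ofHom (algebraMap B A)))) (x : X) (hx : π x ⤳ y) :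
    ∃ z, g z = x := by
  have h1 : π x ∈ Set.range (PrimeSpectrum.comap (algebraMap B A)) := by
    rw [PrimeSpectrum.localization_comap_range A y.asIdeal.primeCompl]
    exact Set.disjoint_left.2 fun a ha ha' => ha ((PrimeSpectrum.le_iff_specializes _ _).2 hx ha')
  obtain ⟨a, ha⟩ := h1
  obtain ⟨z, hz, -⟩ := Scheme.Pullback.exists_preimage_pullback (f := π)
    (g := Spec.map (CommRingCat.ofHom (algebraMap B A))) x a ha.symm
  exact ⟨sq.isoPullback.inv z, by rw [← Scheme.Hom.comp_apply, sq.isoPullback_inv_fst]; exact hz⟩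

theorem isAffineOpen_genLocus_inf {B : Type u} [CommRing B] {X : Scheme.{u}} (π : X ⟶ Spec (CommRingCat.of B))
    {N : X.Modules} (hN : PicF.IsInvertible N) (s : Coh.structureModule X ⟶ N) {U : X.Opens} (hU : IsAffineOpen U)
    (b : B) (h : CohB1.genLocus N s ⊓ π ⁻¹ᵁ (PrimeSpectrum.basicOpen b) ≤ U) :
    IsAffineOpen (CohB1.genLocus N s ⊓ π ⁻¹ᵁ (PrimeSpectrum.basicOpen b)) := by
  haveI : IsAffine U.toScheme := hU
  haveI : IsAffineHom (CohB1.genLocus N s).ι := InvX.isAffineHom_genLocus_ι hN s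
  let V : X.Opens := U.ι ''ᵁ ((U.ι ≫ π) ⁻¹ᵁ (PrimeSpectrum.basicOpen b))
  have hV : IsAffineOpen V :=
    ((IsAffineOpen.Spec_basicOpen (R := CommRingCat.of B) b).preimage (U.ι ≫ π)).image_of_isOpenImmersion U.ι
  have hV' : V = U ⊓ π ⁻¹ᵁ (PrimeSpectrum.basicOpen b) := by
    show U.ι ''ᵁ ((U.ι ≫ π) ⁻¹ᵁ _) = _
    rw [Scheme.Hom.comp_preimage, Scheme.Hom.image_preimage_eq_opensRange_inf, Scheme.Opens.opensRange_ι]
  have h1 : IsAffineOpen ((CohB1.genLocus N s).ι ''ᵁ ((CohB1.genLocus N s).ι ⁻¹ᵁ V)) :=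
    (hV.preimage (CohB1.genLocus N s).ι).image_of_isOpenImmersion _
  rw [Scheme.Hom.image_preimage_eq_opensRange_inf, Scheme.Opens.opensRange_ι, hV'] at h1
  convert h1 using 1
  exact le_antisymm (le_inf inf_le_left (le_inf h inf_le_right)) (le_inf inf_le_left (inf_le_right.trans inf_le_right))

/-- Ampleness over a localisation of the base spreads out. -/
theorem exists_basicOpen_isAmple {B : Type u} [CommRing B] [IsNoetherianRing B] {X : Scheme.{u}}
    [X.Over (Spec (CommRingCat.of B))] [IsProper (X ↘ Spec (CommRingCat.of B))]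
    (y : PrimeSpectrum B) {A : Type u} [CommRing A] [Algebra B A] [IsLocalization y.asIdeal.primeCompl A]
    {X₁ : Scheme.{u}} [X₁.Over (Spec (CommRingCat.of A))] (g : X₁ ⟶ X)
    (sq : IsPullback g (X₁ ↘ Spec (CommRingCat.of A)) (X ↘ Spec (CommRingCat.of B))
      (Spec.map (CommRingCat.ofHom (algebraMap B A))))
    {L : X.Modules} (hL : PicF.IsInvertible L) (ha : CohB1.IsAmple ((Scheme.Modules.pullback g).obj L)) :
    ∃ b : B, y ∈ PrimeSpectrum.basicOpen b ∧
      CohB1.IsAmple ((Scheme.Modules.pullback ((X ↘ Spec (CommRingCat.of B)) ⁻¹ᵁ PrimeSpectrum.basicOpen b).ι).obj L) := by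
  classical
  let π := X ↘ Spec (CommRingCat.of B)
  haveI : IsLocallyNoetherian X := LocallyOfFiniteType.isLocallyNoetherian π
  haveI : CompactSpace X := QuasiCompact.compactSpace_of_compactSpace π
  haveI : IsNoetherian X := ⟨⟩
  haveI : X.IsSeparated := ⟨by
    rw [← Limits.terminal.comp_from π]
    infer_instance⟩
  haveI := AmpleX.isSeparated_of_isAmple ha
  haveI : CompactSpace X₁ := ha.2.1
  have key : ∀ z : X₁, ∃ (m : ℕ) (_ : 0 < m) (s : Coh.structureModule X ⟶ CohB1.tensorPow L m) (U : X.Opens),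
      IsAffineOpen U ∧ g z ∈ CohB1.genLocus _ s ∧ g ⁻¹ᵁ CohB1.genLocus _ s ≤ g ⁻¹ᵁ U := fun z => by
    obtain ⟨_, ⟨U, hU, rfl⟩, hzU, -⟩ :=
      X.isBasis_affineOpens.exists_subset_of_mem_open (Set.mem_univ (g z)) isOpen_univ
    obtain ⟨m, hm, s₁, hz, hle, -⟩ := AmpleX.exists_genLocus_le ha (U := g ⁻¹ᵁ U) (x := z) hzU
    obtain ⟨e⟩ := RelVanish.pullback_tensorPow g L m
    obtain ⟨s, hs⟩ := exists_genLocus_lift y.asIdeal.primeCompl g sq (InvX.isInvertible_tensorPow hL m) (s₁ ≫ e.inv)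
    have h := hs.trans (InvX.genLocus_comp_iso s₁ e.symm)
    exact ⟨m, hm, s, U, hU, h.ge hz, h.le.trans hle⟩
  choose m hm s U hU hzs hsU using key
  let O : X₁ → X.Opens := fun z => CohB1.genLocus _ (s z)
  obtain ⟨K, hK⟩ := isCompact_univ.elim_finite_subcover (fun z => ((g ⁻¹ᵁ O z : X₁.Opens) : Set X₁))
    (fun z => (g ⁻¹ᵁ O z).2) fun z _ => Set.mem_iUnion.2 ⟨z, hzs z⟩
  have hgen : ∀ z : X₁, ∀ x ∈ O z, π x ⤳ y → x ∈ U z := fun z x hx hxy => by
    obtain ⟨w, rfl⟩ := mem_range_of_specializes y sq x hxy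
    exact hsU z hx
  choose b hb hbU using fun z : X₁ => exists_basicOpen_avoid π y (O z) (U z) (hgen z)
  obtain ⟨b', hb', hb'U⟩ := exists_basicOpen_avoid π y ⊤ (⨆ z ∈ K, O z) fun x _ hxy => by
    obtain ⟨w, rfl⟩ := mem_range_of_specializes y sq x hxy
    obtain ⟨z, hzK, hwz⟩ := Set.mem_iUnion₂.1 (hK (Set.mem_univ w))
    exact Opens.mem_iSup.2 ⟨z, Opens.mem_iSup.2 ⟨hzK, hwz⟩⟩
  let c := b' * ∏ z ∈ K, b z
  have hc : y ∈ PrimeSpectrum.basicOpen c := by
    show c ∉ y.asIdeal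
    exact fun h => (y.isPrime.mem_or_mem h).elim hb' fun h' => by
      obtain ⟨z, -, hz⟩ := y.isPrime.prod_mem_iff.1 h'
      exact hb z hz
  have hc' : PrimeSpectrum.basicOpen c ≤ PrimeSpectrum.basicOpen b' := PrimeSpectrum.basicOpen_mul_le_left _ _
  have hcz : ∀ z ∈ K, PrimeSpectrum.basicOpen c ≤ PrimeSpectrum.basicOpen (b z) := fun z hz p hp hbz =>
    hp (p.asIdeal.mul_mem_left _ (p.asIdeal.mem_of_dvd (Finset.dvd_prod_of_mem b hz) hbz))
  refine ⟨c, hc, ?_⟩
  let W := π ⁻¹ᵁ PrimeSpectrum.basicOpen c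
  haveI : QuasiCompact W.ι := inferInstance
  haveI : CompactSpace W.toScheme := QuasiCompact.compactSpace_of_compactSpace W.ι
  refine AmpleX.isAmple_iff.2 ⟨PicClLib.isInvertible_pullback W.ι hL, inferInstance, fun x => ?_⟩
  obtain ⟨z, hz⟩ := Opens.mem_iSup.1 (hb'U ⟨trivial, hc' x.2⟩)
  obtain ⟨hzK, hxz⟩ := Opens.mem_iSup.1 hz
  obtain ⟨e⟩ := RelVanish.pullback_tensorPow W.ι L (m z)
  obtain ⟨e₀⟩ := PicClLib.nonempty_pullback_structureModule W.ι
  have hg := InvX.genLocus_pullback W.ι (InvX.isInvertible_tensorPow hL (m z)) (s z) e₀.symm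
  refine ⟨m z, hm z, (e₀.symm.hom ≫ (Scheme.Modules.pullback W.ι).map (s z)) ≫ e.hom, ?_, ?_⟩
  · rw [InvX.genLocus_comp_iso, hg]
    exact hxz
  · rw [InvX.genLocus_comp_iso, hg]
    apply (W.ι.isAffineOpen_iff_of_isOpenImmersion).1
    rw [Scheme.Hom.image_preimage_eq_opensRange_inf, Scheme.Opens.opensRange_ι, inf_comm]
    exact isAffineOpen_genLocus_inf π (InvX.isInvertible_tensorPow hL _) (s z) (hU z) c
      ((inf_le_inf_left _ (π.preimage_mono (hcz z hzK))).trans (hbU z))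

/-- Ampleness on a fibre spreads out to a neighbourhood. -/
theorem exists_nhds_isAmple {X Y : Scheme.{u}} (f : X ⟶ Y) [IsProper f] [IsLocallyNoetherian Y]
    {L : X.Modules} (hL : PicF.IsInvertible L) (y : Y)
    (hy : CohB1.IsAmple ((Scheme.Modules.pullback (f.fiberι y)).obj L)) :
    ∃ V : Y.Opens, y ∈ V ∧ ∀ W : Y.Opens, W ≤ V → IsAffineOpen W → CohB1.IsAmple (L.restrict (f ⁻¹ᵁ W).ι) := by
  obtain ⟨_, ⟨V, hV₀, rfl⟩, hyV, -⟩ :=
    Y.isBasis_affineOpens.exists_subset_of_mem_open (Set.mem_univ y) isOpen_univ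
  have hV : IsAffineOpen V := hV₀
  let B := Γ(Y, V)
  haveI : IsNoetherianRing B := IsLocallyNoetherian.component_noetherian ⟨V, hV⟩
  let W₀ := f ⁻¹ᵁ V
  letI : (W₀ : Scheme.{u}).Over (Spec (CommRingCat.of B)) := ⟨QCoh.overSpec f hV⟩
  let π := (W₀ : Scheme.{u}) ↘ Spec (CommRingCat.of B)
  haveI : IsProper π := by
    show IsProper ((f ∣_ V) ≫ hV.isoSpec.hom)
    infer_instance
  let A := Y.presheaf.stalk y
  letI : Algebra B A := QCoh.stalkAlg hyV
  let p : PrimeSpectrum B := hV.primeIdealOf ⟨y, hyV⟩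
  haveI : IsLocalization p.asIdeal.primeCompl A := QCoh.isLocalization_stalk' hV hyV
  haveI : IsNoetherianRing A := inferInstanceAs (IsNoetherianRing (Y.presheaf.stalk y))
  let loc := Spec.map (CommRingCat.ofHom (algebraMap B A))
  have hloc : loc ≫ hV.fromSpec = Y.fromSpecStalk y := hV.fromSpecStalk_eq_fromSpecStalk hyV
  let X₁ := pullback π loc
  letI : X₁.Over (Spec (CommRingCat.of A)) := ⟨pullback.snd π loc⟩
  haveI : IsProper (X₁ ↘ Spec (CommRingCat.of A)) := inferInstanceAs (IsProper (pullback.snd π loc))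
  let g : X₁ ⟶ (W₀ : Scheme.{u}) := pullback.fst π loc
  have hbig : IsPullback (g ≫ W₀.ι) (X₁ ↘ Spec (CommRingCat.of A)) f (Y.fromSpecStalk y) := by
    rw [← hloc]
    exact (IsPullback.of_hasPullback π loc).paste_horiz (isPullback_overSpec' f hV)
  let e₁ := (Scheme.Modules.pullbackComp g W₀.ι).app L
  have hamp : CohB1.IsAmple ((Scheme.Modules.pullback g).obj ((Scheme.Modules.pullback W₀.ι).obj L)) :=
    AmpleX.isAmple_of_iso e₁.symm (FibreVanish.isAmple_of_level0 (A := A) (PicClLib.isInvertible_pullback _ hL)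
      (FibreVanish.isAmple_level0_of_fibre f y hy hbig))
  obtain ⟨b, hb, hamb⟩ := exists_basicOpen_isAmple (A := A) p g (IsPullback.of_hasPullback π loc)
    (PicClLib.isInvertible_pullback W₀.ι hL) hamp
  refine ⟨Y.basicOpen b, ?_, fun W hW hWa => ?_⟩
  · have h1 : p ∈ hV.fromSpec ⁻¹ᵁ Y.basicOpen b := by
      rw [hV.fromSpec_preimage_basicOpen]
      exact hb
    have h2 : hV.fromSpec p = y := hV.fromSpec_primeIdealOf ⟨y, hyV⟩
    rw [← h2]
    exact h1
  haveI : IsSeparated f := inferInstance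
  let O := π ⁻¹ᵁ PrimeSpectrum.basicOpen b
  let P := f ⁻¹ᵁ W
  have hP : Set.range P.ι ⊆ Set.range (O.ι ≫ W₀.ι) := by
    rintro _ ⟨x, rfl⟩
    have hx : f (P.ι x) ∈ W := x.2
    let x₀ : W₀.toScheme := ⟨P.ι x, Scheme.basicOpen_le _ b (hW hx)⟩
    refine ⟨⟨x₀, ?_⟩, rfl⟩
    show QCoh.overSpec f hV x₀ ∈ PrimeSpectrum.basicOpen b
    have h2 : hV.fromSpec (QCoh.overSpec f hV x₀) = f (P.ι x) := by
      rw [← Scheme.Hom.comp_apply, ← (isPullback_overSpec' f hV).w]
      rfl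
    have h3 : QCoh.overSpec f hV x₀ ∈ hV.fromSpec ⁻¹ᵁ Y.basicOpen b := by
      show hV.fromSpec (QCoh.overSpec f hV x₀) ∈ Y.basicOpen b
      rw [h2]
      exact hW hx
    rwa [hV.fromSpec_preimage_basicOpen] at h3
  let j : P.toScheme ⟶ O.toScheme := IsOpenImmersion.lift (O.ι ≫ W₀.ι) P.ι hP
  have hj : j ≫ O.ι ≫ W₀.ι = P.ι := IsOpenImmersion.lift_fac _ _ _
  haveI : CompactSpace P.toScheme := isCompact_iff_compactSpace.1 (f.isCompact_preimage hWa.isCompact)
  have hje : Topology.IsEmbedding j.base := by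
    refine Topology.IsEmbedding.of_comp j.continuous (O.ι ≫ W₀.ι).continuous ?_
    have := P.ι.isEmbedding
    rw [← hj] at this
    exact this
  refine AmpleX.isAmple_of_iso ?_ (isAmple_pullback_of_isEmbedding j hje hamb)
  exact (Scheme.Modules.pullback j).mapIso ((Scheme.Modules.pullbackComp O.ι W₀.ι).app L) ≪≫
    (Scheme.Modules.pullbackComp j (O.ι ≫ W₀.ι)).app L ≪≫ (Scheme.Modules.pullbackCongr hj).app L ≪≫
    ((Scheme.Modules.restrictFunctorIsoPullback P.ι).app L).symm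

end Groth.Agent.AmpleVan.Near
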