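import Groth.Agent.AmpleVan.AdicMod
import Groth.Agent.InvX.GenEpi
import Groth.Agent.QCoh.Extension
import Groth.Agent.AmpleX.Generated
import Groth.Agent.AmpleX.Separated

/-!
# Uniform generation by global sections on an adic system
-/

set_option linter.style.haveILetI false
set_option backward.isDefEq.respectTransparency false
set_option backward.isDefEq.respectTransparency.types false

universe u

open CategoryTheory CategoryTheory.Limits AlgebraicGeometry TopologicalSpace Opposite
open Groth.Agent.H23.PicMul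

attribute [local instance] HasDerivedCategory.standard

noncomputable section

namespace Groth.Agent.AmpleVan

open Groth.Agent

variable {A : Type u} [CommRing A] {J : Ideal A}

theorem one_inj {X : Scheme.{u}} {N : X.Modules} :
    Function.Injective (InvX.one : (Coh.structureModule X ⟶ N) → _) :=
  fun s t h => QCoh.hom_ext_app fun W r => by
    rw [InvX.app_eq_smul s r, InvX.app_eq_smul t r, h]

namespace AdicSys

variable (S : AdicSys A J)

/-- Lifting generation one level up. -/
theorem isGloballyGenerated_lift (k : ℕ) {E : (S.X (k + 1)).Modules} (hE : Coh.IsQCoh E) {D : (S.X k).Modules}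
    (hD : Coh.IsQCoh D) (q : E ⟶ (Scheme.Modules.pushforward (S.i k)).obj D)
    {h : Formal.smulFamily (J ^ (k + 1)) E ≫ q = 0} (hex : (ShortComplex.mk _ q h).Exact) [Epi q]
    (hs : Function.Surjective (q.app ⊤)) {ι : Type u}
    (p₀ : (∐ fun _ : ι => Coh.structureModule (S.X k)) ⟶ D) [Epi p₀] :
    ∃ p : (∐ fun _ : ι => Coh.structureModule (S.X (k + 1))) ⟶ E, Epi p := by
  let s : ι → Γ(D, ⊤) := fun x => InvX.one (Sigma.ι (fun _ : ι => Coh.structureModule (S.X k)) x ≫ p₀)
  choose s' hs' using fun x => hs (s x)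
  let p : (∐ fun _ : ι => Coh.structureModule (S.X (k + 1))) ⟶ E := Sigma.desc fun x => InvX.ofSect (s' x)
  refine ⟨p, ?_⟩
  let C := cokernel p
  have hC : Coh.IsQCoh C := QCoh.isQCoh_cokernel
    (QCoh.isQCoh_colimit (Discrete.functor fun _ : ι => Coh.structureModule (S.X (k + 1)))
      fun _ => QCoh.isQCoh_structureModule) hE p
  let η : C ⟶ _ := (Scheme.Modules.pullbackPushforwardAdjunction (S.i k)).unit.app C
  have hkill : ∀ b ∈ J ^ (k + 1), Formal.smulMod A ((Scheme.Modules.pushforward (S.i k)).obj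
      ((Scheme.Modules.pullback (S.i k)).obj C)) b = 0 := fun b hb => by
    rw [← push_map_smulMod (S.i k) (S.i_over k), S.smulMod_eq_zero k _ hb, Functor.map_zero]
  have hw : Formal.smulFamily (J ^ (k + 1)) E ≫ cokernel.π p ≫ η = 0 := by
    refine Sigma.hom_ext _ _ fun b => ?_
    rw [comp_zero, ← Category.assoc]
    refine (congrArg (· ≫ _) (Sigma.ι_desc _ _)).trans ?_
    rw [← Category.assoc, FFun.smulMod_naturality, Category.assoc, FFun.smulMod_naturality]
    exact (congrArg (cokernel.π p ≫ ·) ((congrArg (η ≫ ·) (hkill b.1 b.2)).trans comp_zero)).trans comp_zero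
  let g := hex.desc _ hw
  have hg : q ≫ g = cokernel.π p ≫ η := hex.g_desc _ _
  obtain ⟨g', hg'⟩ := exists_push_map (S.i k) hD (QCoh.isQCoh_pullback _ hC) g
  have hs0 : ∀ x, (cokernel.π p).app ⊤ (s' x) = 0 := fun x => by
    have e : InvX.ofSect (s' x) ≫ cokernel.π p = 0 := by
      rw [← show Sigma.ι (fun _ : ι => Coh.structureModule (S.X (k + 1))) x ≫ p = InvX.ofSect (s' x) from
        Sigma.ι_desc _ _, Category.assoc, cokernel.condition, comp_zero]
    have e2 : InvX.one (InvX.ofSect (s' x) ≫ cokernel.π p) = 0 := by rw [e]; rfl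
    refine Eq.trans ?_ e2
    exact congrArg ((cokernel.π p).app ⊤) (InvX.one_ofSect (s' x)).symm
  have hg0 : g' = 0 := by
    rw [← cancel_epi p₀, comp_zero]
    refine Sigma.hom_ext _ _ fun x => one_inj ?_
    rw [comp_zero, ← Category.assoc]
    show g'.app ⊤ (s x) = 0
    rw [← hs' x]
    show ((Scheme.Modules.pushforward (S.i k)).map g').app ⊤ (q.app ⊤ (s' x)) = 0
    rw [hg']
    exact (congr(($hg).app ⊤ (s' x)) : _).trans ((congrArg (η.app ⊤) (hs0 x)).trans (map_zero _))
  have hη0 : η = 0 := by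
    rw [← cancel_epi (cokernel.π p), comp_zero, ← hg, ← hg', hg0, Functor.map_zero, comp_zero]
  obtain ⟨h', hiso⟩ := unit_desc_iso (S.square_i k) hC
  haveI := hiso
  have hπ0 : cokernel.π (Formal.smulFamily (J ^ (k + 1)) C) = 0 := by
    rw [← cancel_mono (cokernel.desc _ _ h'), zero_comp, cokernel.π_desc]
    exact hη0
  haveI : Epi (Formal.smulFamily (J ^ (k + 1)) C) := Preadditive.epi_of_cokernel_zero hπ0
  have hc : ∀ c ∈ J ^ (k + 1), Formal.smulMod A C c = 0 := fun c hc => by
    rw [← cancel_epi (Formal.smulFamily (J ^ (k + 1)) C), comp_zero]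
    refine Sigma.hom_ext _ _ fun b => ?_
    rw [comp_zero, ← Category.assoc]
    refine (congrArg (· ≫ _) (Sigma.ι_desc _ _)).trans ?_
    rw [← FFun.smulMod_mul]
    exact S.smulMod_eq_zero (k + 1) C (Ideal.pow_le_pow_right (show k + 1 + 1 ≤ (k + 1) + (k + 1) by omega)
      (pow_add J (k + 1) (k + 1) ▸ Ideal.mul_mem_mul hc b.2))
  have hz : 𝟙 C = 0 := by
    rw [← cancel_epi (Formal.smulFamily (J ^ (k + 1)) C), comp_zero, Category.comp_id]
    refine Sigma.hom_ext _ _ fun b => ?_
    rw [comp_zero]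
    exact (Sigma.ι_desc _ _).trans (hc b.1 b.2)
  refine Preadditive.epi_of_cokernel_zero ?_
  rw [← Category.comp_id (cokernel.π p)]
  exact (congrArg (cokernel.π p ≫ ·) hz).trans comp_zero

end AdicSys

namespace AdicMod

variable {S : AdicSys A J} (M : AdicMod S)

set_option maxHeartbeats 1000000 in
/-- Uniform generation of the twists. -/
theorem exists_generated [IsNoetherianRing A] (hp : IsProper (S.p 0)) (L : ∀ k, (S.X k).Modules)
    (hL : ∀ k, PicF.IsInvertible (L k))
    (φ : ∀ k, Nonempty ((Scheme.Modules.pullback (S.i k)).obj (L (k + 1)) ≅ L k)) (ha : CohB1.IsAmple (L 0)) :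
    ∃ N, ∀ n, N ≤ n → ∀ k,
      Curv2.IsGloballyGenerated (CohB1.tensorMod (M.F k) (CohB1.tensorPow (L k) n)) := by
  obtain ⟨n₀, hn₀⟩ := M.exists_vanishing hp L hL φ ha
  haveI := S.isProper_str₀ hp
  haveI : CompactSpace (S.X 0) := ha.2.1
  haveI := AmpleX.isSeparated_of_isAmple ha
  obtain ⟨N₁, hN₁⟩ := AmpleX.eventually_generated ha (M.coh 0).1 (M.coh 0).2
  refine ⟨max n₀ N₁, fun n hn k => ?_⟩
  have hgg : ∀ k, ∃ (G : (S.X k).Modules) (_ : G ≅ CohB1.tensorMod (M.F k) (CohB1.tensorPow (L k) n))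
      (ι : Type u) (p₀ : (∐ fun _ : ι => Coh.structureModule (S.X k)) ⟶ G), Epi p₀ := by
    intro k
    induction k with
    | zero =>
      obtain ⟨G, e, ι, s, hs⟩ := hN₁ n (le_trans (le_max_right _ _) hn)
      exact ⟨G, e, InvX.isGloballyGenerated_of_generated hs⟩
    | succ k ih =>
      obtain ⟨G, e₀, ι, p₀, hp₀⟩ := ih
      let P := CohB1.tensorPow (L (k + 1)) n
      have hP : PicF.IsInvertible P := InvX.isInvertible_tensorPow (hL (k + 1)) n
      haveI := isEquivalence_tw hP
      haveI : (tw P).Additive := Functor.additive_of_preserves_binary_products _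
      haveI := M.epi_π k
      have hses : (ShortComplex.mk (kernel.ι (M.π k)) (M.π k) (kernel.condition _)).ShortExact :=
        { exact := ShortComplex.exact_kernel _, mono_f := inferInstance, epi_g := inferInstance }
      have hsurj := QCoh.app_top_surjective_of_HH_one (hses.map_of_exact (tw P))
        ((hn₀ n (le_trans (le_max_left _ _) hn) k 0).2)
      obtain ⟨e⟩ := exists_twist_push (S.square_i k) (M.isQCoh_push k) (fun b hb => by
        rw [← push_map_smulMod (S.i k) (S.i_over k), S.smulMod_eq_zero k (M.F k) hb, Functor.map_zero]) hP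
      haveI := isIso_counit (S.i k) (M.coh k).1
      let c : (Scheme.Modules.pullback (S.i k)).obj ((Scheme.Modules.pushforward (S.i k)).obj (M.F k)) ≅ M.F k :=
        asIso ((Scheme.Modules.pullbackPushforwardAdjunction (S.i k)).counit.app (M.F k))
      obtain ⟨e₂⟩ : Nonempty (CohB1.tensorMod
          ((Scheme.Modules.pullback (S.i k)).obj ((Scheme.Modules.pushforward (S.i k)).obj (M.F k)))
          ((Scheme.Modules.pullback (S.i k)).obj P) ≅ G) := cl_eq_iff.1 (by
        rw [cl_tensor, cl_eq_iff.2 ⟨c⟩, cl_eq_iff.2 ⟨e₀⟩, cl_tensor, cl_tensorPow]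
        refine congrArg (PicF.cl (M.F k) * ·) ?_
        show PicF.pullCl (S.i k) (PicF.cl (CohB1.tensorPow (L (k + 1)) n)) = _
        rw [cl_tensorPow, pullCl_pow]
        exact congrArg (· ^ n) (cl_eq_iff.2 (φ k)))
      have hD : Coh.IsQCoh G := (QCoh.isQCoh_iff_iso e₂).1
        (KFlatLib.isQCoh_tensor (QCoh.isQCoh_pullback _ (M.isQCoh_push k))
          (QCoh.isQCoh_pullback _ (ProjUPX.isQCoh_of_isInvertible hP)))
      let e₃ : (tw P).obj ((Scheme.Modules.pushforward (S.i k)).obj (M.F k)) ≅
          (Scheme.Modules.pushforward (S.i k)).obj G :=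
        e.trans ((Scheme.Modules.pushforward (S.i k)).mapIso e₂)
      let E := CohB1.tensorMod (M.F (k + 1)) P
      let q : E ⟶ (Scheme.Modules.pushforward (S.i k)).obj G := (tw P).map (M.π k) ≫ e₃.hom
      haveI : Epi q := epi_comp _ _
      obtain ⟨h0, hex0⟩ := M.exact_π k
      have hh : Formal.smulFamily (J ^ (k + 1)) E ≫ q = 0 := by
        refine Sigma.hom_ext _ _ fun b => ?_
        rw [comp_zero, ← Category.assoc]
        refine (congrArg (· ≫ _) (Sigma.ι_desc _ _)).trans ?_
        have h1 : (tw P).map (Formal.smulMod A (M.F (k + 1)) b.1) = Formal.smulMod A E b.1 :=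
          SheafHomX.ten_map_smulMod P (M.F (k + 1)) b.1
        rw [← h1, ← Category.assoc, ← Functor.map_comp, M.smulMod_π k b.2, Functor.map_zero, zero_comp]
      have hex : (ShortComplex.mk _ q hh).Exact := by
        refine ShortComplex.exact_of_g_is_cokernel _ (CokernelCofork.IsColimit.ofπ' q hh fun {W} w hw => ?_)
        have hw' : (tw P).map (Formal.smulFamily (J ^ (k + 1)) (M.F (k + 1))) ≫ w = 0 := by
          haveI : (tw P).IsLeftAdjoint := (tw P).isLeftAdjoint_of_isEquivalence
          refine (isColimitCofanMkObjOfIsColimit (tw P) _ _ (coproductIsCoproduct _)).hom_ext fun b => ?_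
          show (tw P).map (Sigma.ι (fun _ : ↥(J ^ (k + 1)) => M.F (k + 1)) b.as) ≫ _ = _ ≫ 0
          rw [comp_zero, ← Category.assoc, ← Functor.map_comp]
          refine (congrArg (fun z => (tw P).map z ≫ w) (Sigma.ι_desc _ _)).trans ?_
          have h1 : (tw P).map (Formal.smulMod A (M.F (k + 1)) b.as.1) = Formal.smulMod A E b.as.1 :=
            SheafHomX.ten_map_smulMod P (M.F (k + 1)) b.as.1
          refine (congrArg (· ≫ w) h1).trans ?_
          have h2 := congrArg (Sigma.ι (fun _ : ↥(J ^ (k + 1)) => E) b.as ≫ ·) hw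
          simp only [comp_zero] at h2
          rw [← Category.assoc] at h2
          exact (congrArg (· ≫ w) (Sigma.ι_desc (fun c : ↥(J ^ (k + 1)) => Formal.smulMod A E (c : A)) b.as).symm).trans h2
        haveI : Epi ((tw P).map (M.π k)) := inferInstance
        haveI : Epi ((ShortComplex.mk _ (M.π k) h0).map (tw P)).g := ‹Epi ((tw P).map (M.π k))›
        let z := (hex0.map (tw P)).desc w hw'
        refine ⟨e₃.inv ≫ z, ?_⟩
        show ((tw P).map (M.π k) ≫ e₃.hom) ≫ e₃.inv ≫ z = w
        rw [Category.assoc, Iso.hom_inv_id_assoc]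
        exact (hex0.map (tw P)).g_desc w hw'
      have hs' : Function.Surjective (q.app ⊤) := by
        intro y
        obtain ⟨x, hx⟩ := hsurj (e₃.inv.app ⊤ y)
        exact ⟨x, (congrArg (e₃.hom.app ⊤) hx).trans (congr(($(e₃.inv_hom_id)).app ⊤ y))⟩
      obtain ⟨p, hp'⟩ := S.isGloballyGenerated_lift k
        (KFlatLib.isQCoh_tensor (M.coh (k + 1)).1 (ProjUPX.isQCoh_of_isInvertible hP)) hD q hex hs' p₀
      exact ⟨E, Iso.refl _, ι, p, hp'⟩
  obtain ⟨G, e, hG⟩ := hgg k
  exact AmpleX.isGloballyGenerated_of_iso e hG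

end AdicMod

end Groth.Agent.AmpleVan
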