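import Groth.Agent.AmpleVan.FinGen

/-!
# Towers of coherent modules with graded kernels: uniform vanishing and compatible generators
-/

set_option linter.style.haveILetI false
set_option backward.isDefEq.respectTransparency false
set_option backward.isDefEq.respectTransparency.types false

universe u

open CategoryTheory CategoryTheory.Limits AlgebraicGeometry TopologicalSpace Opposite

attribute [local instance] HasDerivedCategory.standard
attribute [local instance] Groth.Agent.QCoh.hasFiniteBiproducts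

noncomputable section

namespace Groth.Agent.AmpleVan

open Groth.Agent
open Groth.Agent.H23.PicMul

variable {A : Type u} [CommRing A] {X : Scheme.{u}} [X.Over (Spec (CommRingCat.of A))]

/-- A surjective system of coherent modules whose kernels are killed by `I`. -/
structure Tower (I : Ideal A) (X : Scheme.{u}) [X.Over (Spec (CommRingCat.of A))] where
  /-- The terms. -/
  H : ℕ → X.Modules
  /-- The transition maps. -/
  t : ∀ n, H (n + 1) ⟶ H n
  epi : ∀ n, Epi (t n)
  coh : ∀ n, Coh.IsCoh (H n)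
  killed₀ : ∀ a ∈ I, Formal.smulMod A (H 0) a = 0
  killedKer : ∀ n, ∀ a ∈ I, kernel.ι (t n) ≫ Formal.smulMod A (H (n + 1)) a = 0

namespace Tower

variable {I : Ideal A} (T : Tower I X)

/-- The graded pieces. -/
def J : ℕ → X.Modules
  | 0 => T.H 0
  | n + 1 => kernel (T.t n)

/-- The graded pieces in the terms. -/
def jι : ∀ n, T.J n ⟶ T.H n
  | 0 => 𝟙 _
  | n + 1 => kernel.ι (T.t n)

theorem jι_smul : ∀ n, ∀ a ∈ I, T.jι n ≫ Formal.smulMod A (T.H n) a = 0
  | 0, a, ha => by
    show 𝟙 _ ≫ Formal.smulMod A (T.H 0) a = 0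
    rw [Category.id_comp]; exact T.killed₀ a ha
  | n + 1, a, ha => T.killedKer n a ha

theorem shortExact (n : ℕ) : (ShortComplex.mk (kernel.ι (T.t n)) (T.t n) (kernel.condition _)).ShortExact :=
  haveI := T.epi n
  { exact := ShortComplex.exact_kernel _, mono_f := inferInstance, epi_g := inferInstance }

/-- Multiplication by an element of `I`, one step up. -/
def up (n : ℕ) (a : A) (ha : a ∈ I) : T.H n ⟶ T.H (n + 1) :=
  haveI := T.epi n
  (T.shortExact n).exact.desc (Formal.smulMod A (T.H (n + 1)) a) (T.killedKer n a ha)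

@[reassoc]
theorem t_up (n : ℕ) (a : A) (ha : a ∈ I) : T.t n ≫ T.up n a ha = Formal.smulMod A (T.H (n + 1)) a :=
  haveI := T.epi n
  (T.shortExact n).exact.g_desc _ _

theorem up_t (n : ℕ) (a : A) (ha : a ∈ I) : T.up n a ha ≫ T.t n = Formal.smulMod A (T.H n) a := by
  haveI := T.epi n
  rw [← cancel_epi (T.t n), ← Category.assoc, t_up]
  exact FFun.smulMod_naturality (T.t n) a

theorem jι_up_t (n : ℕ) (a : A) (ha : a ∈ I) : (T.jι n ≫ T.up n a ha) ≫ T.t n = 0 := by
  rw [Category.assoc, up_t]
  exact T.jι_smul n a ha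

variable {r : ℕ} (a : Fin r → A) (ha : ∀ i, a i ∈ I)

/-- The graded pieces with multiplication by generators of `I`. -/
def sys : FFun.Gen.Sys X r where
  G := T.J
  t n i := kernel.lift (T.t n) (T.jι n ≫ T.up n (a i) (ha i)) (T.jι_up_t n _ _)
  comm n i j := by
    have h : ∀ i j, kernel.lift (T.t n) (T.jι n ≫ T.up n (a j) (ha j)) (T.jι_up_t n _ _) ≫
        kernel.lift (T.t (n + 1)) (T.jι (n + 1) ≫ T.up (n + 1) (a i) (ha i)) (T.jι_up_t (n + 1) _ _) ≫
          kernel.ι (T.t (n + 1)) = T.jι n ≫ T.up n (a j) (ha j) ≫ T.up (n + 1) (a i) (ha i) := fun i j => by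
      rw [kernel.lift_ι, ← Category.assoc]
      exact (congrArg (· ≫ T.up (n + 1) (a i) (ha i)) (kernel.lift_ι (T.t n) _ _)).trans (Category.assoc _ _ _)
    rw [← cancel_mono (kernel.ι (T.t (n + 1))), Category.assoc, Category.assoc, h, h]
    refine congrArg (T.jι n ≫ ·) ?_
    haveI := T.epi n
    haveI := T.epi (n + 1)
    rw [← cancel_epi (T.t n), ← cancel_epi (T.t (n + 1))]
    have h2 : ∀ i j, T.t (n + 1) ≫ T.t n ≫ T.up n (a j) (ha j) ≫ T.up (n + 1) (a i) (ha i) =
        Formal.smulMod A (T.H (n + 1 + 1)) (a j * a i) := fun i j => by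
      rw [t_up_assoc, ← Category.assoc, ← FFun.smulMod_naturality (T.t (n + 1)), Category.assoc, t_up,
        ← FFun.smulMod_mul]
      exact congrArg _ (mul_comm _ _)
    rw [h2, h2, mul_comm]

theorem isCoh_J [IsLocallyNoetherian X] : ∀ n, Coh.IsCoh (T.J n)
  | 0 => T.coh 0
  | n + 1 => QCoh.isCoh_kernel (T.coh _) (T.coh n) _

/-- Forget the first term. -/
def tail (h : ∀ b ∈ I, Formal.smulMod A (T.H 1) b = 0) : Tower I X where
  H n := T.H (n + 1)
  t n := T.t (n + 1)
  epi n := T.epi (n + 1)
  coh n := T.coh (n + 1)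
  killed₀ := h
  killedKer n := T.killedKer (n + 1)

end Tower

theorem one_comp {M N : X.Modules} (s : Coh.structureModule X ⟶ M) (φ : M ⟶ N) :
    InvX.one (s ≫ φ) = φ.app ⊤ (InvX.one s) := rfl

theorem one_injective {M : X.Modules} : Function.Injective (InvX.one : (Coh.structureModule X ⟶ M) → _) :=
  fun s s' h => QCoh.hom_ext_app fun W r => by
    rw [InvX.app_eq_smul, InvX.app_eq_smul, h]

theorem twist_compat {C : Type*} [Category C] {F G : C ⥤ C} (η : F ⋙ G ≅ 𝟭 C) {x y : C} (t : x ⟶ y) {Q : C}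
    (ψ : Q ⟶ F.obj x) :
    (G.map ψ ≫ η.hom.app x) ≫ t = G.map (ψ ≫ F.map t) ≫ η.hom.app y := by
  rw [Functor.map_comp, Category.assoc, Category.assoc]
  exact congrArg (G.map ψ ≫ ·) (η.hom.naturality t).symm

/-- An element of a surjective tower of sections extends to a compatible family. -/
theorem exists_compatible {G : ℕ → Type u} (π : ∀ n, G (n + 1) → G n) (h : ∀ n, Function.Surjective (π n)) :
    ∀ (d : ℕ) (x : G d), ∃ g : ∀ n, G n, (∀ n, π n (g (n + 1)) = g n) ∧ g d = x := by
  intro d
  induction d generalizing G with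
  | zero =>
    intro x
    let g : ∀ n, G n := fun n => Nat.rec (motive := G) x (fun n y => (h n y).choose) n
    exact ⟨g, fun n => (h n (g n)).choose_spec, rfl⟩
  | succ d ih =>
    intro x
    obtain ⟨g, hg, hgx⟩ := ih (G := fun n => G (n + 1)) (fun n => π (n + 1)) (fun n => h (n + 1)) x
    let g' : ∀ n, G n := fun n => Nat.casesOn n (π 0 (g 0)) g
    refine ⟨g', fun n => ?_, hgx⟩
    cases n with
    | zero => rfl
    | succ n => exact hg n

variable [IsNoetherianRing A] [IsProper (X ↘ Spec (CommRingCat.of A))]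

namespace Tower

variable {I : Ideal A} (T : Tower I X) {r : ℕ} (a : Fin r → A) (ha : ∀ i, a i ∈ I)

/-- Large twists make every transition map surjective on global sections. -/
theorem exists_twist_surjective {L : X.Modules} (hL : CohB1.IsAmple L) {d : ℕ} (hd : (T.sys a ha).GenFrom d) :
    ∃ m₀, ∀ m, m₀ ≤ m → ∀ n, Function.Surjective (((tw (CohB1.tensorPow L m)).map (T.t n)).app ⊤) := by
  haveI : IsLocallyNoetherian X := LocallyOfFiniteType.isLocallyNoetherian (X ↘ Spec (CommRingCat.of A))
  obtain ⟨m₀, h⟩ := exists_uniform_vanishing (A := A) hL (T.sys a ha) T.isCoh_J hd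
  refine ⟨m₀, fun m hm n => ?_⟩
  haveI := isEquivalence_tw (InvX.isInvertible_tensorPow hL.1 m)
  exact QCoh.app_top_surjective_of_HH_one ((T.shortExact n).map_of_exact (tw (CohB1.tensorPow L m)))
    (h m hm (n + 1) 0)

/-- A tower generated in bounded degrees on an ample scheme is a quotient of one coherent module. -/
theorem exists_compatible_epi {L : X.Modules} (hL : CohB1.IsAmple L) {d : ℕ} (hd : (T.sys a ha).GenFrom d) :
    ∃ (E : X.Modules) (φ : ∀ n, E ⟶ T.H n), Coh.IsCoh E ∧
      (∀ n, φ (n + 1) ≫ T.t n = φ n) ∧ ∀ n, Epi (φ n) := by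
  classical
  haveI : CompactSpace X := compactSpace_of_proper (A := A)
  haveI := isSeparated_of_proper (X := X) (A := A)
  haveI : IsLocallyNoetherian X := LocallyOfFiniteType.isLocallyNoetherian (X ↘ Spec (CommRingCat.of A))
  obtain ⟨m₀, hm₀⟩ := T.exists_twist_surjective a ha hL hd
  have hft : CohB1.IsFT (T.H d) := QCoh.isFT_of_isFP (QCoh.isCoh_iff_isFP.1 (T.coh d))
  obtain ⟨n₀, hn₀⟩ := AmpleX.eventually_generated hL (T.coh d).1 hft
  let m := max m₀ n₀
  let P := CohB1.tensorPow L m
  have hP := InvX.isInvertible_tensorPow hL.1 m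
  haveI : (tw P).IsEquivalence := isEquivalence_tw hP
  obtain ⟨G, iso, κ, s, hs⟩ := hn₀ m (le_max_right _ _)
  have hG : Coh.IsCoh G :=
    QCoh.isCoh_of_epi iso.inv (isCoh_tensor (T.coh d) (isCoh_invertible hP)) ((QCoh.isQCoh_iff_iso iso).2 (KFlatLib.isQCoh_tensor (T.coh d).1 (isCoh_invertible hP).1))
  obtain ⟨k, j, hj⟩ := exists_fin_generatedBy hG s hs
  choose g hg hgd using fun i : ULift.{u} (Fin k) => exists_compatible
    (G := fun n => Γ((tw P).obj (T.H n), ⊤))
    (fun n => ((tw P).map (T.t n)).app ⊤) (hm₀ m (le_max_left _ _)) d (iso.hom.app ⊤ (s (j i.down)))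
  let O : ULift.{u} (Fin k) → X.Modules := fun _ => Coh.structureModule X
  let ψ : ∀ n, (⨁ O) ⟶ (tw P).obj (T.H n) := fun n => biproduct.desc fun i => InvX.ofSect (g i n)
  have hψ : ∀ n, ψ (n + 1) ≫ (tw P).map (T.t n) = ψ n := fun n => biproduct.hom_ext' _ _ fun i => by
    rw [biproduct.ι_desc_assoc, biproduct.ι_desc]
    refine one_injective ?_
    rw [one_comp, InvX.one_ofSect, InvX.one_ofSect]
    exact hg i n
  have hψd : Epi (ψ d) := by
    haveI : Epi (ψ d ≫ iso.inv) := InvX.epi_of_generated hj _ (fun i => biproduct.ι O ⟨i⟩) fun i => by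
      rw [biproduct.ι_desc_assoc, one_comp, InvX.one_ofSect, hgd]
      exact congr(($(iso.hom_inv_id)).app ⊤ (s (j i)))
    have e : ψ d = (ψ d ≫ iso.inv) ≫ iso.hom := by rw [Category.assoc, Iso.inv_hom_id, Category.comp_id]
    rw [e]; infer_instance
  obtain ⟨D, hD, ⟨e⟩⟩ := H23.PicInv.exists_inverse hP
  haveI : (tw D).IsEquivalence := isEquivalence_tw hD
  let η : tw P ⋙ tw D ≅ 𝟭 X.Modules :=
    twComp P D ≪≫ (DCoh.tensorBi (X := X)).flip.mapIso e ≪≫ twUnit
  let φ : ∀ n, (tw D).obj (⨁ O) ⟶ T.H n := fun n => (tw D).map (ψ n) ≫ η.hom.app (T.H n)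
  have hφ : ∀ n, φ (n + 1) ≫ T.t n = φ n := fun n => by
    have h := twist_compat η (T.t n) (ψ (n + 1))
    rw [hψ n] at h
    exact h
  refine ⟨_, φ, isCoh_tensor (QCoh.isCoh_biproduct O fun _ => isCoh_invertible InvX.isInvertible_structureModule)
    (isCoh_invertible hD), hφ, fun n => ?_⟩
  have hbase : Epi (φ d) := by
    haveI := hψd
    exact epi_comp _ _
  rcases le_total n d with hnd | hdn
  · have down : ∀ i n, Epi (φ (n + i)) → Epi (φ n) := by
      intro i
      induction i with
      | zero => exact fun n h => h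
      | succ i ih =>
        intro n h
        refine ih n ?_
        rw [← hφ (n + i)]
        haveI := T.epi (n + i)
        haveI : Epi (φ (n + i + 1)) := h
        exact epi_comp _ _
    obtain ⟨i, hi⟩ := Nat.exists_eq_add_of_le hnd
    exact down i n (hi ▸ hbase)
  · induction n, hdn using Nat.le_induction with
    | base => exact hbase
    | succ n hn ih =>
      refine Preadditive.epi_of_cancel_zero _ fun {Z} c hc => ?_
      haveI := ih
      haveI := T.epi n
      have hup : ∀ i, T.up n (a i) (ha i) ≫ c = 0 := fun i => by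
        rw [← cancel_epi (φ n), ← hφ n, comp_zero, Category.assoc, t_up_assoc, ← Category.assoc,
          ← FFun.smulMod_naturality (φ (n + 1)), Category.assoc, hc, comp_zero]
      haveI := hd n hn
      have hker : kernel.ι (T.t n) ≫ c = 0 := by
        rw [← cancel_epi ((T.sys a ha).tAll n), comp_zero]
        refine biproduct.hom_ext' _ _ fun i => ?_
        rw [biproduct.ι_desc_assoc, comp_zero]
        refine ((Category.assoc _ _ _).symm.trans (congrArg (· ≫ c) (kernel.lift_ι (T.t n) _ _))).trans ?_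
        rw [Category.assoc, hup, comp_zero]
      obtain ⟨c', rfl⟩ : ∃ c', T.t n ≫ c' = c := ⟨_, (T.shortExact n).exact.g_desc c hker⟩
      rw [← Category.assoc, hφ] at hc
      rw [(cancel_epi (φ n)).1 (hc.trans comp_zero.symm), comp_zero]

end Tower

end Groth.Agent.AmpleVan
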