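import Groth.Agent.AmpleVan.AdicBase
import Groth.Agent.AmpleVan.Tower

/-!
# Compatible systems of modules on an adic system: graded pieces and uniform vanishing
-/

set_option linter.style.haveILetI false
set_option backward.isDefEq.respectTransparency false
set_option backward.isDefEq.respectTransparency.types false

universe u

open CategoryTheory CategoryTheory.Limits AlgebraicGeometry TopologicalSpace Opposite
open Groth.Agent.H23.PicMul

attribute [local instance] HasDerivedCategory.standard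
attribute [local instance] Groth.Agent.QCoh.hasFiniteBiproducts

noncomputable section

namespace Groth.Agent.AmpleVan

open Groth.Agent

variable {A : Type u} [CommRing A] {J : Ideal A}

/-- A compatible system of coherent modules on an adic system. -/
structure AdicMod (S : AdicSys A J) where
  /-- The levels. -/
  F : ∀ k, (S.X k).Modules
  coh : ∀ k, Coh.IsCoh (F k)
  /-- The identifications. -/
  ψ : ∀ k, (Scheme.Modules.pullback (S.i k)).obj (F (k + 1)) ≅ F k
  noeth : ∀ k, IsLocallyNoetherian (S.X k)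

namespace AdicMod

variable {S : AdicSys A J} (M : AdicMod S)

/-- The transition. -/
def π (k : ℕ) : M.F (k + 1) ⟶ (Scheme.Modules.pushforward (S.i k)).obj (M.F k) :=
  (Scheme.Modules.pullbackPushforwardAdjunction (S.i k)).unit.app (M.F (k + 1)) ≫
    (Scheme.Modules.pushforward (S.i k)).map (M.ψ k).hom

theorem hπ (k : ℕ) :
    ∃ h : Formal.smulFamily (J ^ (k + 1)) (M.F (k + 1)) ≫ M.π k = 0, IsIso (cokernel.desc _ _ h) := by
  obtain ⟨h, hiso⟩ := unit_desc_iso (S.square_i k) (M.coh (k + 1)).1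
  haveI := hiso
  have h' : Formal.smulFamily (J ^ (k + 1)) (M.F (k + 1)) ≫ M.π k = 0 := by
    rw [π, ← Category.assoc, h, zero_comp]
  refine ⟨h', ?_⟩
  rw [show cokernel.desc _ _ h' = cokernel.desc _ _ h ≫ (Scheme.Modules.pushforward (S.i k)).map (M.ψ k).hom from by
    rw [← cancel_epi (cokernel.π (Formal.smulFamily (J ^ (k + 1)) (M.F (k + 1)))), cokernel.π_desc,
      cokernel.π_desc_assoc]
    rfl]
  infer_instance

theorem epi_π (k : ℕ) : Epi (M.π k) := by
  obtain ⟨h, hiso⟩ := M.hπ k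
  haveI := hiso
  rw [← cokernel.π_desc _ _ h]
  exact epi_comp _ _

theorem exact_π (k : ℕ) : ∃ h, (ShortComplex.mk (Formal.smulFamily (J ^ (k + 1)) (M.F (k + 1))) (M.π k) h).Exact := by
  obtain ⟨h, hiso⟩ := M.hπ k
  haveI := hiso
  refine ⟨h, ShortComplex.exact_of_g_is_cokernel _ ?_⟩
  exact IsColimit.ofIsoColimit (cokernelIsCokernel _)
    (Cofork.ext (asIso (cokernel.desc _ _ h)) (cokernel.π_desc _ _ h))

theorem smulMod_π (k : ℕ) {b : A} (hb : b ∈ J ^ (k + 1)) : Formal.smulMod A (M.F (k + 1)) b ≫ M.π k = 0 := by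
  rw [FFun.smulMod_naturality, S.i_over k |> fun h => (push_map_smulMod (S.i k) h (M.F k) b).symm,
    S.smulMod_eq_zero k (M.F k) hb, Functor.map_zero, comp_zero]

theorem killedKer (k : ℕ) {a : A} (ha : a ∈ J) :
    kernel.ι (M.π k) ≫ Formal.smulMod A (M.F (k + 1)) a = 0 := by
  obtain ⟨h, hex⟩ := M.exact_π k
  haveI := hex.epi_kernelLift
  rw [← cancel_epi (kernel.lift (M.π k) _ h), comp_zero, kernel.lift_ι_assoc]
  refine Sigma.hom_ext _ _ fun b => ?_
  rw [comp_zero, ← Category.assoc]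
  refine (congrArg (· ≫ _) (Sigma.ι_desc _ _)).trans ?_
  rw [← FFun.smulMod_mul]
  exact S.smulMod_eq_zero (k + 1) _ (by rw [pow_succ' _ (k + 1)]; exact Ideal.mul_mem_mul ha b.2)

theorem kernel_killed (k : ℕ) {a : A} (ha : a ∈ J) : Formal.smulMod A (kernel (M.π k)) a = 0 := by
  rw [← cancel_mono (kernel.ι (M.π k)), zero_comp, FFun.smulMod_naturality]
  exact M.killedKer k ha

theorem isQCoh_push (k : ℕ) : Coh.IsQCoh ((Scheme.Modules.pushforward (S.i k)).obj (M.F k)) :=
  QCoh.isQCoh_pushforward _ (M.coh k).1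

theorem isCoh_kernel (k : ℕ) : Coh.IsCoh (kernel (M.π k)) :=
  haveI := M.noeth (k + 1)
  QCoh.isCoh_of_mono (kernel.ι (M.π k)) (M.coh (k + 1))
    (QCoh.isQCoh_kernel (M.coh (k + 1)).1 (M.isQCoh_push k) _)

/-- The graded pieces, on the bottom level. -/
def G : ℕ → (S.X 0).Modules
  | 0 => M.F 0
  | k + 1 => (Scheme.Modules.pullback (S.j (k + 1))).obj (kernel (M.π k))

theorem isCoh_G : ∀ k, Coh.IsCoh (M.G k)
  | 0 => M.coh 0
  | k + 1 => ZClosLib.isCoh_pullback (S.j (k + 1)) (M.isCoh_kernel k)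

theorem isIso_θ (k : ℕ) :
    IsIso ((Scheme.Modules.pullbackPushforwardAdjunction (S.j (k + 1))).unit.app (kernel (M.π k))) :=
  (QCoh.isIso_unit_closed_iff (S.j (k + 1)) (M.isCoh_kernel k).1).2 fun U a ha s =>
    smul_eq_zero_of_killed (fun b hb => M.kernel_killed k (by rwa [zero_add, pow_one] at hb))
      (ker_ideal_of_isPullback (S.square_j' (k + 1)) U ▸ ha) s

/-- A kernel as a direct image. -/
def θ (k : ℕ) : kernel (M.π k) ≅ (Scheme.Modules.pushforward (S.j (k + 1))).obj (M.G (k + 1)) :=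
  haveI := M.isIso_θ k
  asIso ((Scheme.Modules.pullbackPushforwardAdjunction (S.j (k + 1))).unit.app (kernel (M.π k)))

/-- The graded pieces in the levels. -/
def γ : ∀ k, (Scheme.Modules.pushforward (S.j k)).obj (M.G k) ⟶ M.F k
  | 0 => (Scheme.Modules.pushforwardId (S.X 0)).hom.app (M.F 0)
  | k + 1 => (M.θ k).inv ≫ kernel.ι (M.π k)

theorem mono_γ : ∀ k, Mono (M.γ k)
  | 0 => by show Mono ((Scheme.Modules.pushforwardId (S.X 0)).hom.app (M.F 0)); infer_instance
  | k + 1 => mono_comp (M.θ k).inv (kernel.ι (M.π k))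

theorem γ_smul (k : ℕ) {a : A} (ha : a ∈ J) : M.γ k ≫ Formal.smulMod A (M.F k) a = 0 := by
  rw [← FFun.smulMod_naturality, ← push_map_smulMod (S.j k) (S.j_over k) (M.G k) a,
    S.smulMod_eq_zero 0 (M.G k) (by rwa [zero_add, pow_one]), Functor.map_zero, zero_comp]

/-- Multiplication by an element of `J`, one level up. -/
def up (k : ℕ) (a : A) (ha : a ∈ J) : (Scheme.Modules.pushforward (S.i k)).obj (M.F k) ⟶ M.F (k + 1) :=
  haveI := M.epi_π k
  (ShortComplex.exact_kernel (M.π k)).desc (Formal.smulMod A (M.F (k + 1)) a) (M.killedKer k ha)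

theorem π_up (k : ℕ) (a : A) (ha : a ∈ J) : M.π k ≫ M.up k a ha = Formal.smulMod A (M.F (k + 1)) a :=
  haveI := M.epi_π k
  (ShortComplex.exact_kernel (M.π k)).g_desc _ _

theorem up_π (k : ℕ) (a : A) (ha : a ∈ J) :
    M.up k a ha ≫ M.π k = Formal.smulMod A ((Scheme.Modules.pushforward (S.i k)).obj (M.F k)) a := by
  haveI := M.epi_π k
  rw [← cancel_epi (M.π k), ← Category.assoc, π_up]
  exact FFun.smulMod_naturality (M.π k) a

/-- A composite direct image. -/
abbrev comp (k : ℕ) : Scheme.Modules.pushforward (S.j k) ⋙ Scheme.Modules.pushforward (S.i k) ≅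
    Scheme.Modules.pushforward (S.j (k + 1)) :=
  Scheme.Modules.pushforwardComp (S.j k) (S.i k)

/-- Multiplication into the next kernel. -/
def m (k : ℕ) (a : A) (ha : a ∈ J) :
    (Scheme.Modules.pushforward (S.j (k + 1))).obj (M.G k) ⟶ kernel (M.π k) :=
  kernel.lift (M.π k)
    ((comp k).inv.app (M.G k) ≫ (Scheme.Modules.pushforward (S.i k)).map (M.γ k) ≫ M.up k a ha) (by
      rw [Category.assoc, Category.assoc, up_π, ← push_map_smulMod (S.i k) (S.i_over k), ← Functor.map_comp,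
        M.γ_smul k ha, Functor.map_zero, comp_zero])

theorem exists_t (k : ℕ) (a : A) (ha : a ∈ J) : ∃ t : M.G k ⟶ M.G (k + 1),
    (Scheme.Modules.pushforward (S.j (k + 1))).map t ≫ M.γ (k + 1) =
      (comp k).inv.app (M.G k) ≫ (Scheme.Modules.pushforward (S.i k)).map (M.γ k) ≫ M.up k a ha := by
  obtain ⟨t, ht⟩ := exists_push_map (S.j (k + 1)) (M.isCoh_G k).1 (M.isCoh_G (k + 1)).1
    (M.m k a ha ≫ (M.θ k).hom)
  refine ⟨t, ?_⟩
  rw [ht]
  show (M.m k a ha ≫ (M.θ k).hom) ≫ (M.θ k).inv ≫ kernel.ι (M.π k) = _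
  rw [Category.assoc, Iso.hom_inv_id_assoc]
  exact kernel.lift_ι _ _ _

/-- Multiplication on the graded pieces. -/
def t (k : ℕ) (a : A) (ha : a ∈ J) : M.G k ⟶ M.G (k + 1) := (M.exists_t k a ha).choose

theorem push_t (k : ℕ) (a : A) (ha : a ∈ J) :
    (Scheme.Modules.pushforward (S.j (k + 1))).map (M.t k a ha) ≫ M.γ (k + 1) =
      (comp k).inv.app (M.G k) ≫ (Scheme.Modules.pushforward (S.i k)).map (M.γ k) ≫ M.up k a ha :=
  (M.exists_t k a ha).choose_spec

theorem push_up_up (k : ℕ) (b c : A) (hb : b ∈ J) (hc : c ∈ J) :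
    (Scheme.Modules.pushforward (S.i (k + 1))).map (M.up k b hb) ≫ M.up (k + 1) c hc =
      (Scheme.Modules.pushforward (S.i (k + 1))).map (M.up k c hc) ≫ M.up (k + 1) b hb := by
  haveI := M.epi_π k
  haveI := M.epi_π (k + 1)
  haveI : Epi ((Scheme.Modules.pushforward (S.i (k + 1))).map (M.π k)) :=
    epi_push (S.i (k + 1)) (M.coh (k + 1)).1 (M.isQCoh_push k) _
  rw [← cancel_epi ((Scheme.Modules.pushforward (S.i (k + 1))).map (M.π k)), ← cancel_epi (M.π (k + 1))]
  have h : ∀ b c (hb : b ∈ J) (hc : c ∈ J), M.π (k + 1) ≫ (Scheme.Modules.pushforward (S.i (k + 1))).map (M.π k) ≫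
      (Scheme.Modules.pushforward (S.i (k + 1))).map (M.up k b hb) ≫ M.up (k + 1) c hc =
      Formal.smulMod A (M.F (k + 1 + 1)) (b * c) := fun b c hb hc => by
    rw [← Functor.map_comp_assoc, π_up, push_map_smulMod (S.i (k + 1)) (S.i_over (k + 1)), ← Category.assoc,
      ← FFun.smulMod_naturality (M.π (k + 1)), Category.assoc, π_up, ← FFun.smulMod_mul]
    exact congrArg _ (mul_comm _ _)
  rw [h b c hb hc, h c b hc hb, mul_comm]

variable {r : ℕ} (a : Fin r → A) (ha : ∀ i, a i ∈ J)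

set_option maxHeartbeats 1000000 in
/-- The graded system. -/
def sys : FFun.Gen.Sys (S.X 0) r where
  G := M.G
  t k i := M.t k (a i) (ha i)
  comm k i j := by
    haveI := faithful_push (S.j (k + 1 + 1))
    haveI := M.mono_γ (k + 1 + 1)
    apply (Scheme.Modules.pushforward (S.j (k + 1 + 1))).map_injective
    rw [← cancel_mono (M.γ (k + 1 + 1))]
    have h : ∀ i j, (Scheme.Modules.pushforward (S.j (k + 1 + 1))).map (M.t k (a j) (ha j) ≫ M.t (k + 1) (a i) (ha i)) ≫
        M.γ (k + 1 + 1) = (comp (k + 1)).inv.app (M.G k) ≫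
          (Scheme.Modules.pushforward (S.i (k + 1))).map
            ((comp k).inv.app (M.G k) ≫ (Scheme.Modules.pushforward (S.i k)).map (M.γ k)) ≫
          (Scheme.Modules.pushforward (S.i (k + 1))).map (M.up k (a j) (ha j)) ≫ M.up (k + 1) (a i) (ha i) := fun i j => by
      rw [Functor.map_comp, Category.assoc, push_t]
      have hn := (comp (k + 1)).inv.naturality (M.t k (a j) (ha j))
      rw [← Category.assoc]
      refine (congrArg (· ≫ _) hn).trans ?_
      rw [Category.assoc]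
      refine congrArg ((comp (k + 1)).inv.app (M.G k) ≫ ·) ?_
      show (Scheme.Modules.pushforward (S.i (k + 1))).map ((Scheme.Modules.pushforward (S.j (k + 1))).map (M.t k (a j) (ha j))) ≫
        (Scheme.Modules.pushforward (S.i (k + 1))).map (M.γ (k + 1)) ≫ _ = _
      rw [← Functor.map_comp_assoc, push_t, ← Functor.map_comp_assoc, Category.assoc]
    rw [h, h, M.push_up_up]

set_option maxHeartbeats 1000000 in
theorem genFrom_sys (hspan : Ideal.span (Set.range a) = J) : (M.sys a ha).GenFrom 0 := by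
  intro k _
  refine Preadditive.epi_of_cancel_zero _ fun {Z} g hg => ?_
  have hg' : ∀ i, M.t k (a i) (ha i) ≫ g = 0 := fun i => by
    have h := congrArg (fun z => biproduct.ι (fun _ : ULift.{u} (Fin r) => (M.sys a ha).G k) ⟨i⟩ ≫ z) hg
    simp only [biproduct.ι_desc_assoc, comp_zero] at h
    exact h
  haveI := faithful_push (S.j (k + 1))
  apply (Scheme.Modules.pushforward (S.j (k + 1))).map_injective
  rw [Functor.map_zero, ← cancel_epi (M.θ k).hom, comp_zero]
  let g' : kernel (M.π k) ⟶ (Scheme.Modules.pushforward (S.j (k + 1))).obj Z :=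
    (M.θ k).hom ≫ (Scheme.Modules.pushforward (S.j (k + 1))).map g
  have hm : ∀ i, M.m k (a i) (ha i) ≫ g' = 0 := fun i => by
    have h1 : M.m k (a i) (ha i) ≫ (M.θ k).hom =
        (Scheme.Modules.pushforward (S.j (k + 1))).map (M.t k (a i) (ha i)) := by
      haveI := M.mono_γ (k + 1)
      rw [← cancel_mono (M.γ (k + 1)), push_t]
      show (_ ≫ _) ≫ (M.θ k).inv ≫ kernel.ι (M.π k) = _
      rw [Category.assoc, Iso.hom_inv_id_assoc]
      exact kernel.lift_ι _ _ _
    show M.m k (a i) (ha i) ≫ (M.θ k).hom ≫ _ = 0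
    rw [← Category.assoc, h1, ← Functor.map_comp, hg' i, Functor.map_zero]
  let ρ : ∀ b : A, b ∈ J ^ (k + 1) → (M.F (k + 1) ⟶ kernel (M.π k)) := fun b hb =>
    kernel.lift _ (Formal.smulMod A _ b) (M.smulMod_π k hb)
  have hρι : ∀ b hb, ρ b hb ≫ kernel.ι (M.π k) = Formal.smulMod A _ b := fun b hb => kernel.lift_ι _ _ _
  have hφ : ∀ c ∈ J ^ k, ∃ φ : M.F k ⟶ (Scheme.Modules.pushforward (S.j k)).obj (M.G k),
      φ ≫ M.γ k = Formal.smulMod A (M.F k) c := by
    intro c hc
    match k, hc with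
    | 0, _ => exact ⟨Formal.smulMod A (M.F 0) c ≫ (Scheme.Modules.pushforwardId (S.X 0)).inv.app (M.F 0), by
        show (_ ≫ _) ≫ (Scheme.Modules.pushforwardId (S.X 0)).hom.app (M.F 0) = _
        rw [Category.assoc, Iso.inv_hom_id_app]
        exact Category.comp_id _⟩
    | n + 1, hc =>
      refine ⟨kernel.lift (M.π n) (Formal.smulMod A (M.F (n + 1)) c) (M.smulMod_π n hc) ≫ (M.θ n).hom, ?_⟩
      show (_ ≫ _) ≫ (M.θ n).inv ≫ kernel.ι (M.π n) = _
      rw [Category.assoc, Iso.hom_inv_id_assoc, kernel.lift_ι]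
  let T : Ideal A :=
    { carrier := {b | ∃ hb : b ∈ J ^ (k + 1), ρ b hb ≫ g' = 0}
      zero_mem' := ⟨zero_mem _, by
        rw [show ρ 0 (zero_mem _) = 0 by
          rw [← cancel_mono (kernel.ι (M.π k)), hρι _ (zero_mem _), FFun.smulMod_zero, zero_comp], zero_comp]⟩
      add_mem' := fun {b c} hb hc => ⟨add_mem hb.1 hc.1, by
        rw [show ρ (b + c) (add_mem hb.1 hc.1) = ρ b hb.1 + ρ c hc.1 by
          rw [← cancel_mono (kernel.ι (M.π k)), hρι _ (add_mem hb.1 hc.1), Preadditive.add_comp, hρι b hb.1, hρι c hc.1,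
            FFun.smulMod_add], Preadditive.add_comp, hb.2, hc.2, add_zero]⟩
      smul_mem' := fun c b hb => ⟨Ideal.mul_mem_left _ c hb.1, by
        rw [show ρ (c • b) (Ideal.mul_mem_left _ c hb.1) = Formal.smulMod A _ c ≫ ρ b hb.1 by
          rw [← cancel_mono (kernel.ι (M.π k)), Category.assoc]
          refine (hρι (c • b) (Ideal.mul_mem_left _ c hb.1)).trans ?_
          rw [hρι b hb.1, smul_eq_mul, mul_comm, FFun.smulMod_mul], Category.assoc, hb.2, comp_zero]⟩ }
  have hT : J ^ (k + 1) ≤ T := by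
    rw [pow_succ', Ideal.mul_le]
    intro x hx c hc
    rw [← hspan] at hx
    induction hx using Submodule.span_induction with
    | mem x hx =>
      obtain ⟨i, rfl⟩ := hx
      have hb : a i * c ∈ J ^ (k + 1) := pow_succ' J k ▸ Ideal.mul_mem_mul (ha i) hc
      refine ⟨hb, ?_⟩
      obtain ⟨φ, hφ'⟩ := hφ c hc
      rw [show ρ (a i * c) hb = (M.π k ≫ (Scheme.Modules.pushforward (S.i k)).map φ ≫ (comp k).hom.app (M.G k)) ≫
          M.m k (a i) (ha i) from by
        rw [← cancel_mono (kernel.ι (M.π k)), hρι _ hb]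
        simp only [Category.assoc, m, kernel.lift_ι]
        rw [Iso.hom_inv_id_app_assoc, ← Functor.map_comp_assoc, hφ', push_map_smulMod (S.i k) (S.i_over k),
          ← Category.assoc, ← FFun.smulMod_naturality (M.π k), Category.assoc, π_up, ← FFun.smulMod_mul],
        Category.assoc, hm i, comp_zero]
    | zero => rw [zero_mul]; exact zero_mem T
    | add x y _ _ hx hy => rw [add_mul]; exact add_mem hx hy
    | smul b x _ hx => rw [smul_eq_mul, mul_assoc]; exact Ideal.mul_mem_left _ b hx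
  obtain ⟨h, hex⟩ := M.exact_π k
  haveI := hex.epi_kernelLift
  show g' = 0
  refine (cancel_epi (kernel.lift (M.π k) _ h)).1 (Sigma.hom_ext _ _ fun b => ?_)
  rw [comp_zero, comp_zero, ← Category.assoc]
  have e : Sigma.ι (fun _ : ↥(J ^ (k + 1)) => M.F (k + 1)) b ≫ kernel.lift (M.π k) _ h = ρ b.1 b.2 := by
    rw [← cancel_mono (kernel.ι (M.π k)), Category.assoc, kernel.lift_ι, hρι _ b.2]
    exact Sigma.ι_desc _ _
  rw [e]
  exact (hT b.2).2

/-- Uniform vanishing on all levels. -/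
theorem exists_vanishing [IsNoetherianRing A] (hp : IsProper (S.p 0)) (L : ∀ k, (S.X k).Modules)
    (hL : ∀ k, PicF.IsInvertible (L k))
    (φ : ∀ k, Nonempty ((Scheme.Modules.pullback (S.i k)).obj (L (k + 1)) ≅ L k)) (ha : CohB1.IsAmple (L 0)) :
    ∃ n₀, ∀ n, n₀ ≤ n → ∀ k q,
      Subsingleton (Coh.HH (S.X k) (CohB1.tensorMod (M.F k) (CohB1.tensorPow (L k) n)) (q + 1)) ∧
      Subsingleton (Coh.HH (S.X (k + 1))
        ((tw (CohB1.tensorPow (L (k + 1)) n)).obj (kernel (M.π k))) (q + 1)) := by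
  obtain ⟨r, a, hspan⟩ := Submodule.fg_iff_exists_fin_generating_family.1 (IsNoetherian.noetherian J)
  have haJ : ∀ i, a i ∈ J := fun i => hspan ▸ Submodule.subset_span ⟨i, rfl⟩
  haveI := S.isProper_str₀ hp
  obtain ⟨n₀, hn₀⟩ := exists_uniform_vanishing (A := A) ha (M.sys a haJ) M.isCoh_G (M.genFrom_sys a haJ hspan)
  refine ⟨n₀, fun n hn => ?_⟩
  let P := fun k => CohB1.tensorPow (L k) n
  have hP : ∀ k, PicF.IsInvertible (P k) := fun k => InvX.isInvertible_tensorPow (hL k) n
  have hPi : ∀ k, PicF.pullCl (S.i k) (PicF.cl (P (k + 1))) = PicF.cl (P k) := fun k => by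
    show PicF.pullCl (S.i k) (PicF.cl (CohB1.tensorPow (L (k + 1)) n)) = PicF.cl (CohB1.tensorPow (L k) n)
    rw [cl_tensorPow, cl_tensorPow, pullCl_pow]
    exact congrArg (· ^ n) (cl_eq_iff.2 (φ k))
  have hPj : ∀ k, PicF.pullCl (S.j k) (PicF.cl (P k)) = PicF.cl (P 0) := fun k => by
    induction k with
    | zero =>
      show PicF.pullCl (𝟙 _) _ = _
      rw [PicClLib.pullCl_id]
    | succ k ih =>
      show PicF.pullCl (S.j k ≫ S.i k) _ = _
      rw [← PicClLib.pullCl_comp, hPi, ih]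
  have hker : ∀ k q, Subsingleton (Coh.HH (S.X (k + 1)) ((tw (P (k + 1))).obj (kernel (M.π k))) (q + 1)) :=
    fun k q => by
      obtain ⟨e⟩ := exists_twist_push (S.square_j' (k + 1)) (M.isCoh_kernel k).1
        (fun b hb => M.kernel_killed k (by rwa [zero_add, pow_one] at hb)) (hP (k + 1))
      have hq : Coh.IsQCoh (CohB1.tensorMod (M.G (k + 1)) ((Scheme.Modules.pullback (S.j (k + 1))).obj (P (k + 1)))) :=
        KFlatLib.isQCoh_tensor (M.isCoh_G (k + 1)).1
          (QCoh.isQCoh_pullback _ (ProjUPX.isQCoh_of_isInvertible (hP (k + 1))))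
      obtain ⟨e₂⟩ : Nonempty (CohB1.tensorMod (M.G (k + 1)) ((Scheme.Modules.pullback (S.j (k + 1))).obj (P (k + 1))) ≅
          CohB1.tensorMod (M.G (k + 1)) (P 0)) := cl_eq_iff.1 (by
        rw [cl_tensor, cl_tensor]
        exact congrArg (PicF.cl (M.G (k + 1)) * ·) (hPj (k + 1)))
      obtain ⟨E⟩ := QCoh.HH_push_of_isAffineHom (S.j (k + 1)) hq (q + 1)
      have h1 := QCoh.subsingleton_HH_of_iso e₂.symm (q + 1) (hn₀ n hn (k + 1) q)
      exact QCoh.subsingleton_HH_of_iso e.symm (q + 1) (E.symm.toEquiv.subsingleton)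
  intro k q
  refine ⟨?_, hker k q⟩
  induction k with
  | zero => exact hn₀ n hn 0 q
  | succ k ih =>
    haveI := isEquivalence_tw (hP (k + 1))
    haveI : (tw (P (k + 1))).Additive := Functor.additive_of_preserves_binary_products _
    haveI := M.epi_π k
    have hses : (ShortComplex.mk (kernel.ι (M.π k)) (M.π k) (kernel.condition _)).ShortExact :=
      { exact := ShortComplex.exact_kernel _, mono_f := inferInstance, epi_g := inferInstance }
    refine QCoh.subsingleton_HH_X₂ (hses.map_of_exact (tw (P (k + 1)))) (q + 1) (hker k q) ?_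
    obtain ⟨e⟩ := exists_twist_push (S.square_i k) (M.isQCoh_push k) (fun b hb => by
      rw [← push_map_smulMod (S.i k) (S.i_over k), S.smulMod_eq_zero k (M.F k) hb, Functor.map_zero]) (hP (k + 1))
    haveI := isIso_counit (S.i k) (M.coh k).1
    let c : (Scheme.Modules.pullback (S.i k)).obj ((Scheme.Modules.pushforward (S.i k)).obj (M.F k)) ≅ M.F k :=
      asIso ((Scheme.Modules.pullbackPushforwardAdjunction (S.i k)).counit.app (M.F k))
    obtain ⟨e₂⟩ : Nonempty (CohB1.tensorMod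
        ((Scheme.Modules.pullback (S.i k)).obj ((Scheme.Modules.pushforward (S.i k)).obj (M.F k)))
        ((Scheme.Modules.pullback (S.i k)).obj (P (k + 1))) ≅ CohB1.tensorMod (M.F k) (P k)) := cl_eq_iff.1 (by
      rw [cl_tensor, cl_tensor, cl_eq_iff.2 ⟨c⟩]
      exact congrArg (PicF.cl (M.F k) * ·) (hPi k))
    have hq : Coh.IsQCoh (CohB1.tensorMod
        ((Scheme.Modules.pullback (S.i k)).obj ((Scheme.Modules.pushforward (S.i k)).obj (M.F k)))
        ((Scheme.Modules.pullback (S.i k)).obj (P (k + 1)))) :=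
      KFlatLib.isQCoh_tensor (QCoh.isQCoh_pullback _ (M.isQCoh_push k))
        (QCoh.isQCoh_pullback _ (ProjUPX.isQCoh_of_isInvertible (hP (k + 1))))
    obtain ⟨E⟩ := QCoh.HH_push_of_isAffineHom (S.i k) hq (q + 1)
    have h1 := QCoh.subsingleton_HH_of_iso e₂.symm (q + 1) ih
    exact QCoh.subsingleton_HH_of_iso e.symm (q + 1) (E.symm.toEquiv.subsingleton)

end AdicMod

end Groth.Agent.AmpleVan
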