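import Groth.Agent.AmpleVan.FinGen
import Groth.Agent.AmpleVan.Uniform
import Groth.Agent.AmpleX.Separated
import Groth.Agent.KFlatLib.Perfect.Top
import Groth.Agent.KFlatLib.Perfect.Tensor

/-!
# A scheme on which high powers of an anti-ample module are acyclic is affine
-/

set_option linter.style.haveILetI false
set_option backward.isDefEq.respectTransparency false
set_option backward.isDefEq.respectTransparency.types false

universe u

open CategoryTheory CategoryTheory.Limits AlgebraicGeometry TopologicalSpace Opposite MonoidalCategory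
open Groth.Agent.H23.PicMul

attribute [local instance] HasDerivedCategory.standard
attribute [local instance] Groth.Agent.QCoh.hasFiniteBiproducts

noncomputable section

namespace Groth.Agent.AmpleVan

open Groth.Agent

variable {X : Scheme.{u}} {L L' P : X.Modules}

/-- The twist of a finite sum of copies of the structure module. -/
abbrev twSum (P : X.Modules) (c : ℕ) : X.Modules :=
  (tw P).obj (⨁ fun _ : Fin c => Coh.structureModule X)

set_option maxHeartbeats 1000000 in
theorem isFinLocFree_twSum (hP : PicF.IsInvertible P) (c : ℕ) : FlatMod.IsFinLocFree (twSum P c) := by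
  refine KFlatLib.isFinLocFree_tensor ?_ (H23.PullPush.isFinLocFree_of_isInvertible hP)
  exact H23.PullPush.isFinLocFree_of_iso (biproduct.isoCoproduct (fun _ : Fin c => Coh.structureModule X)).symm
    (KFlatLib.isFinLocFree_freeMod c)

theorem total_twSum (hP : PicF.IsInvertible P) (c : ℕ) :
    ∑ j, (tw P).map (biproduct.π (fun _ : Fin c => Coh.structureModule X) j) ≫
      (tw P).map (biproduct.ι (fun _ : Fin c => Coh.structureModule X) j) = 𝟙 (twSum P c) := by
  haveI := isEquivalence_tw hP
  haveI : (tw P).Additive := Functor.additive_of_preserves_binary_products _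
  simp only [← Functor.map_comp, ← Functor.map_sum]
  erw [biproduct.total]
  exact CategoryTheory.Functor.map_id _ _

set_option maxHeartbeats 1000000 in
theorem subsingleton_HH_twSum (hP : PicF.IsInvertible P) (c p : ℕ) (h : Subsingleton (Coh.HH X P p)) :
    Subsingleton (Coh.HH X (twSum P c) p) := by
  obtain ⟨φ⟩ : Nonempty (P ≅ (tw P).obj (Coh.structureModule X)) := cl_eq_iff.1 (by
    show _ = PicF.cl (CohB1.tensorMod _ P)
    rw [cl_tensor, ← H23.PicMul.one_def, one_mul])
  let T : X.Modules := (tw P).obj (Coh.structureModule X)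
  let π' : Fin c → (twSum P c ⟶ T) := fun j =>
    (tw P).map (biproduct.π (fun _ : Fin c => Coh.structureModule X) j)
  let ι' : Fin c → (T ⟶ twSum P c) := fun j =>
    (tw P).map (biproduct.ι (fun _ : Fin c => Coh.structureModule X) j)
  have ht : ∑ j, π' j ≫ ι' j = 𝟙 (twSum P c) := total_twSum hP c
  have hT : Subsingleton (Coh.HH X T p) := QCoh.subsingleton_HH_of_iso φ p h
  have key : ∀ (E T : X.Modules) (f : Fin c → (E ⟶ T)) (g : Fin c → (T ⟶ E)),
      ∑ j, f j ≫ g j = 𝟙 E → Subsingleton (Coh.HH X T p) → Subsingleton (Coh.HH X E p) := fun E T f g hfg hT =>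
    PnCoh.Finite.subsingleton_HH_of_decomposition (fun _ : Fin c => T) f g hfg p fun _ => hT
  exact key _ _ π' ι' ht hT

set_option maxHeartbeats 1000000 in
/-- Finite locally free modules are acyclic when high powers of an anti-ample module are. -/
theorem subsingleton_HH_finLocFree (hL : CohB1.IsAmple L) (hL' : PicF.IsInvertible L')
    (hinv : PicF.cl L * PicF.cl L' = 1) {n₀ : ℕ}
    (h : ∀ n, n₀ ≤ n → ∀ p, Subsingleton (Coh.HH X (CohB1.tensorPow L' n) (p + 1)))
    {K : X.Modules} (hK : FlatMod.IsFinLocFree K) (p : ℕ) : Subsingleton (Coh.HH X K (p + 1)) := by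
  haveI : CompactSpace X := hL.2.1
  haveI := AmpleX.isSeparated_of_isAmple hL
  obtain ⟨d, hd⟩ := QCoh.exists_HH_bound (X := X)
  suffices H : ∀ (j : ℕ) (K : X.Modules), FlatMod.IsFinLocFree K → ∀ p, d ≤ p + 1 + j →
      Subsingleton (Coh.HH X K (p + 1)) from H d K hK p (by omega)
  intro j
  induction j with
  | zero => intro K hK p hp; exact hd K (QCoh.isQCoh_of_isFinLocFree hK) _ (by omega)
  | succ j ih =>
    intro K hK p hp
    have hq := QCoh.isQCoh_of_isFinLocFree hK
    have hft : CohB1.IsFT K := QCoh.isFT_of_isFP (QCoh.isFP_of_isFinLocFree hK)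
    obtain ⟨N, hN⟩ := AmpleX.eventually_generated hL hq hft
    obtain ⟨G, φ, ι, s, hs⟩ := hN (max N n₀) (le_max_left _ _)
    have hGl : FlatMod.IsFinLocFree G := H23.PullPush.isFinLocFree_of_iso φ.symm
      (KFlatLib.isFinLocFree_tensor hK
        (H23.PullPush.isFinLocFree_of_isInvertible (InvX.isInvertible_tensorPow hL.1 _)))
    obtain ⟨c, f, hf⟩ := exists_fin_generatedBy
      ⟨QCoh.isQCoh_of_isFinLocFree hGl, QCoh.isFT_of_isFP (QCoh.isFP_of_isFinLocFree hGl)⟩ s hs
    obtain ⟨g, hg⟩ := InvX.exists_epi_freeMod hf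
    let P := CohB1.tensorPow L' (max N n₀)
    have hP : PicF.IsInvertible P := InvX.isInvertible_tensorPow hL' _
    haveI := isEquivalence_tw hP
    obtain ⟨ψ⟩ : Nonempty ((tw P).obj G ≅ K) := cl_eq_iff.1 (by
      show PicF.cl (CohB1.tensorMod G P) = _
      rw [cl_tensor, cl_eq_iff.2 ⟨φ⟩, cl_tensor, cl_tensorPow, cl_tensorPow, mul_assoc, ← mul_pow, hinv,
        one_pow, mul_one])
    let q₀ : (⨁ fun _ : Fin c => Coh.structureModule X) ⟶ G :=
      (biproduct.isoCoproduct (fun _ : Fin c => Coh.structureModule X)).hom ≫ g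
    haveI : Epi q₀ := epi_comp _ g
    let q : twSum P c ⟶ K := (tw P).map q₀ ≫ ψ.hom
    haveI : Epi q := epi_comp _ _
    let S : ShortComplex X.Modules := ShortComplex.mk (kernel.ι q) q (kernel.condition q)
    have hS : S.ShortExact := { exact := ShortComplex.exact_of_f_is_kernel _ (kernelIsKernel q) }
    exact PnCoh.Finite.subsingleton_HH_X₃ hS (p + 1)
      (subsingleton_HH_twSum hP c _ (h _ (le_max_right _ _) p))
      (ih (kernel q) (KFlatLib.isFinLocFree_kernel q (isFinLocFree_twSum hP c) hK) (p + 1) (by omega))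

set_option maxHeartbeats 1000000 in
/-- A scheme on which high powers of an anti-ample module are acyclic is affine. -/
theorem isAffine_of_antiAmple (hL : CohB1.IsAmple L) (hL' : PicF.IsInvertible L')
    (hinv : PicF.cl L * PicF.cl L' = 1) {n₀ : ℕ}
    (h : ∀ n, n₀ ≤ n → ∀ p, Subsingleton (Coh.HH X (CohB1.tensorPow L' n) (p + 1))) : IsAffine X := by
  haveI : CompactSpace X := hL.2.1
  haveI := AmpleX.isSeparated_of_isAmple hL
  obtain ⟨a, ha, κ, _, σ, hσ, -, hcov⟩ := AmpleX.exists_cover_genLocus hL
  let e := (Fintype.equivFin κ).symm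
  let c := Fintype.card κ
  let N := CohB1.tensorPow L a
  let P := CohB1.tensorPow L' a
  have hN : PicF.IsInvertible N := InvX.isInvertible_tensorPow hL.1 a
  have hP : PicF.IsInvertible P := InvX.isInvertible_tensorPow hL' a
  haveI := isEquivalence_tw hP
  obtain ⟨φ⟩ : Nonempty ((tw P).obj N ≅ Coh.structureModule X) := cl_eq_iff.1 (by
    show PicF.cl (CohB1.tensorMod N P) = _
    rw [cl_tensor, cl_tensorPow, cl_tensorPow, ← mul_pow, hinv, one_pow, H23.PicMul.one_def])
  let q₀ : (⨁ fun _ : Fin c => Coh.structureModule X) ⟶ N := biproduct.desc fun j => σ (e j)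
  haveI : Epi q₀ := by
    refine InvX.epi_of_generated (s := fun j => InvX.one (σ (e j))) (fun x => ?_) q₀
      (fun j => biproduct.ι (fun _ : Fin c => Coh.structureModule X) j)
      fun j => congrArg InvX.one (biproduct.ι_desc _ _)
    obtain ⟨k, hk⟩ := hcov x
    obtain ⟨W, hxW, hW⟩ := InvX.mem_genLocus hk
    refine eq_top_iff.2 fun y _ => ?_
    obtain ⟨r, rfl⟩ := (hW.germ_bijective hxW).2 y
    refine Submodule.smul_mem _ r (Submodule.subset_span ⟨e.symm k, ?_⟩)
    rw [InvX.germ_res']
    simp only [Equiv.apply_symm_apply]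
  let q : twSum P c ⟶ Coh.structureModule X := (tw P).map q₀ ≫ φ.hom
  haveI : Epi q := epi_comp _ _
  let S : ShortComplex X.Modules := ShortComplex.mk (kernel.ι q) q (kernel.condition q)
  have hS : S.ShortExact := { exact := ShortComplex.exact_of_f_is_kernel _ (kernelIsKernel q) }
  obtain ⟨x, hx⟩ := QCoh.app_top_surjective_of_HH_one hS
    (subsingleton_HH_finLocFree hL hL' hinv h
      (KFlatLib.isFinLocFree_kernel q (isFinLocFree_twSum hP c)
        (H23.PullPush.isFinLocFree_of_isInvertible InvX.isInvertible_structureModule)) 0)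
    (show Γ(Coh.structureModule X, ⊤) from (1 : Γ(X, ⊤)))
  let π := fun j => (tw P).map (biproduct.π (fun _ : Fin c => Coh.structureModule X) j)
  let g : Fin c → Γ(X, ⊤) := fun j => φ.hom.app ⊤ (((tw P).map (σ (e j))).app ⊤ ((π j).app ⊤ x))
  have hle : ∀ j, X.basicOpen (g j) ≤ CohB1.genLocus N (σ (e j)) := fun j z hz => by
    obtain ⟨W, hzW, u, v, hu, hv⟩ := InvX.exists_frame₂ hN hP z
    let one : Γ(Coh.structureModule X, W) := (1 : Γ(X, W))
    obtain ⟨r, hr⟩ := (InvX.isFrame_tmul (InvX.isFrame_one W) hv).exists_coord le_rfl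
      (AModX.res _ (le_top : W ≤ ⊤) ((π j).app ⊤ x))
    obtain ⟨d, hd⟩ := hu.exists_coord le_rfl (AModX.res N (le_top : W ≤ ⊤) (InvX.one (σ (e j))))
    rw [AModX.res_self] at hr hd
    by_contra hzn
    have hdz : z ∉ X.basicOpen d := fun hh => hzn ((InvX.genLocus_inf (σ (e j)) hu hd).ge hh).1
    let η : (tw P).obj (Coh.structureModule X) ⟶ Coh.structureModule X := (tw P).map (σ (e j)) ≫ φ.hom
    have h1 : (show Γ(Coh.structureModule X, W) from AModX.resR (le_top : W ≤ ⊤) (g j)) =
        (r * d) • φ.hom.app W (InvX.tmul u v) := by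
      refine Eq.trans (AModX.app_res η (le_top : W ≤ ⊤) ((π j).app ⊤ x)).symm ?_
      refine (congrArg (η.app W) hr).trans ((Scheme.Modules.Hom.app_smul η _ _).trans ?_)
      refine (congrArg (fun z => r • z) ?_).trans (mul_smul r d _).symm
      show φ.hom.app W (((tw P).map (σ (e j))).app W (InvX.tmul one v)) = _
      refine (congrArg (φ.hom.app W) ((map_tmul_left (σ (e j)) one v).trans
        ((congrArg (fun z => InvX.tmul z v)
          ((InvX.app_eq_smul (σ (e j)) (1 : Γ(X, W))).trans ((one_smul _ _).trans hd))).trans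
          (InvX.tmul_smul_left d u v)))).trans (Scheme.Modules.Hom.app_smul φ.hom _ _)
    have h2 : z ∈ X.basicOpen (AModX.resR (le_top : W ≤ ⊤) (g j)) := by
      rw [show AModX.resR (le_top : W ≤ ⊤) (g j) = X.presheaf.map (homOfLE le_top).op (g j) from rfl,
        Scheme.basicOpen_res]
      exact ⟨hzW, hz⟩
    rw [show AModX.resR (le_top : W ≤ ⊤) (g j) = (r * d) * QCoh.toFn (φ.hom.app W (InvX.tmul u v)) from h1,
      Scheme.basicOpen_mul, Scheme.basicOpen_mul] at h2
    exact hdz h2.1.2
  have hsum : ∑ j, g j = 1 := by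
    let ev : (twSum P c ⟶ Coh.structureModule X) →+ Γ(Coh.structureModule X, ⊤) :=
      { toFun := fun f => f.app ⊤ x, map_zero' := rfl, map_add' := fun _ _ => rfl }
    have h1 : q = ∑ j, π j ≫ (tw P).map (σ (e j)) ≫ φ.hom := by
      have h0 := congrArg (· ≫ q) (total_twSum hP c)
      simp only [Category.id_comp, Preadditive.sum_comp] at h0
      rw [← h0]
      refine Finset.sum_congr rfl fun j _ => ?_
      simp only [π, q, Category.assoc]
      rw [← Functor.map_comp_assoc (tw P) (biproduct.ι _ j) q₀, biproduct.ι_desc]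
    have h2 := congrArg ev h1
    rw [map_sum] at h2
    exact h2.symm.trans hx
  refine isAffine_of_isAffineOpen_basicOpen (Set.range g) ((Ideal.eq_top_iff_one _).2
    (hsum ▸ sum_mem fun j _ => Ideal.subset_span ⟨j, rfl⟩)) ?_
  rintro _ ⟨j, rfl⟩
  have := Scheme.basicOpen_res X (g j) (homOfLE (le_top : CohB1.genLocus N (σ (e j)) ≤ ⊤)).op
  rw [inf_eq_right.2 (hle j)] at this
  rw [← this]
  exact (hσ _).basicOpen _

end Groth.Agent.AmpleVan
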