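import Groth.Agent.AmpleVan.FibreVanish
import Groth.Agent.AmpleVan.Criterion

/-!
# Ampleness over a Noetherian local ring is detected on the closed fibre
-/

set_option linter.style.haveILetI false
set_option backward.isDefEq.respectTransparency false
set_option backward.isDefEq.respectTransparency.types false

universe u

open CategoryTheory CategoryTheory.Limits AlgebraicGeometry TopologicalSpace Opposite

noncomputable section

namespace Groth.Agent.AmpleVan.FibreVanish

open Groth.Agent

theorem subsingleton_of_completion {A : Type u} [CommRing A] [IsNoetherianRing A] [IsLocalRing A] {M : Type u}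
    [AddCommGroup M] [Module A M] [Module.Finite A M]
    [Subsingleton (AdicCompletion (IsLocalRing.maximalIdeal A) M)] : Subsingleton M :=
  ⟨fun a b => AdicCompletion.of_injective (I := IsLocalRing.maximalIdeal A) _ (Subsingleton.elim _ _)⟩

/-- Ampleness on the reduction modulo the maximal ideal implies ampleness. -/
theorem isAmple_of_level0 {A : Type u} [CommRing A] [IsNoetherianRing A] [IsLocalRing A] {X : Scheme.{u}}
    [X.Over (Spec (CommRingCat.of A))] [IsProper (X ↘ Spec (CommRingCat.of A))] {L : X.Modules}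
    (hL : PicF.IsInvertible L)
    (ha : CohB1.IsAmple ((Scheme.Modules.pullback
      (CohB1.thickι (X ↘ Spec (CommRingCat.of A)) (IsLocalRing.maximalIdeal A) 0)).obj L)) :
    CohB1.IsAmple L := by
  let π := X ↘ Spec (CommRingCat.of A)
  let J := IsLocalRing.maximalIdeal A
  haveI : IsLocallyNoetherian X := LocallyOfFiniteType.isLocallyNoetherian π
  haveI : CompactSpace X := QuasiCompact.compactSpace_of_compactSpace π
  let S := thickSys π J
  let Lk : ∀ k, (S.X k).Modules := fun k => (Scheme.Modules.pullback (CohB1.thickι π J k)).obj L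
  have hp : IsProper (S.p 0) := MorphismProperty.pullback_snd π (CohB1.specQuot J 0) inferInstance
  refine isAmple_of_HH_one hL fun Z hZ => ?_
  let F := (QCoh.vanIdeal Z).toModules
  have hF : Coh.IsCoh F := QCoh.isCoh_of_mono (QCoh.vanIdeal Z).ι QCoh.isCoh_structureModule' (QCoh.isQCoh_vanIdeal Z)
  obtain ⟨n₀, hn₀⟩ := (thickMod π J hF).exists_vanishing hp Lk (fun k => PicClLib.isInvertible_pullback _ hL)
    (fun k => ⟨(Scheme.Modules.pullbackComp (CohB1.thickTrans π J k) (CohB1.thickι π J (k + 1))).app L ≪≫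
      (Scheme.Modules.pullbackCongr (thickTrans_ι π J k)).app L⟩) ha
  refine ⟨n₀, ?_⟩
  let G := CohB1.tensorMod F (CohB1.tensorPow L (n₀ + 1))
  have hG : Coh.IsCoh G := isCoh_tensor hF (isCoh_invertible (InvX.isInvertible_tensorPow hL _))
  have hk : ∀ k, Subsingleton (Formal.HHmodPow J G (0 + 1) k) := fun k => by
    refine subsingleton_HH_modPow (π := π) rfl hG.1 k (0 + 1) ?_
    obtain ⟨e⟩ := RelVanish.pullback_twist_iso (CohB1.thickι π J k) L F (n₀ + 1)
    exact QCoh.subsingleton_HH_of_iso e.symm (0 + 1) (hn₀ (n₀ + 1) (Nat.le_succ _) k 0).1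
  obtain ⟨E⟩ := S0059.result A J X G hG 1
  haveI := S0002.result A X G hG 1
  haveI : Subsingleton (Formal.HHlim J G 1) := ⟨fun a b => Subtype.ext (funext fun k => (hk k).elim _ _)⟩
  haveI : Subsingleton (AdicCompletion (IsLocalRing.maximalIdeal A) (Coh.HH X G 1)) := E.toEquiv.subsingleton
  exact subsingleton_of_completion (A := A)

/-- Ampleness on a fibre gives ampleness on the bottom level over the local ring. -/
theorem isAmple_level0_of_fibre {X Y : Scheme.{u}} (f : X ⟶ Y) [IsProper f] {L : X.Modules} (y : Y)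
    (hy : CohB1.IsAmple ((Scheme.Modules.pullback (f.fiberι y)).obj L))
    {X₁ : Scheme.{u}} [X₁.Over (Spec (CommRingCat.of (Y.presheaf.stalk y)))] {g : X₁ ⟶ X}
    (hsq : IsPullback g (X₁ ↘ Spec (CommRingCat.of (Y.presheaf.stalk y))) f (Y.fromSpecStalk y)) :
    CohB1.IsAmple ((Scheme.Modules.pullback (CohB1.thickι (X₁ ↘ Spec (CommRingCat.of (Y.presheaf.stalk y)))
      (IsLocalRing.maximalIdeal (Y.presheaf.stalk y)) 0)).obj ((Scheme.Modules.pullback g).obj L)) := by
  let A : Type u := Y.presheaf.stalk y
  let J : Ideal A := IsLocalRing.maximalIdeal A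
  let π : X₁ ⟶ Spec (CommRingCat.of A) := X₁ ↘ Spec (CommRingCat.of A)
  haveI : IsProper π := MorphismProperty.of_isPullback (P := @IsProper) hsq inferInstance
  haveI : IsPreimmersion g :=
    MorphismProperty.of_isPullback (P := @IsPreimmersion) hsq.flip inferInstance
  have hJ : J = J ^ (0 + 1) := (pow_one J).symm
  let φ : IsLocalRing.ResidueField A →+* A ⧸ J ^ (0 + 1) := (Ideal.quotEquivOfEq hJ).toRingHom
  let ψ : Y.residueField y ⟶ CommRingCat.of (A ⧸ J ^ (0 + 1)) := CommRingCat.ofHom φ
  have hψ : Spec.map ψ ≫ Y.fromSpecResidueField y = CohB1.specQuot J 0 ≫ Y.fromSpecStalk y := by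
    show Spec.map ψ ≫ Spec.map (Y.residue y) ≫ Y.fromSpecStalk y = _
    rw [← Spec.map_comp_assoc]
    rfl
  let u : CohB1.thick π J 0 ⟶ f.fiber y :=
    pullback.lift (CohB1.thickι π J 0 ≫ g) (CohB1.thickToBase π J 0 ≫ Spec.map ψ) (by
      rw [Category.assoc, Category.assoc, hψ, hsq.w, ← Category.assoc, ← Category.assoc]
      exact congrArg (· ≫ Y.fromSpecStalk y) pullback.condition)
  have hu : u ≫ f.fiberι y = CohB1.thickι π J 0 ≫ g := pullback.lift_fst _ _ _
  have hue : Topology.IsEmbedding u.base := by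
    refine Topology.IsEmbedding.of_comp u.continuous (f.fiberι y).continuous ?_
    have := (CohB1.thickι π J 0 ≫ g).isEmbedding
    rw [← hu] at this
    exact this
  haveI : CompactSpace X₁ := QuasiCompact.compactSpace_of_compactSpace π
  haveI : CompactSpace (CohB1.thick π J 0) := QuasiCompact.compactSpace_of_compactSpace (CohB1.thickι π J 0)
  refine AmpleX.isAmple_of_iso ?_ (isAmple_pullback_of_isEmbedding u hue hy)
  exact (Scheme.Modules.pullbackComp u (f.fiberι y)).app L ≪≫ (Scheme.Modules.pullbackCongr hu).app L ≪≫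
    ((Scheme.Modules.pullbackComp (CohB1.thickι π J 0) g).app L).symm

end Groth.Agent.AmpleVan.FibreVanish
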