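import Groth.Agent.AmpleVan.FibreVanish
import Groth.Agent.Snapper.DimVanish

/-!
# Stalks of higher direct images above the dimension of the fibre vanish
-/

set_option linter.style.haveILetI false
set_option backward.isDefEq.respectTransparency false
set_option backward.isDefEq.respectTransparency.types false

universe u

open CategoryTheory CategoryTheory.Limits AlgebraicGeometry TopologicalSpace Opposite

noncomputable section

namespace Groth.Agent.AmpleVan.FibreVanish

open Groth.Agent

theorem isZero_stalk_RpushAb_of_fibre_dim {X Y : Scheme.{u}} (f : X ⟶ Y) [IsProper f] [IsLocallyNoetherian Y]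
    (y : Y) (d : ℕ) (hd : topologicalKrullDim ↥(f.fiber y) ≤ d) {M : X.Modules} (hM : Coh.IsCoh M) (p : ℕ)
    (hp : d < p) : IsZero (TopCat.Presheaf.stalk ((Coh.RpushAb f p).obj (Coh.toAb M)).obj y) := by
  haveI : HasInjectiveResolutions X.Modules := inferInstance
  haveI : IsLocallyNoetherian X := LocallyOfFiniteType.isLocallyNoetherian f
  let A : Type u := Y.presheaf.stalk y
  let J : Ideal A := IsLocalRing.maximalIdeal A
  haveI : IsNoetherianRing A := inferInstanceAs (IsNoetherianRing (Y.presheaf.stalk y))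
  let X₁ : Scheme.{u} := pullback f (Y.fromSpecStalk y)
  let g : X₁ ⟶ X := pullback.fst _ _
  let π : X₁ ⟶ Spec (CommRingCat.of A) := pullback.snd _ _
  letI : X₁.Over (Spec (CommRingCat.of A)) := ⟨π⟩
  have hsq : IsPullback g (X₁ ↘ Spec (CommRingCat.of A)) f (Y.fromSpecStalk y) := IsPullback.of_hasPullback _ _
  haveI : IsProper π := MorphismProperty.pullback_snd f (Y.fromSpecStalk y) inferInstance
  haveI : IsProper (X₁ ↘ Spec (CommRingCat.of A)) := ‹IsProper π›
  haveI : IsLocallyNoetherian X₁ := LocallyOfFiniteType.isLocallyNoetherian π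
  haveI : CompactSpace X₁ := QuasiCompact.compactSpace_of_compactSpace π
  haveI : IsPreimmersion g :=
    MorphismProperty.of_isPullback (P := @IsPreimmersion) hsq.flip inferInstance
  have hJ : J = J ^ (0 + 1) := (pow_one J).symm
  let φ : IsLocalRing.ResidueField A →+* A ⧸ J ^ (0 + 1) := (Ideal.quotEquivOfEq hJ).toRingHom
  let ψ : Y.residueField y ⟶ CommRingCat.of (A ⧸ J ^ (0 + 1)) := CommRingCat.ofHom φ
  have hψ : Spec.map ψ ≫ Y.fromSpecResidueField y = CohB1.specQuot J 0 ≫ Y.fromSpecStalk y := by
    show Spec.map ψ ≫ Spec.map (Y.residue y) ≫ Y.fromSpecStalk y = _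
    rw [← Spec.map_comp_assoc]
    rfl
  let u : CohB1.thick π J 0 ⟶ f.fiber y :=
    pullback.lift (CohB1.thickι π J 0 ≫ g) (CohB1.thickToBase π J 0 ≫ Spec.map ψ) (by
      rw [Category.assoc, Category.assoc, hψ, hsq.w, ← Category.assoc, ← Category.assoc]
      exact congrArg (· ≫ Y.fromSpecStalk y) pullback.condition)
  have hu : u ≫ f.fiberι y = CohB1.thickι π J 0 ≫ g := pullback.lift_fst _ _ _
  have hue : Topology.IsEmbedding u.base := by
    refine Topology.IsEmbedding.of_comp u.continuous (f.fiberι y).continuous ?_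
    have := (CohB1.thickι π J 0 ≫ g).isEmbedding
    rw [← hu] at this
    exact this
  let S := thickSys π J
  have hp0 : IsProper (S.p 0) := MorphismProperty.pullback_snd π (CohB1.specQuot J 0) inferInstance
  obtain ⟨hfin, ⟨E⟩⟩ := S4467.result f M hM y p X₁ g hsq
  have hk : ∀ k, Subsingleton (Formal.HHmodPow J ((Scheme.Modules.pullback g).obj M) p k) := fun k => by
    have hq : Coh.IsQCoh ((Scheme.Modules.pullback g).obj M) := QCoh.isQCoh_pullback g hM.1
    refine subsingleton_HH_modPow (π := π) rfl hq k p ?_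
    haveI : CompactSpace (S.X k) := S.compactSpace hp0 k
    haveI : IsLocallyNoetherian (S.X k) := S.isLocallyNoetherian hp0 k
    haveI : IsNoetherian (S.X k) := ⟨⟩
    haveI : (S.X k).IsSeparated := ⟨by
      haveI : IsSeparated (S.p k) := MorphismProperty.pullback_snd π _ inferInstance
      rw [← Limits.terminal.comp_from (S.p k)]
      infer_instance⟩
    have hhom : IsHomeomorph (S.j k).base := by
      refine (isHomeomorph_iff_isEmbedding_surjective).2 ⟨(S.j k).isEmbedding, ?_⟩
      haveI := AdicSys.isClosedImmersion_jq J k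
      haveI := AdicSys.surjective_jq J k
      exact (MorphismProperty.of_isPullback (P := @Surjective) (S.square_j k).flip inferInstance).surj
    refine Snapper.subsingleton_HH_of_dim_lt (X := S.X k) (d + 1) ⊤ ?_ _ (QCoh.isQCoh_pullback _ hq)
      (Set.subset_univ _) p hp
    have h1 : topologicalKrullDim ↥((⊤ : Closeds (S.X k)) : Set (S.X k)) ≤ (d : WithBot ℕ∞) :=
      calc topologicalKrullDim ↥((⊤ : Closeds (S.X k)) : Set (S.X k)) ≤ topologicalKrullDim (S.X k) :=
            topologicalKrullDim_subspace_le _ _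
        _ = topologicalKrullDim (S.X 0) := (IsHomeomorph.topologicalKrullDim_eq _ hhom).symm
        _ ≤ topologicalKrullDim ↥(f.fiber y) := hue.isInducing.topologicalKrullDim_le
        _ ≤ _ := hd
    exact h1.trans_lt (by exact_mod_cast Nat.lt_succ_self d)
  haveI : Subsingleton (Formal.HHlim J ((Scheme.Modules.pullback g).obj M) p) :=
    ⟨fun a b => Subtype.ext (funext fun k => (hk k).elim _ _)⟩
  haveI : Module.Finite A (((Coh.Rpush f p).obj M).presheaf.stalk y) := hfin
  haveI : Subsingleton (AdicCompletion J (((Coh.Rpush f p).obj M).presheaf.stalk y)) := E.toEquiv.subsingleton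
  have h0 : Subsingleton (((Coh.Rpush f p).obj M).presheaf.stalk y) :=
    ⟨fun a b => AdicCompletion.of_injective (I := J) _ (Subsingleton.elim _ _)⟩
  obtain ⟨e⟩ := S11319.result f M p
  have hz : IsZero (TopCat.Presheaf.stalk (Coh.toAb ((Coh.Rpush f p).obj M)).obj y) :=
    @AddCommGrpCat.isZero_of_subsingleton _ h0
  exact hz.of_iso (((TopCat.Presheaf.stalkFunctor AddCommGrpCat y).mapIso
    ((sheafToPresheaf _ _).mapIso e)).symm)

theorem dim_le_of_finite {X Y : Scheme.{u}} (f : X ⟶ Y) [LocallyOfFiniteType f] (y : Y)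
    (hy : (f.base ⁻¹' {y}).Finite) : topologicalKrullDim ↥(f.fiber y) ≤ (0 : ℕ) := by
  haveI : Finite ↥(f.fiber y) := by
    haveI := hy.to_subtype
    exact Finite.of_equiv _ (f.fiberHomeo y).toEquiv.symm
  haveI : LocallyOfFiniteType (f.fiberToSpecResidueField y) :=
    inferInstanceAs (LocallyOfFiniteType (pullback.snd _ _))
  haveI : JacobsonSpace ↥(f.fiber y) := LocallyOfFiniteType.jacobsonSpace (f.fiberToSpecResidueField y)
  haveI : DiscreteTopology ↥(f.fiber y) := inferInstance
  exact (topologicalKrullDim_zero_of_discreteTopology _).trans (le_of_eq Nat.cast_zero.symm)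

end Groth.Agent.AmpleVan.FibreVanish
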