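import Groth.Agent.AmpleVan.AdicMod
import Groth.Agent.AmpleVan.Pull
import Groth.Agent.AmpleVan.RelVanish
import Groth.Agent.S4467
import Groth.Agent.S11319

/-!
# Vanishing of stalks of higher direct images for modules ample on a fibre
-/

set_option linter.style.haveILetI false
set_option backward.isDefEq.respectTransparency false
set_option backward.isDefEq.respectTransparency.types false

universe u

open CategoryTheory CategoryTheory.Limits AlgebraicGeometry TopologicalSpace Opposite

noncomputable section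

namespace Groth.Agent.AmpleVan.FibreVanish

open Groth.Agent

variable {A : Type u} [CommRing A] {X : Scheme.{u}} (π : X ⟶ Spec (CommRingCat.of A)) (J : Ideal A)

theorem thickTrans_ι (k : ℕ) : CohB1.thickTrans π J k ≫ CohB1.thickι π J (k + 1) = CohB1.thickι π J k :=
  (pullback.lift_fst _ _ _).trans (Category.comp_id _)

theorem cart (k : ℕ) : IsPullback (CohB1.thickTrans π J k) (CohB1.thickToBase π J k)
    (CohB1.thickToBase π J (k + 1)) (CohB1.specQuotTrans J k) := by
  refine IsPullback.of_right ?_ (pullback.lift_snd _ _ _) (IsPullback.of_hasPullback π (CohB1.specQuot J (k + 1)))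
  rw [CohB1.specQuotTrans_specQuot]
  show IsPullback (CohB1.thickTrans π J k ≫ CohB1.thickι π J (k + 1)) _ π _
  rw [thickTrans_ι]
  exact IsPullback.of_hasPullback π (CohB1.specQuot J k)

/-- The adic system of thickenings. -/
def thickSys : AdicSys A J where
  X := CohB1.thick π J
  p := CohB1.thickToBase π J
  i := CohB1.thickTrans π J
  cart := cart π J

instance closed_thickι (k : ℕ) : IsClosedImmersion (CohB1.thickι π J k) :=
  MorphismProperty.of_isPullback (IsPullback.of_hasPullback π (CohB1.specQuot J k)).flip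
    (AdicSys.closed_specQuot J k)

/-- The adic system of restrictions of a coherent module. -/
def thickMod [IsLocallyNoetherian X] {F : X.Modules} (hF : Coh.IsCoh F) : AdicMod (thickSys π J) where
  F k := (Scheme.Modules.pullback (CohB1.thickι π J k)).obj F
  coh k := ⟨QCoh.isQCoh_pullback _ hF.1, QCoh.isFT_pullback _ hF.1 hF.2⟩
  ψ k := (Scheme.Modules.pullbackComp (CohB1.thickTrans π J k) (CohB1.thickι π J (k + 1))).app F ≪≫
    (Scheme.Modules.pullbackCongr (thickTrans_ι π J k)).app F
  noeth k := LocallyOfFiniteType.isLocallyNoetherian (CohB1.thickι π J k)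

variable {π J}

theorem subsingleton_HH_modPow [X.Over (Spec (CommRingCat.of A))] (hπ : (X ↘ Spec (CommRingCat.of A)) = π)
    {F : X.Modules} (hF : Coh.IsQCoh F) (k q : ℕ)
    (h : Subsingleton (Coh.HH (CohB1.thick π J k) ((Scheme.Modules.pullback (CohB1.thickι π J k)).obj F) q)) :
    Subsingleton (Formal.HHmodPow J F q k) := by
  have sq : IsPullback (CohB1.thickι π J k) (CohB1.thickToBase π J k) (X ↘ Spec (CommRingCat.of A))
      (Spec.map (CommRingCat.ofHom (Ideal.Quotient.mk (J ^ (k + 1))))) := by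
    rw [hπ]; exact IsPullback.of_hasPullback π (CohB1.specQuot J k)
  obtain ⟨h0, hiso⟩ := unit_desc_iso sq hF
  obtain ⟨E⟩ := QCoh.HH_push_of_isAffineHom (CohB1.thickι π J k) (QCoh.isQCoh_pullback _ hF) q
  haveI := hiso
  exact QCoh.subsingleton_HH_of_iso (asIso (cokernel.desc _ _ h0)).symm q (E.symm.toEquiv.subsingleton)

theorem exists_bound {X Y : Scheme.{u}} (f : X ⟶ Y) [IsProper f] [IsLocallyNoetherian Y] (L : X.Modules)
    (hL : PicF.IsInvertible L) (M : X.Modules) (hM : Coh.IsCoh M) (y : Y)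
    (hy : CohB1.IsAmple ((Scheme.Modules.pullback (f.fiberι y)).obj L)) :
    ∃ d₀ : ℕ, ∀ d : ℕ, d₀ ≤ d → ∀ p : ℕ, 0 < p →
      IsZero (TopCat.Presheaf.stalk
        ((Coh.RpushAb f p).obj (Coh.toAb (CohB1.tensorMod M (CohB1.tensorPow L d)))).obj y) := by
  haveI : HasInjectiveResolutions X.Modules := inferInstance
  haveI : IsLocallyNoetherian X := LocallyOfFiniteType.isLocallyNoetherian f
  let A : Type u := Y.presheaf.stalk y
  let J : Ideal A := IsLocalRing.maximalIdeal A
  haveI : IsNoetherianRing A := inferInstanceAs (IsNoetherianRing (Y.presheaf.stalk y))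
  let X₁ : Scheme.{u} := pullback f (Y.fromSpecStalk y)
  let g : X₁ ⟶ X := pullback.fst _ _
  let π : X₁ ⟶ Spec (CommRingCat.of A) := pullback.snd _ _
  letI : X₁.Over (Spec (CommRingCat.of A)) := ⟨π⟩
  have hsq : IsPullback g (X₁ ↘ Spec (CommRingCat.of A)) f (Y.fromSpecStalk y) := IsPullback.of_hasPullback _ _
  haveI : IsProper π := MorphismProperty.pullback_snd f (Y.fromSpecStalk y) inferInstance
  haveI : IsProper (X₁ ↘ Spec (CommRingCat.of A)) := ‹IsProper π›
  haveI : IsLocallyNoetherian X₁ := LocallyOfFiniteType.isLocallyNoetherian π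
  haveI : IsPreimmersion g :=
    MorphismProperty.of_isPullback (P := @IsPreimmersion) (IsPullback.of_hasPullback f (Y.fromSpecStalk y)).flip
      inferInstance
  let S := thickSys π J
  let F₁ := (Scheme.Modules.pullback g).obj M
  have hF₁ : Coh.IsCoh F₁ := ⟨QCoh.isQCoh_pullback g hM.1, QCoh.isFT_pullback g hM.1 hM.2⟩
  let T := thickMod π J hF₁
  let L₁ := (Scheme.Modules.pullback g).obj L
  let Lk : ∀ k, (S.X k).Modules := fun k => (Scheme.Modules.pullback (CohB1.thickι π J k)).obj L₁
  have hL₁ : PicF.IsInvertible L₁ := PicClLib.isInvertible_pullback g hL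
  have hp : IsProper (S.p 0) := MorphismProperty.pullback_snd π (CohB1.specQuot J 0) inferInstance
  -- the bottom level maps to the fibre
  have hJ : J = J ^ (0 + 1) := (pow_one J).symm
  let φ : IsLocalRing.ResidueField A →+* A ⧸ J ^ (0 + 1) := (Ideal.quotEquivOfEq hJ).toRingHom
  let ψ : Y.residueField y ⟶ CommRingCat.of (A ⧸ J ^ (0 + 1)) := CommRingCat.ofHom φ
  have hψ : Spec.map ψ ≫ Y.fromSpecResidueField y = CohB1.specQuot J 0 ≫ Y.fromSpecStalk y := by
    show Spec.map ψ ≫ Spec.map (Y.residue y) ≫ Y.fromSpecStalk y = _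
    rw [← Spec.map_comp_assoc]
    rfl
  let u : S.X 0 ⟶ f.fiber y := pullback.lift (CohB1.thickι π J 0 ≫ g) (CohB1.thickToBase π J 0 ≫ Spec.map ψ) (by
    rw [Category.assoc, Category.assoc, hψ, hsq.w, ← Category.assoc, ← Category.assoc]
    exact congrArg (· ≫ Y.fromSpecStalk y) pullback.condition)
  have hu : u ≫ f.fiberι y = CohB1.thickι π J 0 ≫ g := pullback.lift_fst _ _ _
  have hue : Topology.IsEmbedding u.base := by
    refine Topology.IsEmbedding.of_comp u.continuous (f.fiberι y).continuous ?_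
    have := (CohB1.thickι π J 0 ≫ g).isEmbedding
    rw [← hu] at this
    exact this
  haveI : CompactSpace (S.X 0) := QuasiCompact.compactSpace_of_compactSpace (S.p 0)
  have ha : CohB1.IsAmple (Lk 0) := by
    refine AmpleX.isAmple_of_iso ?_ (isAmple_pullback_of_isEmbedding u hue hy)
    exact (Scheme.Modules.pullbackComp u (f.fiberι y)).app L ≪≫ (Scheme.Modules.pullbackCongr hu).app L ≪≫
      ((Scheme.Modules.pullbackComp (CohB1.thickι π J 0) g).app L).symm
  obtain ⟨n₀, hn₀⟩ := T.exists_vanishing hp Lk (fun k => PicClLib.isInvertible_pullback _ hL₁)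
    (fun k => ⟨(Scheme.Modules.pullbackComp (CohB1.thickTrans π J k) (CohB1.thickι π J (k + 1))).app L₁ ≪≫
      (Scheme.Modules.pullbackCongr (thickTrans_ι π J k)).app L₁⟩) ha
  refine ⟨n₀, fun d hd p hp' => ?_⟩
  obtain ⟨q, rfl⟩ : ∃ q, p = q + 1 := ⟨p - 1, by omega⟩
  let G := CohB1.tensorMod M (CohB1.tensorPow L d)
  have hG : Coh.IsCoh G := isCoh_tensor hM (isCoh_invertible (InvX.isInvertible_tensorPow hL d))
  have hG₁ : Coh.IsQCoh ((Scheme.Modules.pullback g).obj G) := QCoh.isQCoh_pullback g hG.1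
  have hk : ∀ k, Subsingleton (Formal.HHmodPow J ((Scheme.Modules.pullback g).obj G) (q + 1) k) := fun k => by
    refine subsingleton_HH_modPow (π := π) rfl hG₁ k (q + 1) ?_
    obtain ⟨e₁⟩ := RelVanish.pullback_twist_iso g L M d
    obtain ⟨e₂⟩ := RelVanish.pullback_twist_iso (CohB1.thickι π J k) L₁ F₁ d
    exact QCoh.subsingleton_HH_of_iso ((Scheme.Modules.pullback (CohB1.thickι π J k)).mapIso e₁ ≪≫ e₂).symm (q + 1)
      (hn₀ d hd k q).1
  obtain ⟨hfin, ⟨E⟩⟩ := S4467.result f G hG y (q + 1) X₁ g hsq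
  haveI : Subsingleton (Formal.HHlim J ((Scheme.Modules.pullback g).obj G) (q + 1)) :=
    ⟨fun a b => Subtype.ext (funext fun k => (hk k).elim _ _)⟩
  haveI : Module.Finite A (((Coh.Rpush f (q + 1)).obj G).presheaf.stalk y) := hfin
  haveI : Subsingleton (AdicCompletion J (((Coh.Rpush f (q + 1)).obj G).presheaf.stalk y)) := E.toEquiv.subsingleton
  have h0 : Subsingleton (((Coh.Rpush f (q + 1)).obj G).presheaf.stalk y) :=
    ⟨fun a b => AdicCompletion.of_injective (I := J) _ (Subsingleton.elim _ _)⟩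
  obtain ⟨e⟩ := S11319.result f G (q + 1)
  have hz : IsZero (TopCat.Presheaf.stalk (Coh.toAb ((Coh.Rpush f (q + 1)).obj G)).obj y) :=
    @AddCommGrpCat.isZero_of_subsingleton _ h0
  exact hz.of_iso (((TopCat.Presheaf.stalkFunctor AddCommGrpCat y).mapIso
    ((sheafToPresheaf _ _).mapIso e)).symm)

end Groth.Agent.AmpleVan.FibreVanish
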