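import Groth.Agent.AmpleVan.Uniform

/-!
# Finitely many of the generating sections of a coherent module generate
-/

set_option linter.style.haveILetI false
set_option backward.isDefEq.respectTransparency false
set_option backward.isDefEq.respectTransparency.types false

universe u

open CategoryTheory AlgebraicGeometry TopologicalSpace Opposite

noncomputable section

namespace Groth.Agent.AmpleVan

open Groth.Agent

variable {X : Scheme.{u}} {F : X.Modules}

/-- Sections spanning the germs on an affine open span the sections. -/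
theorem span_eq_top_of_germs (hq : Coh.IsQCoh F) {U : X.Opens} (hU : IsAffineOpen U) {κ : Type*}
    (s : κ → Γ(F, U))
    (hs : ∀ (x : X) (hx : x ∈ U), Submodule.span (X.presheaf.stalk x)
      (Set.range fun i => (F.presheaf.germ U x hx).hom (s i)) = ⊤) :
    Submodule.span Γ(X, U) (Set.range s) = ⊤ := by
  refine eq_top_iff.2 fun m _ => ?_
  by_contra hm
  let I : Ideal Γ(X, U) := (Submodule.span Γ(X, U) (Set.range s)).comap (LinearMap.toSpanSingleton Γ(X, U) _ m)
  have hI : I ≠ ⊤ := fun h => hm (by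
    have : (1 : Γ(X, U)) ∈ I := h ▸ trivial
    simpa [I] using this)
  obtain ⟨P, hP, hIP⟩ := I.exists_le_maximal hI
  obtain ⟨x, hx, hxP⟩ := QCoh.exists_point hU ⟨P, hP.isPrime⟩
  letI := QCoh.stalkAlg (X := X) (U := U) hx
  letI := QCoh.stalkModule F hx
  haveI := QCoh.isScalarTower_stalk F hx
  haveI := QCoh.isLocalization_stalk' hU hx
  haveI := QCoh.isLocalizedModule_germLin hq hU hx
  have h1 : Submodule.localized' (X.presheaf.stalk x) (hU.primeIdealOf ⟨x, hx⟩).asIdeal.primeCompl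
      (QCoh.germLin F hx) (Submodule.span Γ(X, U) (Set.range s)) = ⊤ := by
    rw [Submodule.localized'_span, ← Set.range_comp]
    exact hs x hx
  have h2 : QCoh.germLin F hx m ∈ Submodule.localized' (X.presheaf.stalk x)
      (hU.primeIdealOf ⟨x, hx⟩).asIdeal.primeCompl (QCoh.germLin F hx) (Submodule.span Γ(X, U) (Set.range s)) :=
    h1 ▸ trivial
  obtain ⟨y, hy, ⟨t, ht⟩, hyt⟩ := h2
  rw [IsLocalizedModule.mk'_eq_iff] at hyt
  obtain ⟨⟨c, hc⟩, hcy⟩ := IsLocalizedModule.exists_of_eq (S := (hU.primeIdealOf ⟨x, hx⟩).asIdeal.primeCompl)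
    (f := QCoh.germLin F hx) (show QCoh.germLin F hx y = QCoh.germLin F hx (t • m) by rw [map_smul]; exact hyt)
  have hmem : c * t ∈ I := by
    show (c * t) • m ∈ Submodule.span Γ(X, U) (Set.range s)
    rw [mul_smul]
    exact hcy ▸ Submodule.smul_mem _ c hy
  have := hIP hmem
  rw [hxP] at hc ht
  exact (hP.isPrime.mem_or_mem this).elim hc ht

/-- Finitely many generating sections suffice. -/
theorem exists_fin_generatedBy [CompactSpace X] (hF : Coh.IsCoh F) {ι : Type u} (s : ι → Γ(F, ⊤))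
    (hs : ProjUP.GeneratedBy F s) :
    ∃ (k : ℕ) (j : Fin k → ι), ProjUP.GeneratedBy F (s ∘ j) := by
  classical
  obtain ⟨S, hSf, hcov⟩ := isCompact_iff_finite_and_eq_biUnion_affineOpens.mp
    (show IsCompact ((⊤ : X.Opens) : Set X) by simpa using isCompact_univ)
  haveI := hSf.to_subtype
  have hgerm : ∀ (V : X.Opens) (x : X) (hx : x ∈ V) (i : ι),
      (F.presheaf.germ V x hx).hom (AModX.res F (le_top : V ≤ ⊤) (s i)) = (F.presheaf.germ ⊤ x trivial).hom (s i) :=
    fun V x hx i => InvX.germ_res' le_top hx (s i)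
  have hV : ∀ V : S, ∃ T : Finset ι, Submodule.span Γ(X, V.1.1)
      ((fun i => AModX.res F (le_top : V.1.1 ≤ ⊤) (s i)) '' (T : Set ι)) = ⊤ := fun V => by
    haveI := (QCoh.isCoh_iff.1 hF).2 V.1
    have h := span_eq_top_of_germs hF.1 V.1.2 (fun i => AModX.res F (le_top : V.1.1 ≤ ⊤) (s i)) fun x hx => by
      simp only [hgerm]
      exact hs x
    obtain ⟨W, hW⟩ := (Module.Finite.fg_top : (⊤ : Submodule Γ(X, V.1.1) Γ(F, V.1.1)).FG)
    have hmem : ∀ w ∈ W, ∃ T : Finset ι, w ∈ Submodule.span Γ(X, V.1.1)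
        ((fun i => AModX.res F (le_top : V.1.1 ≤ ⊤) (s i)) '' (T : Set ι)) := fun w _ => by
      obtain ⟨T', hT', hw⟩ := Submodule.mem_span_finite_of_mem_span (h.ge (Submodule.mem_top (x := w)))
      obtain ⟨T, hT⟩ := Finset.subset_set_image_iff.1
        (show (T' : Set Γ(F, V.1.1)) ⊆ (fun i => AModX.res F (le_top : V.1.1 ≤ ⊤) (s i)) '' Set.univ by
          rw [Set.image_univ]; exact hT')
      refine ⟨T, ?_⟩
      rw [← Finset.coe_image, hT.2]
      exact hw
    choose! T hT using hmem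
    refine ⟨W.biUnion T, eq_top_iff.2 ?_⟩
    rw [← hW]
    refine Submodule.span_le.2 fun w hw => ?_
    exact Submodule.span_mono (Set.image_mono (fun i hi => Finset.mem_biUnion.2 ⟨w, hw, hi⟩)) (hT w hw)
  choose T hT using hV
  haveI := Fintype.ofFinite S
  let U := Finset.univ.biUnion T
  refine ⟨U.card, fun a => (U.equivFin.symm a : ι), fun x => eq_top_iff.2 fun z _ => ?_⟩
  have hx : x ∈ (⊤ : X.Opens) := trivial
  rw [hcov] at hx
  obtain ⟨V, hVS, hxV⟩ := by simpa only [Opens.mem_iSup, exists_prop] using hx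
  obtain ⟨W, hxW, w, rfl⟩ := TopCat.Presheaf.exists_germ_eq F.presheaf z
  letI := QCoh.stalkAlg (X := X) (U := V.1) hxV
  letI := QCoh.stalkModule F hxV
  haveI := QCoh.isScalarTower_stalk F hxV
  haveI := QCoh.isLocalization_stalk' V.2 hxV
  haveI := QCoh.isLocalizedModule_germLin hF.1 V.2 hxV
  have h1 : Submodule.localized' (X.presheaf.stalk x) (V.2.primeIdealOf ⟨x, hxV⟩).asIdeal.primeCompl
      (QCoh.germLin F hxV) (Submodule.span Γ(X, V.1)
        ((fun i => AModX.res F (le_top : V.1 ≤ ⊤) (s i)) '' (T ⟨V, hVS⟩ : Set ι))) = ⊤ := by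
    rw [hT ⟨V, hVS⟩, Submodule.localized'_top]
  rw [Submodule.localized'_span] at h1
  refine Submodule.span_mono ?_ (h1.ge (Submodule.mem_top (x := _)))
  rintro _ ⟨_, ⟨i, hi, rfl⟩, rfl⟩
  have hiU : i ∈ U := Finset.mem_biUnion.2 ⟨⟨V, hVS⟩, Finset.mem_univ _, hi⟩
  refine ⟨U.equivFin ⟨i, hiU⟩, ?_⟩
  show (F.presheaf.germ ⊤ x trivial).hom (s ↑(U.equivFin.symm (U.equivFin ⟨i, hiU⟩))) = _
  rw [Equiv.symm_apply_apply]
  exact (hgerm V.1 x hxV i).symm

end Groth.Agent.AmpleVan
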