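import Groth.Agent.AmpleVan.SubSys
import Groth.Agent.Algz7.Completion
import Groth.Agent.S0060

/-!
# Coherent formal modules as towers; Grothendieck existence in presence of an ample module
-/

set_option linter.style.haveILetI false
set_option backward.isDefEq.respectTransparency false
set_option backward.isDefEq.respectTransparency.types false

universe u

open CategoryTheory CategoryTheory.Limits AlgebraicGeometry TopologicalSpace Opposite

attribute [local instance] HasDerivedCategory.standard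
attribute [local instance] Groth.Agent.QCoh.hasFiniteBiproducts

noncomputable section

namespace Groth.Agent.AmpleVan

open Groth.Agent

variable {A : Type u} [CommRing A] {X : Scheme.{u}} [X.Over (Spec (CommRingCat.of A))] {I : Ideal A}
  {G : ℕᵒᵖ ⥤ X.Modules} (hG : Formal.IsCohFormal I G)

/-- The transition map. -/
abbrev fstep (G : ℕᵒᵖ ⥤ X.Modules) (n : ℕ) : G.obj (op (n + 1)) ⟶ G.obj (op n) :=
  G.map (homOfLE (Nat.le_succ n)).op

include hG in
theorem formal_exact (n : ℕ) :
    ∃ h : Formal.smulFamily (I ^ (n + 1)) (G.obj (op (n + 1))) ≫ fstep G n = 0,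
      (ShortComplex.mk _ _ h).Exact := by
  obtain ⟨h, hiso⟩ := hG.2.2 n
  haveI := hiso
  refine ⟨h, ShortComplex.exact_of_g_is_cokernel _ ?_⟩
  exact IsColimit.ofIsoColimit (cokernelIsCokernel _)
    (Cofork.ext (asIso (cokernel.desc _ _ h)) (cokernel.π_desc _ _ h))

include hG in
theorem epi_rho (n : ℕ) : ∃ h, Epi (kernel.lift (fstep G n)
    (Formal.smulFamily (I ^ (n + 1)) (G.obj (op (n + 1)))) h) := by
  obtain ⟨h, hex⟩ := formal_exact hG n
  exact ⟨h, hex.epi_kernelLift⟩

include hG in
theorem smulMod_step (n : ℕ) {b : A} (hb : b ∈ I ^ (n + 1)) :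
    Formal.smulMod A (G.obj (op (n + 1))) b ≫ fstep G n = 0 := by
  rw [FFun.smulMod_naturality, hG.2.1 n b hb, comp_zero]

/-- The tower of a coherent formal module. -/
def formalTower : Tower I X where
  H n := G.obj (op n)
  t := fstep G
  epi n := Algz7.epi_step hG n
  coh := hG.1
  killed₀ a ha := hG.2.1 0 a (by rwa [zero_add, pow_one])
  killedKer n a ha := by
    obtain ⟨h, he⟩ := epi_rho hG n
    haveI := he
    rw [← cancel_epi (kernel.lift (fstep G n) _ h), comp_zero, kernel.lift_ι_assoc]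
    refine Sigma.hom_ext _ _ fun b => ?_
    rw [comp_zero, ← Category.assoc]
    refine (congrArg (· ≫ _) (Sigma.ι_desc _ _)).trans ?_
    rw [← FFun.smulMod_mul]
    exact hG.2.1 (n + 1) _ (by
      rw [pow_succ' _ (n + 1)]
      exact Ideal.mul_mem_mul ha b.2)

variable {r : ℕ} (a : Fin r → A) (ha : ∀ i, a i ∈ I)

theorem genFrom_formalTower (hspan : Ideal.span (Set.range a) = I) :
    ((formalTower hG).sys a ha).GenFrom 0 := by
  intro n _
  refine Preadditive.epi_of_cancel_zero _ fun {Z} g hg => ?_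
  let T := formalTower hG
  have hg' : ∀ i, (T.sys a ha).t n i ≫ g = 0 := fun i => by
    have h := congrArg (fun z => biproduct.ι (fun _ : ULift.{u} (Fin r) => (T.sys a ha).G n) ⟨i⟩ ≫ z) hg
    simp only [biproduct.ι_desc_assoc, comp_zero] at h
    exact h
  let ρ : ∀ b : A, b ∈ I ^ (n + 1) → (G.obj (op (n + 1)) ⟶ kernel (fstep G n)) := fun b hb =>
    kernel.lift _ (Formal.smulMod A _ b) (smulMod_step hG n hb)
  have hρι : ∀ b hb, ρ b hb ≫ kernel.ι (fstep G n) = Formal.smulMod A _ b := fun b hb => kernel.lift_ι _ _ _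
  have hφ : ∀ c ∈ I ^ n, ∃ φ : G.obj (op (n + 1)) ⟶ T.J n,
      φ ≫ T.jι n = fstep G n ≫ Formal.smulMod A (G.obj (op n)) c := by
    intro c hc
    match n, hc with
    | 0, _ => exact ⟨fstep G 0 ≫ Formal.smulMod A (G.obj (op 0)) c, Category.comp_id _⟩
    | k + 1, hc =>
      refine ⟨kernel.lift (fstep G k) (fstep G (k + 1) ≫ Formal.smulMod A (G.obj (op (k + 1))) c) ?_, kernel.lift_ι _ _ _⟩
      rw [Category.assoc, smulMod_step hG k hc, comp_zero]
  let S : Ideal A :=
    { carrier := {b | ∃ hb : b ∈ I ^ (n + 1), ρ b hb ≫ g = 0}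
      zero_mem' := ⟨zero_mem _, by
        rw [show ρ 0 (zero_mem _) = 0 by
          rw [← cancel_mono (kernel.ι (fstep G n)), hρι _ (zero_mem _), FFun.smulMod_zero, zero_comp], zero_comp]⟩
      add_mem' := fun {b c} hb hc => ⟨add_mem hb.1 hc.1, by
        rw [show ρ (b + c) (add_mem hb.1 hc.1) = ρ b hb.1 + ρ c hc.1 by
          rw [← cancel_mono (kernel.ι (fstep G n)), hρι _ (add_mem hb.1 hc.1), Preadditive.add_comp, hρι b hb.1, hρι c hc.1,
            FFun.smulMod_add], Preadditive.add_comp, hb.2, hc.2, add_zero]⟩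
      smul_mem' := fun c b hb => ⟨Ideal.mul_mem_left _ c hb.1, by
        rw [show ρ (c • b) (Ideal.mul_mem_left _ c hb.1) = Formal.smulMod A _ c ≫ ρ b hb.1 by
          rw [← cancel_mono (kernel.ι (fstep G n)), Category.assoc]
          refine (hρι (c • b) (Ideal.mul_mem_left _ c hb.1)).trans ?_
          rw [hρι b hb.1, smul_eq_mul, mul_comm, FFun.smulMod_mul], Category.assoc, hb.2, comp_zero]⟩ }
  have hS : I ^ (n + 1) ≤ S := by
    rw [pow_succ', Ideal.mul_le]
    intro x hx c hc
    rw [← hspan] at hx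
    induction hx using Submodule.span_induction with
    | mem x hx =>
      obtain ⟨i, rfl⟩ := hx
      have hb : a i * c ∈ I ^ (n + 1) := pow_succ' I n ▸ Ideal.mul_mem_mul (ha i) hc
      refine ⟨hb, ?_⟩
      obtain ⟨φ, hφ'⟩ := hφ c hc
      rw [show ρ (a i * c) hb = φ ≫ (T.sys a ha).t n i from by
        rw [← cancel_mono (kernel.ι (fstep G n)), hρι _ hb, Category.assoc]
        refine Eq.trans ?_ (congrArg (φ ≫ ·) (kernel.lift_ι (fstep G n) _ _)).symm
        rw [← Category.assoc, hφ', Category.assoc]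
        have h1 : fstep G n ≫ Formal.smulMod A (G.obj (op n)) c = Formal.smulMod A (G.obj (op (n + 1))) c ≫ fstep G n :=
          (FFun.smulMod_naturality _ c).symm
        rw [← Category.assoc, h1, Category.assoc]
        refine Eq.trans ?_ (congrArg (Formal.smulMod A (G.obj (op (n + 1))) c ≫ ·) (T.t_up n (a i) (ha i))).symm
        exact FFun.smulMod_mul _ _ _, Category.assoc, hg' i, comp_zero]
    | zero => rw [zero_mul]; exact zero_mem S
    | add x y _ _ hx hy => rw [add_mul]; exact add_mem hx hy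
    | smul b x _ hx => rw [smul_eq_mul, mul_assoc]; exact Ideal.mul_mem_left _ b hx
  obtain ⟨h, he⟩ := epi_rho hG n
  haveI := he
  refine (cancel_epi (kernel.lift (fstep G n) _ h)).1 (Sigma.hom_ext _ _ fun b => ?_)
  rw [comp_zero, comp_zero, ← Category.assoc]
  have e : Sigma.ι (fun _ : ↥(I ^ (n + 1)) => G.obj (op (n + 1))) b ≫ kernel.lift (fstep G n) _ h = ρ b.1 b.2 := by
    rw [← cancel_mono (kernel.ι (fstep G n)), Category.assoc, kernel.lift_ι, hρι _ b.2]
    exact Sigma.ι_desc _ _
  rw [e]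
  exact (hS b.2).2

end Groth.Agent.AmpleVan
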