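import Groth.Agent.AmpleVan.Iter
import Groth.Agent.ProjUPX.Affine
import Groth.Agent.QCoh.HHExact
import Groth.Agent.QCoh.Bound
import Groth.Agent.QCoh.OpenSub
import Groth.Agent.QCoh.Support
import Groth.Agent.QCoh.DevissageIdeal
import Groth.Agent.KFlatLib.Scheme.QCohTensor
import Groth.Agent.PnCoh.Finite.SerreVanishing

/-!
# Higher cohomology is killed by powers of a section with affine generating locus
-/

set_option linter.style.haveILetI false
set_option backward.isDefEq.respectTransparency false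
set_option backward.isDefEq.respectTransparency.types false

universe u

open CategoryTheory CategoryTheory.Limits AlgebraicGeometry TopologicalSpace Opposite
open CategoryTheory.Abelian

attribute [local instance] HasDerivedCategory.standard
attribute [local instance] Groth.Agent.QCoh.hasFiniteBiproducts

noncomputable section

namespace Groth.Agent.AmpleVan

open Groth.Agent

variable {X : Scheme.{u}} {L : X.Modules}

/-- The map on cohomology. -/
abbrev Hmap {M N : X.Modules} (φ : M ⟶ N) (q : ℕ) : Coh.HH X M q →+ Coh.HH X N q :=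
  Sheaf.H.map ((QCoh.toAbFunctor X).map φ) q

lemma Hmap_comp {M N P : X.Modules} (φ : M ⟶ N) (ψ : N ⟶ P) (q : ℕ) (x : Coh.HH X M q) :
    Hmap ψ q (Hmap φ q x) = Hmap (φ ≫ ψ) q x :=
  PnCoh.Finite.map_map (Y := X.toPresheafedSpace.carrier) ((QCoh.toAbFunctor X).map_comp φ ψ).symm q x

/-- A quasi-coherent module embeds into an acyclic one. -/
theorem exists_mono_acyclic [CompactSpace X] [X.IsSeparated] {M : X.Modules} (hM : Coh.IsQCoh M) :
    ∃ (E : X.Modules) (f : M ⟶ E), Mono f ∧ Coh.IsQCoh E ∧ ∀ q, Subsingleton (Coh.HH X E (q + 1)) := by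
  obtain ⟨s, hs, hcov⟩ := isCompact_iff_finite_and_eq_biUnion_affineOpens.mp
    (show IsCompact ((⊤ : X.Opens) : Set X) by simpa using isCompact_univ)
  haveI := hs.to_subtype
  haveI := Fintype.ofFinite s
  have hcov' : ∀ x : X, ∃ i : s, x ∈ i.1.1 := fun x => by
    have hx : x ∈ (⊤ : X.Opens) := trivial
    rw [hcov] at hx
    obtain ⟨V, hV, hxV⟩ := by simpa only [Opens.mem_iSup, exists_prop] using hx
    exact ⟨⟨V, hV⟩, hxV⟩
  haveI : ∀ i : s, IsAffineHom i.1.1.ι := fun i =>
    ⟨fun V hV => by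
      rw [← i.1.1.ι.isAffineOpen_iff_of_isOpenImmersion, Scheme.Hom.image_preimage_eq_opensRange_inf,
        Scheme.Opens.opensRange_ι]
      exact i.1.2.inf hV⟩
  let T : s → X.Modules := fun i => (Scheme.Modules.pushforward i.1.1.ι).obj (M.restrict i.1.1.ι)
  refine ⟨⨁ T, biproduct.lift fun i => (Scheme.Modules.restrictAdjunction i.1.1.ι).unit.app M, ?_,
    QCoh.isQCoh_biproduct T fun i => QCoh.isQCoh_pushforward _ (QCoh.isQCoh_restrict _ hM), fun q => ?_⟩
  · refine Preadditive.mono_of_cancel_zero _ fun {Z} g hg => ?_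
    refine H23.ModLoc.hom_ext_of_locally g 0 fun x => ?_
    obtain ⟨i, hi⟩ := hcov' x
    refine ⟨i.1.1, hi, ?_⟩
    let adj := Scheme.Modules.restrictAdjunction i.1.1.ι
    have h : g ≫ adj.unit.app M = 0 := by
      have := congrArg (· ≫ biproduct.π T i) hg
      rwa [Category.assoc, biproduct.lift_π, zero_comp] at this
    rw [Functor.map_zero]
    have h2 := adj.left_triangle_components M
    rw [← Category.comp_id ((Scheme.Modules.restrictFunctor i.1.1.ι).map g)]
    refine (congrArg ((Scheme.Modules.restrictFunctor i.1.1.ι).map g ≫ ·) h2.symm).trans ?_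
    rw [← Category.assoc, ← Functor.map_comp, h, Functor.map_zero, zero_comp]
  · refine PnCoh.Finite.subsingleton_HH_of_decomposition T (fun i => biproduct.π T i)
      (fun i => biproduct.ι T i) (QCoh.biproduct_total' T) (q + 1) fun i => ?_
    obtain ⟨e⟩ := QCoh.HH_push_of_isAffineHom i.1.1.ι (QCoh.isQCoh_restrict i.1.1.ι hM) (q + 1)
    have h : Subsingleton (Coh.HH i.1.1.toScheme (M.restrict i.1.1.ι) (q + 1)) :=
      QCoh.subsingleton_HH_restrict _ M q (by
        rw [Scheme.Opens.opensRange_ι]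
        exact QCoh.subsingleton_HU_of_isAffineOpen hM i.1.2 q)
    exact e.symm.toEquiv.subsingleton

theorem isQCoh_itw (hL : PicF.IsInvertible L) {M : X.Modules} (hM : Coh.IsQCoh M) (n : ℕ) :
    Coh.IsQCoh ((itw L n).obj M) := by
  obtain ⟨θ, -⟩ := exists_itwIso L M n
  exact (QCoh.isQCoh_iff_iso θ).2 (KFlatLib.isQCoh_tensor hM
    (ProjUPX.isQCoh_of_isInvertible (InvX.isInvertible_tensorPow hL n)))

theorem isEquivalence_itw (hL : PicF.IsInvertible L) : ∀ n, (itw L n).IsEquivalence
  | 0 => inferInstanceAs (𝟭 X.Modules).IsEquivalence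
  | n + 1 =>
    haveI := isEquivalence_itw hL n
    haveI := isEquivalence_tw hL
    inferInstanceAs (itw L n ⋙ tw L).IsEquivalence

theorem shortExact_itw (hL : PicF.IsInvertible L) (n : ℕ) {S : ShortComplex X.Modules} (hS : S.ShortExact) :
    haveI := isEquivalence_itw hL n
    (S.map (itw L n)).ShortExact :=
  haveI := isEquivalence_itw hL n
  hS.map_of_exact _

theorem exists_pw_step (σ : Γ(L, ⊤)) {M N : X.Modules} (a : M ⟶ N) (m k : ℕ)
    (φ : (itw L m).obj N ≅ (itw L k).obj M) (h : a ≫ (pw σ m).app N ≫ φ.hom = (pw σ k).app M) :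
    ∃ φ' : (itw L (m + 1)).obj N ≅ (itw L (k + 1)).obj M,
      a ≫ (pw σ (m + 1)).app N ≫ φ'.hom = (pw σ (k + 1)).app M := by
  let e₁ : (tw L).obj ((itw L m).obj N) ≅ (tw L).obj ((itw L k).obj M) := (tw L).mapIso φ
  refine ⟨e₁, ?_⟩
  rw [pw_succ, pw_succ, ← h]
  exact (congrArg (a ≫ ·) ((Category.assoc _ _ _).trans
    ((congrArg ((pw σ m).app N ≫ ·) (mulSec_naturality σ φ.hom).symm).trans
      (Category.assoc _ _ _).symm))).trans (Category.assoc _ _ _).symm

theorem exists_pw_add (σ : Γ(L, ⊤)) (M : X.Modules) (n : ℕ) : ∀ m,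
    ∃ φ : (itw L m).obj ((itw L n).obj M) ≅ (itw L (n + m)).obj M,
      (pw σ n).app M ≫ (pw σ m).app _ ≫ φ.hom = (pw σ (n + m)).app M
  | 0 => ⟨Iso.refl _, by
      show (pw σ n).app M ≫ 𝟙 _ ≫ 𝟙 _ = (pw σ n).app M
      rw [Category.comp_id, Category.comp_id]⟩
  | m + 1 => by
    obtain ⟨φ, hφ⟩ := exists_pw_add σ M n m
    rw [← Nat.add_assoc]
    exact exists_pw_step σ ((pw σ n).app M) m (n + m) φ hφ

/-- Classes in positive degree are killed by powers of a section with affine generating locus. -/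
theorem exists_kill [CompactSpace X] [X.IsSeparated] (hL : PicF.IsInvertible L)
    (s : Coh.structureModule X ⟶ L) (hs : IsAffineOpen (CohB1.genLocus L s)) :
    ∀ (q : ℕ) {M : X.Modules}, Coh.IsQCoh M → ∀ x : Coh.HH X M (q + 1),
      ∃ n, Hmap ((pw (InvX.one s) n).app M) (q + 1) x = 0 := by
  intro q
  induction q with
  | zero =>
    intro M hM x
    obtain ⟨E, f, hf, hE, hacy⟩ := exists_mono_acyclic hM
    let S := ShortComplex.mk f (cokernel.π f) (cokernel.condition f)
    have hS : S.ShortExact :=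
      { exact := ShortComplex.exact_cokernel f, mono_f := hf, epi_g := inferInstance }
    have hQ : Coh.IsQCoh S.X₃ := QCoh.isQCoh_cokernel hM hE f
    have hT := QCoh.toAb_shortExact hS
    obtain ⟨y, rfl⟩ : ∃ y, QCoh.Ab.connecting (X := X.toPresheafedSpace.carrier) hT 0 y = x :=
      Ext.covariant_sequence_exact₁ _ hT x ((hacy 0).elim _ _) rfl
    let σ := InvX.one s
    let G := CohB1.genLocus L s
    let t : Γ(S.X₃, ⊤) := Sheaf.H.equiv₀ (S.map (QCoh.toAbFunctor X)).X₃ isTerminalTop y
    obtain ⟨e, he⟩ := QCoh.app_surjective_of_epi hE hQ S.g hs (AModX.res S.X₃ (le_top : G ≤ ⊤) t)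
    obtain ⟨n, T, hT'⟩ := exists_extend hE hL s e
    let d := ((itw L n).map S.g).app ⊤ T - ((pw σ n).app S.X₃).app ⊤ t
    obtain ⟨m, hm⟩ := exists_killed (isQCoh_itw hL hQ n) hL s d (by
      show AModX.res _ (le_top : G ≤ ⊤) (_ - _) = 0
      rw [map_sub, ← AModX.app_res, ← AModX.app_res, hT', sub_eq_zero]
      refine (congr(($((pw σ n).naturality S.g)).app G e).symm : _).trans ?_
      exact congrArg (((pw σ n).app S.X₃).app G) he)
    obtain ⟨φ, hφ⟩ := exists_pw_add σ M n m
    refine ⟨n + m, ?_⟩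
    rw [← hφ, ← Hmap_comp, ← Hmap_comp]
    refine (congrArg (Hmap φ.hom 1) ?_).trans (map_zero _)
    haveI := isEquivalence_itw hL n
    haveI := isEquivalence_itw hL m
    have h2 := shortExact_itw hL m (shortExact_itw hL n hS)
    let Φ : S ⟶ (S.map (itw L n)).map (itw L m) :=
      { τ₁ := (pw σ n).app _ ≫ (pw σ m).app _
        τ₂ := (pw σ n).app _ ≫ (pw σ m).app _
        τ₃ := (pw σ n).app _ ≫ (pw σ m).app _
        comm₁₂ := by
          show ((pw σ n).app S.X₁ ≫ (pw σ m).app _) ≫ (itw L m).map ((itw L n).map S.f) = _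
          rw [Category.assoc, ← (pw σ m).naturality ((itw L n).map S.f)]
          exact ((Category.assoc _ _ _).symm.trans ((congrArg (· ≫ (pw σ m).app _) ((pw σ n).naturality S.f).symm).trans (Category.assoc _ _ _)))
        comm₂₃ := by
          show ((pw σ n).app S.X₂ ≫ (pw σ m).app _) ≫ (itw L m).map ((itw L n).map S.g) = _
          rw [Category.assoc, ← (pw σ m).naturality ((itw L n).map S.g)]
          exact ((Category.assoc _ _ _).symm.trans ((congrArg (· ≫ (pw σ m).app _) ((pw σ n).naturality S.g).symm).trans (Category.assoc _ _ _))) }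
    have hnat := QCoh.Ab.connecting_naturality (X := X.toPresheafedSpace.carrier)
      hT (QCoh.toAb_shortExact h2) ((QCoh.toAbFunctor X).mapShortComplex.map Φ) 0 y
    rw [Hmap_comp]
    refine (hnat : _).trans ((QCoh.Ab.connecting_eq_zero_iff (X := X.toPresheafedSpace.carrier)
      (QCoh.toAb_shortExact h2) 0 _).2 ?_)
    let T' := ((pw σ m).app _).app ⊤ T
    refine ⟨(Sheaf.H.equiv₀ ((QCoh.toAbFunctor X).obj ((itw L m).obj ((itw L n).obj E))) isTerminalTop).symm T', ?_⟩
    apply (Sheaf.H.equiv₀ _ isTerminalTop).injective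
    refine ((Sheaf.H.equiv₀_naturality isTerminalTop _ _).symm.trans ?_).trans
      (Sheaf.H.equiv₀_naturality isTerminalTop _ y)
    refine (congrArg _ (AddEquiv.apply_symm_apply
      (Sheaf.H.equiv₀ ((QCoh.toAbFunctor X).obj ((itw L m).obj ((itw L n).obj E))) isTerminalTop) T')).trans ?_
    show ((itw L m).map ((itw L n).map S.g)).app ⊤ (((pw σ m).app _).app ⊤ T) =
      ((pw σ m).app _).app ⊤ (((pw σ n).app S.X₃).app ⊤ t)
    refine (congr(($((pw σ m).naturality ((itw L n).map S.g))).app ⊤ T).symm : _).trans ?_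
    have h3 : ((pw σ m).app _).app ⊤ (((itw L n).map S.g).app ⊤ T - ((pw σ n).app S.X₃).app ⊤ t) = 0 := hm
    rw [map_sub, sub_eq_zero] at h3
    exact h3
  | succ q ih =>
    intro M hM x
    obtain ⟨E, f, hf, hE, hacy⟩ := exists_mono_acyclic hM
    let S := ShortComplex.mk f (cokernel.π f) (cokernel.condition f)
    have hS : S.ShortExact :=
      { exact := ShortComplex.exact_cokernel f, mono_f := hf, epi_g := inferInstance }
    have hT := QCoh.toAb_shortExact hS
    obtain ⟨y, rfl⟩ : ∃ y, QCoh.Ab.connecting (X := X.toPresheafedSpace.carrier) hT (q + 1) y = x :=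
      Ext.covariant_sequence_exact₁ _ hT x ((hacy (q + 1)).elim _ _) rfl
    obtain ⟨n, hn⟩ := ih (QCoh.isQCoh_cokernel hM hE f) y
    haveI := isEquivalence_itw hL n
    refine ⟨n, ?_⟩
    let σ := InvX.one s
    let Φ : S ⟶ S.map (itw L n) :=
      { τ₁ := (pw σ n).app _
        τ₂ := (pw σ n).app _
        τ₃ := (pw σ n).app _
        comm₁₂ := ((pw σ n).naturality S.f).symm
        comm₂₃ := ((pw σ n).naturality S.g).symm }
    refine ((QCoh.Ab.connecting_naturality (X := X.toPresheafedSpace.carrier)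
      hT (QCoh.toAb_shortExact (shortExact_itw hL n hS)) ((QCoh.toAbFunctor X).mapShortComplex.map Φ) (q + 1) y) : _).trans ?_
    exact (congrArg _ hn).trans (map_zero _)

end Groth.Agent.AmpleVan
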