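import Groth.Agent.AmpleVan.ThickPush
import Groth.Agent.SheafHomX.Extra
import Groth.Agent.QCoh.FlatFibre
import Groth.Agent.QCoh.LocFree
import Groth.Agent.KFlatLib.Perfect.Amplitude
import Groth.Agent.H23.ModLoc
import Groth.Agent.SheafHomX.Main
import Groth.Agent.Lib.CurveDeg
import Groth.Agent.KFlatLib.Perfect.LocFree
import Groth.Agent.S4462

/-!
# Lifting morphisms of locally free modules from the closed fibre
-/

set_option linter.style.haveILetI false
set_option backward.isDefEq.respectTransparency false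
set_option backward.isDefEq.respectTransparency.types false

universe u

open CategoryTheory CategoryTheory.Limits AlgebraicGeometry TopologicalSpace Opposite

noncomputable section

namespace Groth.Agent.AmpleVan

open Groth.Agent

attribute [local instance] QCoh.hasFiniteBiproducts

section Hom

variable {X Z : Scheme.{u}}

/-- `hom(i^*F, -)` followed by direct image is direct image followed by `hom(F, -)`. -/
def pushHomIso (i : Z ⟶ X) (F : X.Modules) :
    SheafHomX.hom ((Scheme.Modules.pullback i).obj F) ⋙ Scheme.Modules.pushforward i ≅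
      Scheme.Modules.pushforward i ⋙ SheafHomX.hom F :=
  (((Scheme.Modules.pullbackPushforwardAdjunction i).comp (SheafHomX.adj ((Scheme.Modules.pullback i).obj F))).ofNatIsoLeft
      (KFlatLib.pullTensorRightIso i F).symm).rightAdjointUniq
    ((SheafHomX.adj F).comp (Scheme.Modules.pullbackPushforwardAdjunction i))

/-- The two internal `Hom`s agree. -/
def sheafHomIso (F : X.Modules) [DCoh.HasSheafHom F] : DCoh.sheafHom F ≅ SheafHomX.hom F :=
  (DCoh.sheafHomAdj F).rightAdjointUniq ((SheafHomX.adj F).ofNatIsoLeft ((KFlatLib.tensorBiFlipIso X).app F))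

/-- `hom` out of a finite locally free module preserves epimorphisms. -/
theorem epi_hom_map {F : X.Modules} (hF : FlatMod.IsFinLocFree F) {M N : X.Modules} (g : M ⟶ N) [Epi g] :
    Epi ((SheafHomX.hom F).map g) := by
  refine ⟨fun {W} s t hst => H23.ModLoc.hom_ext_of_locally s t fun x => ?_⟩
  obtain ⟨U, a, hxU, ⟨e⟩⟩ := hF x
  refine ⟨U, hxU, ?_⟩
  suffices he : Epi ((Scheme.Modules.restrictFunctor U.ι).map ((SheafHomX.hom F).map g)) by
    haveI := he
    rw [← cancel_epi ((Scheme.Modules.restrictFunctor U.ι).map ((SheafHomX.hom F).map g)), ← Functor.map_comp,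
      ← Functor.map_comp, hst]
  let j : (U : Scheme.{u}) ⟶ X := U.ι
  let T : ULift.{u} (Fin a) → (U : Scheme.{u}).Modules := fun _ => Coh.structureModule (U : Scheme.{u})
  let q : (Scheme.Modules.restrictFunctor j).obj F ≅ ⨁ T :=
    e ≪≫ QCoh.freeModIso _ a ≪≫ (biproduct.isoCoproduct T).symm
  have hepi : ∀ {M' N' : (U : Scheme.{u}).Modules} (g' : M' ⟶ N'), Epi g' →
      Epi ((SheafHomX.hom ((Scheme.Modules.restrictFunctor j).obj F)).map g') := by
    intro M' N' g' hg'
    haveI := hg'
    haveI : Epi ((SheafHomX.hom (⨁ T)).map g') := by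
      let d : ∀ P, (SheafHomX.hom (⨁ T)).obj P ≅ ⨁ fun _ : ULift.{u} (Fin a) => P := fun P =>
        SheafHomX.homBiproductIso T P ≪≫ biproduct.mapIso fun _ => (SheafHomX.unitIso (U : Scheme.{u})).app P
      have hd : (SheafHomX.hom (⨁ T)).map g' ≫ (d N').hom = (d M').hom ≫ biproduct.map fun _ => g' := by
        refine biproduct.hom_ext _ _ fun b => ?_
        simp [d, SheafHomX.homBiproductIso, SheafHomX.contraBiproductIso, SheafHomX.homMapHom]
      haveI : Epi (biproduct.map fun _ : ULift.{u} (Fin a) => g') := inferInstance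
      have : Epi ((SheafHomX.hom (⨁ T)).map g' ≫ (d N').hom) := by rw [hd]; infer_instance
      exact (epi_comp_iff_of_isIso _ _).1 this
    let c : ∀ P, (SheafHomX.hom (⨁ T)).obj P ≅ (SheafHomX.hom ((Scheme.Modules.restrictFunctor j).obj F)).obj P := fun P =>
      { hom := (SheafHomX.homMap q.hom).app P
        inv := (SheafHomX.homMap q.inv).app P
        hom_inv_id := by rw [← SheafHomX.homMap_comp, Iso.inv_hom_id, SheafHomX.homMap_id]
        inv_hom_id := by rw [← SheafHomX.homMap_comp, Iso.hom_inv_id, SheafHomX.homMap_id] }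
    have hc : (c M').hom ≫ (SheafHomX.hom ((Scheme.Modules.restrictFunctor j).obj F)).map g' =
        (SheafHomX.hom (⨁ T)).map g' ≫ (c N').hom := ((SheafHomX.homMap q.hom).naturality g').symm
    have : Epi ((c M').hom ≫ (SheafHomX.hom ((Scheme.Modules.restrictFunctor j).obj F)).map g') := by
      rw [hc]
      exact @epi_comp _ _ _ _ _ _ inferInstance _ (@IsIso.epi_of_iso _ _ _ _ _ (c N').isIso_hom)
    exact epi_of_epi (c M').hom _
  haveI := hepi ((Scheme.Modules.restrictFunctor j).map g) inferInstance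
  have : Epi ((Scheme.Modules.restrictFunctor j).map ((SheafHomX.hom F).map g) ≫ (SheafHomX.restrictIso j F).hom.app N) := by
    rw [SheafHomX.restrict_map]; infer_instance
  exact (epi_comp_iff_of_isIso _ _).1 this

theorem subsingleton_of_iso {M N : X.Modules} (e : M ≅ N) (n : ℕ) (h : Subsingleton (Coh.HH X M n)) :
    Subsingleton (Coh.HH X N n) :=
  ⟨fun x y => by
    have key : ∀ z, Sheaf.H.map ((SheafOfModules.toSheaf _).map e.hom) n
        (Sheaf.H.map ((SheafOfModules.toSheaf _).map e.inv) n z) = z := fun z => by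
      refine (Formal.HHmap_comp _ _ n z).trans ?_
      rw [Iso.inv_hom_id, CategoryTheory.Functor.map_id, Sheaf.H.map_id_apply]
    rw [← key x, ← key y, h.elim (Sheaf.H.map ((SheafOfModules.toSheaf _).map e.inv) n x)]⟩

end Hom

section Local

variable (A : Type u) [CommRing A] [IsNoetherianRing A] [IsLocalRing A] {X : Scheme.{u}}
  [X.Over (Spec (CommRingCat.of A))]

local notation "π" => (X ↘ Spec (CommRingCat.of A))

omit [IsNoetherianRing A] in
/-- The fibre over the closed point is the base change to the residue ring. -/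
theorem exists_isPullback_fiber (X : Scheme.{u}) [X.Over (Spec (CommRingCat.of A))] :
    ∃ q : (X ↘ Spec (CommRingCat.of A)).fiber (IsLocalRing.closedPoint A) ⟶
      Spec (CommRingCat.of (A ⧸ IsLocalRing.maximalIdeal A)),
      IsPullback ((X ↘ Spec (CommRingCat.of A)).fiberι (IsLocalRing.closedPoint A)) q (X ↘ Spec (CommRingCat.of A))
        (Spec.map (CommRingCat.ofHom (Ideal.Quotient.mk (IsLocalRing.maximalIdeal A)))) := by
  let x : Spec (CommRingCat.of A) := IsLocalRing.closedPoint A
  haveI : x.asIdeal.IsMaximal := IsLocalRing.maximalIdeal.isMaximal A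
  let i := Scheme.Spec.residueFieldIso (CommRingCat.of A) x
  let b := RingEquiv.ofBijective (algebraMap (A ⧸ x.asIdeal) x.asIdeal.ResidueField)
    x.asIdeal.bijective_algebraMap_quotient_residueField
  let e : CommRingCat.of (A ⧸ IsLocalRing.maximalIdeal A) ≅ (Spec (CommRingCat.of A)).residueField x :=
    (b.toCommRingCatIso : CommRingCat.of (A ⧸ x.asIdeal) ≅ CommRingCat.of x.asIdeal.ResidueField) ≪≫ i.symm
  have he : CommRingCat.ofHom (Ideal.Quotient.mk (IsLocalRing.maximalIdeal A)) ≫ e.hom =
      CommRingCat.ofHom (algebraMap A x.asIdeal.ResidueField) ≫ i.inv := rfl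
  haveI : IsIso (Spec.map e.hom) := inferInstance
  refine ⟨(X ↘ Spec (CommRingCat.of A)).fiberToSpecResidueField x ≫ Spec.map e.hom, ?_⟩
  refine (IsPullback.of_hasPullback (X ↘ Spec (CommRingCat.of A))
    ((Spec (CommRingCat.of A)).fromSpecResidueField x)).of_iso (Iso.refl _) (Iso.refl _) (asIso (Spec.map e.hom))
      (Iso.refl _) (by simp [Scheme.Hom.fiberι]; rfl) (by simp [Scheme.Hom.fiberToSpecResidueField]) (by simp) ?_
  simp only [Iso.refl_hom, Category.comp_id, asIso_hom]
  rw [← Spec.map_comp, he, Spec.map_comp]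
  exact (Scheme.Spec.map_residueFieldIso_inv_eq_fromSpecResidueField (CommRingCat.of A) x).symm

omit [IsNoetherianRing A] [IsLocalRing A] in
/-- Generators suffice for being killed. -/
theorem le_killIdeal_of_span {T : X.Modules} {J : Ideal A} {S : Finset A} (hS : Ideal.span (S : Set A) = J)
    (h : ∀ a ∈ S, Formal.smulMod A T a = 0) : J ≤ FFun.killIdeal T := by
  rw [← hS, Ideal.span_le]
  exact fun a ha => FFun.mem_killIdeal.2 (h a ha)

omit [IsNoetherianRing A] [IsLocalRing A] in
/-- Applying `hom(F, -)` to the quotient by `J` gives the quotient by `J`. -/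
theorem mono_desc {F G : X.Modules} (hF : FlatMod.IsFinLocFree F) {N : X.Modules} {η : G ⟶ N} {J : Ideal A}
    (hz : Formal.smulFamily J G ≫ η = 0) [IsIso (cokernel.desc _ _ hz)] (S : Finset A)
    (hS : Ideal.span (S : Set A) = J)
    (hd0 : Formal.smulFamily J ((SheafHomX.hom F).obj G) ≫ (SheafHomX.hom F).map η = 0) :
    Mono (cokernel.desc _ _ hd0) := by
  classical
  let P := SheafHomX.hom F
  let H := P.obj G
  let T : ULift.{u} (↥S) → X.Modules := fun _ => G
  let g : ⨁ T ⟶ G := biproduct.desc fun b => Formal.smulMod A G b.down.1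
  have hgη : g ≫ η = 0 := biproduct.hom_ext' _ _ fun b => by
    have hm : b.down.1 ∈ J := hS ▸ Ideal.subset_span b.down.2
    rw [comp_zero, biproduct.ι_desc_assoc, ← Sigma.ι_desc (fun c : J => Formal.smulMod A G c.1) ⟨_, hm⟩,
      Category.assoc]
    exact (congrArg (_ ≫ ·) hz).trans comp_zero
  let C := cokernel g
  have hk : J ≤ FFun.killIdeal C := le_killIdeal_of_span A hS fun a ha => by
    haveI : Epi (cokernel.π g) := inferInstance
    rw [← cancel_epi (cokernel.π g), ← FFun.smulMod_naturality, comp_zero,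
      ← biproduct.ι_desc (f := T) (fun b => Formal.smulMod A G b.down.1) ⟨⟨a, ha⟩⟩, Category.assoc, cokernel.condition,
      comp_zero]
  let t : N ⟶ C := inv (cokernel.desc _ _ hz) ≫ FFun.descJ (cokernel.π g) hk
  have ht : η ≫ t = cokernel.π g := by
    conv_lhs => rw [← cokernel.π_desc _ _ hz]
    rw [Category.assoc, IsIso.hom_inv_id_assoc]
    exact FFun.π_descJ _ _
  let sc : ShortComplex X.Modules := ShortComplex.mk g η hgη
  have hex : sc.Exact := by
    haveI : Epi η := by rw [← cokernel.π_desc _ _ hz]; infer_instance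
    refine sc.exact_of_g_is_cokernel ?_
    exact CokernelCofork.IsColimit.ofπ η hgη (fun l hl => t ≫ cokernel.desc g l hl)
      (fun l hl => by rw [← Category.assoc, ht, cokernel.π_desc]) (fun l hl m hm => by
        rw [← cancel_epi η, hm, ← Category.assoc, ht, cokernel.π_desc])
  haveI : Epi sc.g := by
    show Epi η
    rw [← cokernel.π_desc _ _ hz]; infer_instance
  haveI : P.PreservesEpimorphisms := ⟨fun f hf => @epi_hom_map _ _ hF _ _ f hf⟩
  haveI : P.IsRightAdjoint := ⟨_, ⟨SheafHomX.adj F⟩⟩
  haveI : P.PreservesHomology := P.preservesHomology_of_preservesEpis_and_kernels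
  have hex' : (sc.map P).Exact := hex.map P
  haveI : Epi (sc.map P).g := inferInstanceAs (Epi (P.map sc.g))
  let π' : P.obj G ⟶ cokernel (Formal.smulFamily J H) := cokernel.π _
  have h0 : P.map g ≫ π' = 0 := by
    have e : 𝟙 (P.obj (⨁ T)) = ∑ b, P.map (biproduct.π T b) ≫ P.map (biproduct.ι T b) := by
      have htot : ∑ b, biproduct.π T b ≫ biproduct.ι T b = 𝟙 (⨁ T) :=
        biproduct.hom_ext _ _ fun j => by simp [T, Preadditive.sum_comp, biproduct.ι_π, comp_dite, comp_ite]
      simp only [← P.map_comp, ← P.map_sum, htot, P.map_id]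
    rw [← Category.id_comp (P.map g ≫ π'), e, Preadditive.sum_comp]
    refine Finset.sum_eq_zero fun b _ => ?_
    have hm : b.down.1 ∈ J := hS ▸ Ideal.subset_span b.down.2
    rw [Category.assoc, ← Category.assoc (P.map (biproduct.ι T b)), ← P.map_comp, biproduct.ι_desc,
      SheafHomX.hom_map_smulMod, ← Sigma.ι_desc (fun c : J => Formal.smulMod A H c.1) ⟨_, hm⟩, Category.assoc]
    exact (congrArg (fun z => _ ≫ (_ ≫ z)) (cokernel.condition _)).trans (by rw [comp_zero, comp_zero])
  let s : P.obj N ⟶ cokernel (Formal.smulFamily J H) := hex'.desc π' h0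
  have hs : P.map η ≫ s = π' := hex'.g_desc π' h0
  have : cokernel.desc _ _ hd0 ≫ s = 𝟙 _ := by
    rw [← cancel_epi (cokernel.π (Formal.smulFamily J H)), cokernel.π_desc_assoc, Category.comp_id]
    exact hs
  haveI : Mono (cokernel.desc _ _ hd0 ≫ s) := by rw [this]; infer_instance
  exact mono_of_mono _ s

omit [IsNoetherianRing A] [IsLocalRing A] in
/-- Maps out of the structure sheaf lift along a surjection on `H⁰`. -/
theorem exists_cls_lift {I J : Ideal A} {H : X.Modules} (e : I ^ (0 + 1) = J)
    (h : Function.Surjective (Formal.toHHmodPow I H 0 0))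
    (z : Coh.structureModule X ⟶ cokernel (Formal.smulFamily J H)) :
    ∃ x : Coh.structureModule X ⟶ H, x ≫ cokernel.π (Formal.smulFamily J H) = z := by
  subst e
  obtain ⟨c, hc⟩ := h (SheafHomX.cls z)
  obtain ⟨x, rfl⟩ := SheafHomX.cls_surjective c
  exact ⟨x, SheafHomX.cls_injective ((SheafHomX.map_cls x _).symm.trans hc)⟩

variable [IsProper (X ↘ Spec (CommRingCat.of A))] {Z : Scheme.{u}} {i : Z ⟶ X}
  {q : Z ⟶ Spec (CommRingCat.of (A ⧸ IsLocalRing.maximalIdeal A))}

/-- Vanishing may be tested on any model of the closed fibre. -/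
theorem subsingleton_fiberH {H : X.Modules} (hH : Coh.IsCoh H) (hfl : FlatMod.IsFlatOver π H)
    (sq : IsPullback i q π (Spec.map (CommRingCat.ofHom (Ideal.Quotient.mk (IsLocalRing.maximalIdeal A)))))
    {n : ℕ} (h : Subsingleton (Coh.HH Z ((Scheme.Modules.pullback i).obj H) n)) :
    Subsingleton (CohIII.fiberH π H (IsLocalRing.closedPoint A) n) := by
  obtain ⟨P, hP⟩ := QCoh.exists_isBCModel H hH hfl
  obtain ⟨q', sq'⟩ := exists_isPullback_fiber A X
  obtain ⟨e₁⟩ := hP.2.2.2.2.2 _ _ _ _ _ sq n
  obtain ⟨e₂⟩ := hP.2.2.2.2.2 _ _ _ _ _ sq' n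
  haveI := h
  exact (e₂.toEquiv.trans e₁.toEquiv.symm).subsingleton

theorem isFlatOver_of_isFinLocFree [Flat π] {H : X.Modules} (hH : FlatMod.IsFinLocFree H) :
    FlatMod.IsFlatOver π H := fun x => by
  show FlatMod.IsFlatOverAt π H x
  unfold FlatMod.IsFlatOverAt
  letI := FlatMod.moduleStalkOver π H x
  letI : Algebra ((Spec (CommRingCat.of A)).presheaf.stalk ((π).base x)) (X.presheaf.stalk x) :=
    ((π).stalkMap x).hom.toAlgebra
  haveI : IsScalarTower ((Spec (CommRingCat.of A)).presheaf.stalk ((π).base x)) (X.presheaf.stalk x) (H.presheaf.stalk x) :=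
    IsScalarTower.of_algebraMap_smul fun _ _ => rfl
  haveI : Module.Flat ((Spec (CommRingCat.of A)).presheaf.stalk ((π).base x)) (X.presheaf.stalk x) := Flat.stalkMap π x
  haveI := QCoh.free_stalk_of_isFinLocFree hH x
  exact Module.Flat.trans _ (X.presheaf.stalk x) _

/-- Every morphism from the module to its quotient modulo `m` lifts. -/
theorem exists_lift_modPow [Flat π] (F G : X.Modules) (hF : FlatMod.IsFinLocFree F) (hG : FlatMod.IsFinLocFree G)
    [IsClosedImmersion i]
    (sq : IsPullback i q π (Spec.map (CommRingCat.ofHom (Ideal.Quotient.mk (IsLocalRing.maximalIdeal A)))))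
    (h1 : Subsingleton (Coh.HH Z ((SheafHomX.hom ((Scheme.Modules.pullback i).obj F)).obj
      ((Scheme.Modules.pullback i).obj G)) 1))
    (u₀ : (Scheme.Modules.pullback i).obj F ⟶ (Scheme.Modules.pullback i).obj G) :
    ∃ u : F ⟶ G, (Scheme.Modules.pullback i).map u = u₀ := by
  haveI : IsLocallyNoetherian X := LocallyOfFiniteType.isLocallyNoetherian π
  let adj := Scheme.Modules.pullbackPushforwardAdjunction i
  let P := SheafHomX.hom F
  let H := P.obj G
  have hG' : Coh.IsQCoh G := QCoh.isQCoh_of_isFinLocFree hG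
  have hHlf : FlatMod.IsFinLocFree H := SheafHomX.isFinLocFree_hom hF hG
  have hH : Coh.IsCoh H := CurveDeg.isCoh_of_isFinLocFree hHlf
  let J := IsLocalRing.maximalIdeal A
  obtain ⟨S, hS⟩ := (IsNoetherian.noetherian J : (J : Submodule A A).FG)
  obtain ⟨hz, hiso⟩ := unit_desc_iso sq hG'
  haveI := hiso
  haveI : Epi (adj.unit.app G) := by
    rw [← cokernel.π_desc (Formal.smulFamily J G) (adj.unit.app G) hz]
    infer_instance
  haveI : Epi (P.map (adj.unit.app G)) := epi_hom_map hF _
  -- `hom(F, G) ⟶ hom(F, i_* i^* G)` is the quotient by `J`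
  let η' := (Scheme.Modules.pullbackPushforwardAdjunction i).unit.app H
  obtain ⟨hzH, hisoH⟩ := unit_desc_iso sq hH.1
  haveI := hisoH
  have hd0 : Formal.smulFamily J H ≫ P.map (adj.unit.app G) = 0 := by
    refine Sigma.hom_ext _ _ fun a => ?_
    rw [comp_zero, ← Category.assoc]
    refine (congrArg (· ≫ _) (Sigma.ι_desc _ _)).trans ?_
    show Formal.smulMod A H a.1 ≫ P.map (adj.unit.app G) = 0
    rw [← SheafHomX.hom_map_smulMod, ← P.map_comp]
    have h0 : Formal.smulMod A G a.1 ≫ adj.unit.app G = 0 := by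
      rw [← Sigma.ι_desc (fun b : J => Formal.smulMod A G b.1) a, Category.assoc]
      exact (congrArg (_ ≫ ·) hz).trans comp_zero
    rw [h0, P.map_zero]
  let d := cokernel.desc _ _ hd0
  let R := Scheme.Modules.pushforward i
  let eP : P.obj (R.obj ((Scheme.Modules.pullback i).obj G)) ≅
      R.obj ((SheafHomX.hom ((Scheme.Modules.pullback i).obj F)).obj ((Scheme.Modules.pullback i).obj G)) :=
    ((pushHomIso i F).app _).symm
  haveI : Epi d := epi_of_epi_fac (cokernel.π_desc _ _ hd0)
  haveI : Mono d := mono_desc A hF hz S hS hd0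
  haveI : IsIso d := isIso_of_mono_of_epi d
  let f : R.obj ((Scheme.Modules.pullback i).obj H) ≅
      R.obj ((SheafHomX.hom ((Scheme.Modules.pullback i).obj F)).obj ((Scheme.Modules.pullback i).obj G)) :=
    (asIso (cokernel.desc _ _ hzH)).symm ≪≫ asIso d ≪≫ eP
  have hqH : Coh.IsQCoh ((Scheme.Modules.pullback i).obj H) := QCoh.isQCoh_pullback i hH.1
  have hqh : Coh.IsQCoh ((SheafHomX.hom ((Scheme.Modules.pullback i).obj F)).obj ((Scheme.Modules.pullback i).obj G)) :=
    QCoh.isQCoh_of_isFinLocFree (SheafHomX.isFinLocFree_hom (KFlatLib.isFinLocFree_pullback i hF) (KFlatLib.isFinLocFree_pullback i hG))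
  obtain ⟨ψ, hψ⟩ := exists_push_map i hqH hqh f.hom
  haveI : IsIso (R.map ψ) := by rw [show R.map ψ = f.hom from hψ]; infer_instance
  haveI := isIso_of_push i ψ
  have hvan := subsingleton_fiberH A hH (isFlatOver_of_isFinLocFree A hHlf) sq (subsingleton_of_iso (asIso ψ).symm 1 h1)
  have hsur := S4462.result A X H hH (isFlatOver_of_isFinLocFree A hHlf) 0 hvan 0
  let v : F ⟶ R.obj ((Scheme.Modules.pullback i).obj G) := (adj.homEquiv _ _) u₀
  let y := (SheafHomX.ev F _).symm v
  have hJ1 : IsLocalRing.maximalIdeal A ^ (0 + 1) = J := pow_one _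
  obtain ⟨x, hx⟩ := exists_cls_lift A hJ1 hsur (y ≫ inv d)
  refine ⟨SheafHomX.ev F G x, (adj.homEquiv _ _).injective ?_⟩
  rw [Adjunction.homEquiv_unit, adj.unit_naturality, ← SheafHomX.ev_naturality]
  have h2 : x ≫ P.map (adj.unit.app G) = y := by
    rw [← cokernel.π_desc _ _ hd0, ← Category.assoc, hx, Category.assoc, IsIso.inv_hom_id, Category.comp_id]
  rw [h2]
  exact (SheafHomX.ev F _).apply_symm_apply v

end Local

end Groth.Agent.AmpleVan
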