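import Groth.Agent.AmpleVan.ThickPush
import Groth.Agent.QCoh.FlatOver
import Groth.Agent.QCoh.Localize
import Groth.Agent.QCoh.Support

/-!
# Injectivity and surjectivity from the closed fibre
-/

set_option linter.style.haveILetI false
set_option backward.isDefEq.respectTransparency false
set_option backward.isDefEq.respectTransparency.types false

universe u

open CategoryTheory CategoryTheory.Limits AlgebraicGeometry TopologicalSpace Opposite

noncomputable section

namespace Groth.Agent.AmpleVan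

open Groth.Agent

section Alg

variable {A R M N : Type u} [CommRing A] [IsLocalRing A] [IsNoetherianRing A] [CommRing R] [Algebra A R]
  [AddCommGroup M] [Module R M] [Module A M] [IsScalarTower A R M]
  [AddCommGroup N] [Module R N] [Module A N] [IsScalarTower A R N]

omit [IsLocalRing A] [IsNoetherianRing A] [Module A N] [IsScalarTower A R N] [AddCommGroup N] [Module R N] in
theorem exists_sum_of_mem {k : ℕ} (a : Fin k → A) {x : M}
    (hx : x ∈ (Ideal.span (Set.range a)).map (algebraMap A R) • (⊤ : Submodule R M)) :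
    ∃ y : Fin k → M, x = ∑ i, a i • y i := by
  rw [Ideal.map_span, ← Set.range_comp] at hx
  refine Submodule.smul_induction_on hx (fun r hr n _ => ?_) fun x x' ⟨y, hy⟩ ⟨y', hy'⟩ => ?_
  · obtain ⟨c, hc⟩ := (Submodule.mem_span_range_iff_exists_fun R).1 hr
    refine ⟨fun i => c i • n, ?_⟩
    rw [← hc, Finset.sum_smul]
    refine Finset.sum_congr rfl fun i _ => ?_
    show (c i • (algebraMap A R) (a i)) • n = a i • c i • n
    rw [smul_eq_mul, mul_comm, mul_smul, algebraMap_smul]
  · exact ⟨y + y', by simp [hy, hy', Finset.sum_add_distrib, smul_add]⟩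

/-- A map into a flat module, injective modulo the maximal ideal, has kernel in all powers. -/
theorem mem_pow_of_apply_eq_zero [Module.Flat A N] (u : M →ₗ[R] N)
    (h : ∀ y : M, u y ∈ (IsLocalRing.maximalIdeal A).map (algebraMap A R) • (⊤ : Submodule R N) →
      y ∈ (IsLocalRing.maximalIdeal A).map (algebraMap A R) • (⊤ : Submodule R M))
    {x : M} (hx : u x = 0) (n : ℕ) :
    x ∈ ((IsLocalRing.maximalIdeal A).map (algebraMap A R)) ^ n • (⊤ : Submodule R M) := by
  classical
  induction n with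
  | zero => rw [pow_zero, Ideal.one_eq_top, Submodule.top_smul]; trivial
  | succ n ih =>
    set m := IsLocalRing.maximalIdeal A
    have hex : ∃ k : ℕ, ∃ a : Fin k → A, Ideal.span (Set.range a) = m ^ n := by
      obtain ⟨S, hS⟩ := (IsNoetherian.noetherian (m ^ n) : (m ^ n : Submodule A A).FG)
      refine ⟨Fintype.card S, fun i => ((Fintype.equivFin S).symm i).1, ?_⟩
      rw [show (fun i => ((Fintype.equivFin S).symm i).1) = Subtype.val ∘ (Fintype.equivFin S).symm from rfl,
        Set.range_comp, Equiv.range_eq_univ, Set.image_univ, Subtype.range_coe_subtype]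
      exact hS
    obtain ⟨a, ha⟩ := Nat.find_spec hex
    rw [← Ideal.map_pow, ← ha] at ih
    obtain ⟨y, rfl⟩ := exists_sum_of_mem a ih
    have h0 : ∑ i, a i • u (y i) = 0 := by
      rw [← hx, map_sum]
      refine Finset.sum_congr rfl fun i _ => ?_
      rw [← algebraMap_smul R (a i) (y i), map_smul, algebraMap_smul]
    obtain ⟨l, b, z, hz, hb⟩ := Module.Flat.isTrivialRelation_of_sum_smul_eq_zero h0
    have hbm : ∀ i j, b i j ∈ m := fun i j => by
      by_contra hij
      have hu : IsUnit (b i j) := by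
        by_contra hn
        exact hij ((IsLocalRing.mem_maximalIdeal _).2 hn)
      have hk : 0 < Nat.find hex := i.pos
      refine Nat.find_min hex (Nat.sub_lt hk one_pos) ?_
      obtain ⟨k', hk'⟩ : ∃ k', Nat.find hex = k' + 1 := ⟨_, (Nat.sub_add_cancel hk).symm⟩
      rw [hk', Nat.add_sub_cancel]
      refine ⟨fun t => a (Fin.cast hk'.symm ((Fin.cast hk' i).succAbove t)), ?_⟩
      refine Eq.trans (le_antisymm (Ideal.span_mono (by rintro _ ⟨t, rfl⟩; exact ⟨_, rfl⟩)) (Ideal.span_le.2 ?_)) ha
      have hmem : ∀ i' ≠ i, a i' ∈ Ideal.span (Set.range fun t => a (Fin.cast hk'.symm ((Fin.cast hk' i).succAbove t))) := by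
        intro i' hi'
        obtain ⟨t, ht⟩ := Fin.exists_succAbove_eq (x := Fin.cast hk' i') (y := Fin.cast hk' i)
          (fun e => hi' (Fin.cast_injective hk' e))
        refine Ideal.subset_span ⟨t, ?_⟩
        simp only [ht]
        rfl
      rintro _ ⟨i', rfl⟩
      by_cases hi' : i' = i
      · subst hi'
        have e := hb j
        rw [← Finset.add_sum_erase _ _ (Finset.mem_univ i')] at e
        obtain ⟨v, hv⟩ := hu
        have : a i' = -(↑v⁻¹ * ∑ x ∈ Finset.univ.erase i', a x * b x j) := by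
          rw [← sub_eq_zero, sub_neg_eq_add]
          have e2 := congrArg ((↑v⁻¹ : A) * ·) e
          simp only [mul_add, mul_zero] at e2
          rwa [← hv, mul_comm (a i') (v : A), ← mul_assoc, Units.inv_mul, one_mul] at e2
        rw [this]
        exact neg_mem (Ideal.mul_mem_left _ _ (Ideal.sum_mem _ fun x hx =>
          Ideal.mul_mem_right _ _ (hmem x (Finset.ne_of_mem_erase hx))))
      · exact hmem i' hi'
    refine sum_mem fun i _ => ?_
    have hyi : y i ∈ m.map (algebraMap A R) • (⊤ : Submodule R M) := by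
      refine h _ ?_
      rw [show u (y i) = _ from hz i]
      refine sum_mem fun j _ => ?_
      rw [← algebraMap_smul R (b i j) (z j)]
      exact Submodule.smul_mem_smul (Ideal.mem_map_of_mem _ (hbm i j)) Submodule.mem_top
    rw [← algebraMap_smul R (a i) (y i), pow_succ, Submodule.mul_smul]
    refine Submodule.smul_mem_smul ?_ hyi
    rw [← Ideal.map_pow, ← ha]
    exact Ideal.mem_map_of_mem _ (Ideal.subset_span ⟨i, rfl⟩)

end Alg

section Sheaf

variable {A : Type u} [CommRing A] [IsLocalRing A] {X Z : Scheme.{u}} [X.Over (Spec (CommRingCat.of A))]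
  [IsProper (X ↘ Spec (CommRingCat.of A))]

/-- Every point specialises to one over the closed point. -/
theorem exists_specializes_closedPoint (x : X) :
    ∃ z, x ⤳ z ∧ (X ↘ Spec (CommRingCat.of A)) z = IsLocalRing.closedPoint A := by
  let π := X ↘ Spec (CommRingCat.of A)
  have hcl : IsClosed (π.base '' closure {x}) := π.isClosedMap _ isClosed_closure
  have h2 : IsLocalRing.closedPoint A ∈ π.base '' closure {x} :=
    (IsLocalRing.specializes_closedPoint (π x)).mem_closed hcl ⟨x, subset_closure rfl, rfl⟩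
  obtain ⟨z, hz, hzc⟩ := h2
  exact ⟨z, specializes_iff_mem_closure.2 hz, hzc⟩

omit [IsProper (X ↘ Spec (CommRingCat.of A))] in
theorem not_mem_map_of_closedPoint {U : X.Opens} {z : X} (hz : z ∈ U)
    (hπ : (X ↘ Spec (CommRingCat.of A)) z = IsLocalRing.closedPoint A) {g : Γ(X, U)}
    (hg : g ∈ (IsLocalRing.maximalIdeal A).map (scal A U)) : z ∉ X.basicOpen g := by
  intro h
  have hmem : g ∈ (IsLocalRing.maximalIdeal (X.presheaf.stalk z)).comap (X.presheaf.germ U z hz).hom := by
    refine Ideal.map_le_iff_le_comap.2 (fun a ha => ?_) hg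
    rw [Ideal.mem_comap, Ideal.mem_comap]
    by_contra hu
    have hu' : IsUnit (X.presheaf.germ U z hz (scal A U a)) := by
      by_contra hn
      exact hu ((IsLocalRing.mem_maximalIdeal _).2 hn)
    have e : scal A U a = X.presheaf.map (homOfLE (le_top : U ≤ ⊤)).op (Coh.toGlobal (X ↘ Spec (CommRingCat.of A)) a) := rfl
    rw [e, TopCat.Presheaf.germ_res_apply] at hu'
    have h1 : z ∈ X.basicOpen (Coh.toGlobal (X ↘ Spec (CommRingCat.of A)) a) :=
      (X.mem_basicOpen _ _ _).2 hu'
    rw [show Coh.toGlobal (X ↘ Spec (CommRingCat.of A)) a =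
      (X ↘ Spec (CommRingCat.of A)).appTop ((Scheme.ΓSpecIso (CommRingCat.of A)).inv a) from rfl,
      ← Scheme.preimage_basicOpen_top, basicOpen_eq_of_affine'] at h1
    rw [Iso.inv_hom_id_apply] at h1
    have h2 : a ∉ ((X ↘ Spec (CommRingCat.of A)) z : Spec (CommRingCat.of A)).asIdeal := h1
    rw [hπ] at h2
    exact h2 ha
  exact (IsLocalRing.mem_maximalIdeal _).1 (Ideal.mem_comap.1 hmem) ((X.mem_basicOpen g z hz).1 h)

/-- A quasi-coherent module with sections fixed by elements of `mR` vanishes. -/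
theorem isZero_of_fixed {K : X.Modules} (hK : Coh.IsQCoh K)
    (h : ∀ (U : X.Opens), IsAffineOpen U → ∀ s : Γ(K, U),
      ∃ a ∈ (IsLocalRing.maximalIdeal A).map (scal A U), a • s = s) :
    IsZero K := by
  refine (IsZero.iff_id_eq_zero K).2 (QCoh.hom_ext_app fun W s => ?_)
  show s = 0
  refine TopCat.Sheaf.eq_of_locally_eq' ⟨K.presheaf, K.isSheaf⟩
    (fun V : {V : X.Opens // V ≤ W ∧ K.presheaf.map (homOfLE le_top : V ⟶ ⊤).op (0 : Γ(K, ⊤)) = 0 ∧
      ∀ hV : V ≤ W, K.presheaf.map (homOfLE hV).op s = 0} => V.1) W (fun V => homOfLE V.2.1) (fun x hx => ?_) _ _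
    fun V => ((V.2.2.2 V.2.1).trans (map_zero _).symm)
  obtain ⟨z, hxz, hzc⟩ := exists_specializes_closedPoint (A := A) x
  obtain ⟨_, ⟨U, hU, rfl⟩, hzU, -⟩ :=
    X.isBasis_affineOpens.exists_subset_of_mem_open (Set.mem_univ z) isOpen_univ
  have hU' : IsAffineOpen U := hU
  obtain ⟨g, hgW, hxg⟩ := hU'.exists_basicOpen_le (V := W) ⟨x, hx⟩ (hxz.mem_open U.2 hzU)
  obtain ⟨n, t, ht⟩ := QCoh.exists_pow_smul_eq_map hK hU' g (K.presheaf.map (homOfLE hgW).op s)
  obtain ⟨a, ha, hat⟩ := h U hU' t
  have hz' : z ∈ X.basicOpen (1 - a) := by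
    rw [X.mem_basicOpen _ z hzU, map_sub, map_one]
    refine (IsLocalRing.isUnit_or_isUnit_one_sub_self _).resolve_left fun hu => ?_
    exact not_mem_map_of_closedPoint hzU hzc ha ((X.mem_basicOpen a z hzU).2 hu)
  let D := X.basicOpen g ⊓ X.basicOpen (1 - a)
  refine Opens.mem_iSup.2 ⟨⟨D, inf_le_left.trans hgW, map_zero _, fun hV => ?_⟩, hxg, hxz.mem_open (X.basicOpen (1 - a)).2 hz'⟩
  have h1 : (1 - a) • t = 0 := by rw [sub_smul, one_smul, hat, sub_self]
  have hu1 : IsUnit (X.presheaf.map (homOfLE (inf_le_right.trans (X.basicOpen_le (1 - a)) : D ≤ U)).op (1 - a)) := by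
    have := (RingedSpace.isUnit_res_basicOpen _ (1 - a)).map (X.presheaf.map (homOfLE (inf_le_right : D ≤ X.basicOpen (1 - a))).op).hom
    exact (congrArg IsUnit (QCoh.ringMap_map _ _ _)).mp this
  have htD : K.presheaf.map (homOfLE (inf_le_right.trans (X.basicOpen_le (1 - a)) : D ≤ U)).op t = 0 := by
    refine hu1.smul_eq_zero.1 ?_
    rw [← QCoh.map_smul', h1, map_zero]
  have e := congrArg (K.presheaf.map (homOfLE (inf_le_left : D ≤ X.basicOpen g)).op) ht
  rw [QCoh.map_map, QCoh.map_smul', QCoh.map_map] at e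
  have hu2 : IsUnit (X.presheaf.map (homOfLE (inf_le_left : D ≤ X.basicOpen g)).op
      (X.presheaf.map (homOfLE (X.basicOpen_le g)).op g ^ n)) :=
    ((RingedSpace.isUnit_res_basicOpen _ g).pow n).map _
  refine hu2.smul_eq_zero.1 (Eq.trans ?_ htD)
  exact e.symm

variable {i : Z ⟶ X} [IsClosedImmersion i]
  {q : Z ⟶ Spec (CommRingCat.of (A ⧸ IsLocalRing.maximalIdeal A))}

/-- Surjectivity on the closed fibre gives surjectivity. -/
theorem epi_of_fibre [IsNoetherianRing A]
    (sq : IsPullback i q (X ↘ Spec (CommRingCat.of A))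
      (Spec.map (CommRingCat.ofHom (Ideal.Quotient.mk (IsLocalRing.maximalIdeal A)))))
    {F G : X.Modules} (hF : Coh.IsQCoh F) (hG : Coh.IsCoh G) (u : F ⟶ G)
    [Epi ((Scheme.Modules.pullback i).map u)] : Epi u := by
  haveI : IsLocallyNoetherian X := LocallyOfFiniteType.isLocallyNoetherian (X ↘ Spec (CommRingCat.of A))
  have hC : Coh.IsCoh (cokernel u) := QCoh.isCoh_cokernel hF hG u
  refine Preadditive.epi_of_isZero_cokernel u (isZero_of_fixed (A := A) hC.1 fun U hU s => ?_)
  haveI := QCoh.finite_sections hC hU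
  have hz : (Scheme.Modules.pullback i).map (cokernel.π u) = 0 := by
    rw [← cancel_epi ((Scheme.Modules.pullback i).map u), ← Functor.map_comp, cokernel.condition,
      Functor.map_zero, comp_zero]
  have hη : (Scheme.Modules.pullbackPushforwardAdjunction i).unit.app (cokernel u) = 0 := by
    rw [← cancel_epi (cokernel.π u), comp_zero]
    refine ((Scheme.Modules.pullbackPushforwardAdjunction i).unit_naturality (cokernel.π u)).symm.trans ?_
    rw [hz, Functor.map_zero, comp_zero]
  have htop : (⊤ : Submodule Γ(X, U) Γ(cokernel u, U)) ≤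
      (IsLocalRing.maximalIdeal A).map (scal A U) • ⊤ := fun t _ => by
    rw [← ker_ideal_of_isPullback sq ⟨U, hU⟩]
    refine ((QCoh.unit_app_closed i hC.1 hU).2 t).1 ?_
    rw [hη]
    rfl
  obtain ⟨r, hr, hr0⟩ := Submodule.exists_sub_one_mem_and_smul_eq_zero_of_fg_of_le_smul _ ⊤ Module.Finite.fg_top htop
  refine ⟨1 - r, ?_, by rw [sub_smul, one_smul, hr0 s Submodule.mem_top, sub_zero]⟩
  rw [← neg_sub]
  exact neg_mem hr

/-- Injectivity on the closed fibre gives injectivity into a flat module. -/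
theorem mono_of_fibre [IsNoetherianRing A]
    (sq : IsPullback i q (X ↘ Spec (CommRingCat.of A))
      (Spec.map (CommRingCat.ofHom (Ideal.Quotient.mk (IsLocalRing.maximalIdeal A)))))
    {F G : X.Modules} (hF : Coh.IsCoh F) (hG : Coh.IsCoh G)
    (hfl : FlatMod.IsFlatOver (X ↘ Spec (CommRingCat.of A)) G) (u : F ⟶ G)
    [Mono ((Scheme.Modules.pullback i).map u)] : Mono u := by
  haveI : IsLocallyNoetherian X := LocallyOfFiniteType.isLocallyNoetherian (X ↘ Spec (CommRingCat.of A))
  refine Preadditive.mono_of_isZero_kernel u (isZero_of_fixed (A := A) (QCoh.isQCoh_kernel hF.1 hG.1 u) fun U hU s => ?_)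
  haveI := QCoh.finite_sections hF hU
  haveI : IsNoetherianRing Γ(X, U) := IsLocallyNoetherian.component_noetherian ⟨U, hU⟩
  letI : Algebra A Γ(X, U) := (scal A U).toAlgebra
  letI : Module A Γ(F, U) := Module.compHom _ (scal A U)
  letI : Module A Γ(G, U) := Module.compHom _ (scal A U)
  haveI : IsScalarTower A Γ(X, U) Γ(F, U) := IsScalarTower.of_algebraMap_smul fun _ _ => rfl
  haveI : IsScalarTower A Γ(X, U) Γ(G, U) := IsScalarTower.of_algebraMap_smul fun _ _ => rfl
  haveI : Module.Flat A Γ(G, U) := by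
    let S := Spec (CommRingCat.of A)
    let π := X ↘ Spec (CommRingCat.of A)
    letI : Module Γ(S, ⊤) Γ(G, U) := Module.compHom _ (π.appLE ⊤ U le_top).hom
    haveI : Module.Flat Γ(S, ⊤) Γ(G, U) :=
      (QCoh.flat_appLE_iff π hG.1 hU (isAffineOpen_top S) le_top).2 fun x _ => hfl x
    letI : Algebra A Γ(S, ⊤) := (Scheme.ΓSpecIso (CommRingCat.of A)).inv.hom.toAlgebra
    haveI : Module.Flat A Γ(S, ⊤) :=
      Module.Flat.of_linearEquiv (LinearEquiv.ofBijective (Algebra.linearMap A Γ(S, ⊤))
        (ConcreteCategory.bijective_of_isIso (Scheme.ΓSpecIso (CommRingCat.of A)).inv)).symm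
    haveI : IsScalarTower A Γ(S, ⊤) Γ(G, U) := IsScalarTower.of_algebraMap_smul fun a m => rfl
    exact Module.Flat.trans A Γ(S, ⊤) _
  let uU : Γ(F, U) →ₗ[Γ(X, U)] Γ(G, U) :=
    { toFun := u.app U
      map_add' := map_add _
      map_smul' := fun r m => Scheme.Modules.Hom.app_smul u r m }
  let adj := Scheme.Modules.pullbackPushforwardAdjunction i
  have hk : ∀ y, uU y ∈ (IsLocalRing.maximalIdeal A).map (scal A U) • (⊤ : Submodule Γ(X, U) Γ(G, U)) →
      y ∈ (IsLocalRing.maximalIdeal A).map (scal A U) • (⊤ : Submodule Γ(X, U) Γ(F, U)) := fun y hy => by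
    rw [← ker_ideal_of_isPullback sq ⟨U, hU⟩] at hy ⊢
    refine ((QCoh.unit_app_closed i hF.1 hU).2 y).1 ?_
    have h1 := ((QCoh.unit_app_closed i hG.1 hU).2 _).2 hy
    haveI : (Scheme.Modules.pushforward i).PreservesMonomorphisms := Functor.preservesMonomorphisms_of_adjunction adj
    haveI : Mono ((Scheme.Modules.pushforward i).map ((Scheme.Modules.pullback i).map u)) := inferInstance
    refine QCoh.app_injective ((Scheme.Modules.pushforward i).map ((Scheme.Modules.pullback i).map u)) U ?_
    rw [map_zero]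
    refine Eq.trans ?_ h1
    exact congr(($(adj.unit_naturality u)).app U y)
  have hs : uU ((kernel.ι u).app U s) = 0 := congr(($(kernel.condition u)).app U s)
  obtain ⟨⟨r, hr⟩, hr'⟩ := (Ideal.mem_iInf_smul_pow_eq_bot_iff _ _).1
    ((Submodule.mem_iInf _).2 fun n => mem_pow_of_apply_eq_zero uU hk hs n)
  refine ⟨r, hr, QCoh.app_injective (kernel.ι u) U ?_⟩
  rw [Scheme.Modules.Hom.app_smul]
  exact hr'

end Sheaf

end Groth.Agent.AmpleVan
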