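import Groth.Agent.AmpleVan.RelVanish
import Groth.Agent.AmpleVan.Criterion
import Groth.Agent.QCoh.SubCompare
import Groth.Agent.QCoh.RpushModel
import Groth.Agent.QCoh.RpushAbGod
import Groth.Agent.S11319

/-!
# Relative ampleness from vanishing of first higher direct images
-/

set_option linter.style.haveILetI false
set_option backward.isDefEq.respectTransparency false
set_option backward.isDefEq.respectTransparency.types false

universe u

open CategoryTheory CategoryTheory.Limits AlgebraicGeometry TopologicalSpace Opposite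
open Groth.Agent.H23.PicMul

noncomputable section

namespace Groth.Agent.AmpleVan.RelCrit

open Groth.Agent

attribute [local instance] HasDerivedCategory.standard

variable {X : Scheme.{u}}

theorem isZero_of_toAb {M : X.Modules} (h : IsZero (Coh.toAb M)) : IsZero M := by
  haveI : (QCoh.toAbFunctor X).Faithful := inferInstanceAs (SheafOfModules.toSheaf X.ringCatSheaf).Faithful
  exact (IsZero.iff_id_eq_zero _).2 ((QCoh.toAbFunctor X).map_injective (h.eq_of_src _ _))

/-- The restriction to an open of the ideal of functions vanishing on the closure. -/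
theorem nonempty_restrict_vanIdeal (U : X.Opens) {C : Set U.toScheme} (hC : IsClosed C) :
    Nonempty ((QCoh.vanIdeal (closure (U.ι '' C))).toModules.restrict U.ι ≅ (QCoh.vanIdeal C).toModules) := by
  let D := closure (U.ι '' C)
  have hD : ∀ z : U.toScheme, U.ι z ∈ D ↔ z ∈ C := fun z => by
    have h := U.ι.isOpenEmbedding.isInducing.closure_eq_preimage_closure_image C
    rw [hC.closure_eq] at h
    exact (Set.ext_iff.1 h z).symm
  let R := Scheme.Modules.restrictFunctor U.ι
  let e : R.obj (Coh.structureModule X) ≅ Coh.structureModule U.toScheme := Scheme.Modules.restrictUnitIso U.ι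
  let a : (QCoh.vanIdeal D).toModules.restrict U.ι ⟶ Coh.structureModule U.toScheme :=
    R.map (QCoh.vanIdeal D).ι ≫ e.hom
  let b := (QCoh.vanIdeal C).ι
  haveI : Mono (R.map (QCoh.vanIdeal D).ι) := inferInstance
  haveI : Mono a := mono_comp _ _
  let W : U.toScheme.affineOpens → U.toScheme.Opens := fun V => V.1
  have h : ∀ V, LinearMap.range (QCoh.appLin a (W V)) = LinearMap.range (QCoh.appLin b (W V)) := by
    intro V
    have key : ∀ s : Γ(X, U.ι ''ᵁ V.1), U.ι ''ᵁ (U.toScheme.basicOpen (show Γ(U.toScheme, V.1) from s)) = X.basicOpen s :=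
      fun s => by
        rw [Scheme.image_basicOpen, Scheme.Opens.ι_appIso]
        rfl
    have hmem : ∀ s : Γ(X, U.ι ''ᵁ V.1),
        (show Γ(Coh.structureModule X, U.ι ''ᵁ V.1) from s) ∈ (QCoh.vanIdeal D).mem (U.ι ''ᵁ V.1) ↔
          (show Γ(Coh.structureModule U.toScheme, V.1) from s) ∈ (QCoh.vanIdeal C).mem V.1 := fun s => by
      constructor
      · intro hs z hz hzb
        refine hs (U.ι z) ((hD z).2 hz) ?_
        show U.ι z ∈ X.basicOpen s
        rw [← key]
        exact ⟨z, hzb, rfl⟩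
      · intro hs z hz hzb
        have hz' : z ∈ U.ι ''ᵁ (U.toScheme.basicOpen (show Γ(U.toScheme, V.1) from s)) := by
          rw [key]
          exact hzb
        obtain ⟨w, hw, rfl⟩ := hz'
        exact hs w ((hD w).1 hz) hw
    have ha : ∀ t, a.app V.1 t = (show Γ(Coh.structureModule U.toScheme, V.1) from
        (show Γ(X, U.ι ''ᵁ V.1) from (QCoh.vanIdeal D).ι.app (U.ι ''ᵁ V.1) t)) := fun t => by
      show (U.ι.appIso V.1).hom _ = _
      rw [Scheme.Opens.ι_appIso]
      rfl
    refine le_antisymm ?_ ?_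
    · rintro _ ⟨t, rfl⟩
      obtain ⟨t', ht'⟩ := (QCoh.vanIdeal C).exists_app_eq ((hmem _).1 ((QCoh.vanIdeal D).ι_app_mem _ t))
      exact ⟨t', ht'.trans (ha t).symm⟩
    · rintro _ ⟨t, rfl⟩
      obtain ⟨t', ht'⟩ := (QCoh.vanIdeal D).exists_app_eq ((hmem (show Γ(X, U.ι ''ᵁ V.1) from b.app V.1 t)).2
        ((QCoh.vanIdeal C).ι_app_mem _ t))
      refine ⟨t', (ha t').trans ?_⟩
      rw [ht']
      rfl
  have hqa : Coh.IsQCoh ((QCoh.vanIdeal D).toModules.restrict U.ι) := QCoh.isQCoh_restrict U.ι (QCoh.isQCoh_vanIdeal D)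
  exact ⟨Subobject.isoOfMkEqMk a b (QCoh.subobject_eq_of_cover hqa (QCoh.isQCoh_vanIdeal C)
    QCoh.isQCoh_structureModule a b W (fun V => V.2) (fun x => by
      obtain ⟨_, ⟨O, hO, rfl⟩, hx, -⟩ :=
        U.toScheme.isBasis_affineOpens.exists_subset_of_mem_open (Set.mem_univ x) isOpen_univ
      exact ⟨⟨O, hO⟩, hx⟩) h)⟩

theorem isQCoh_twist {J L : X.Modules} (hJ : Coh.IsQCoh J) (hL : PicF.IsInvertible L) (n : ℕ) :
    Coh.IsQCoh (CohB1.tensorMod J (CohB1.tensorPow L n)) := by
  have h := ProjUPX.isQCoh_of_isInvertible (InvX.isInvertible_tensorPow hL n)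
  generalize CohB1.tensorPow L n = P at h ⊢
  exact KFlatLib.isQCoh_tensor hJ h

theorem subsingleton_of_isZero_Rpush {Y : Scheme.{u}} (f : X ⟶ Y) [QuasiCompact f] [QuasiSeparated f]
    [HasInjectiveResolutions X.Modules] {M : X.Modules} (hM : Coh.IsQCoh M) {V : Y.Opens} (hV : IsAffineOpen V)
    (hz : IsZero ((Coh.Rpush f 1).obj M)) :
    Subsingleton (Coh.HH (f ⁻¹ᵁ V).toScheme (M.restrict (f ⁻¹ᵁ V).ι) 1) := by
  obtain ⟨e⟩ := QCoh.nonempty_sections_HH (f := f) hM hV 1
  haveI : Subsingleton Γ((Coh.Rpush f 1).obj M, V) :=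
    ⟨fun a b => by
      have h1 : ∀ x : Γ((Coh.Rpush f 1).obj M, V), x = 0 := fun x =>
        congr(($((IsZero.iff_id_eq_zero _).1 hz)).app V x)
      rw [h1 a, h1 b]⟩
  exact e.symm.toEquiv.subsingleton

theorem restrict_twist (U : X.Opens) (J L : X.Modules) (n : ℕ) {J' : U.toScheme.Modules} (ev : J.restrict U.ι ≅ J') :
    Nonempty ((CohB1.tensorMod J (CohB1.tensorPow L n)).restrict U.ι ≅
      CohB1.tensorMod J' (CohB1.tensorPow (L.restrict U.ι) n)) := by
  obtain ⟨et⟩ := RelVanish.pullback_twist_iso U.ι L J n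
  let rJ := (Scheme.Modules.restrictFunctorIsoPullback U.ι).app J
  let rL := (Scheme.Modules.restrictFunctorIsoPullback U.ι).app L
  refine cl_eq_iff.1 ?_
  rw [cl_eq_iff.2 ⟨(Scheme.Modules.restrictFunctorIsoPullback U.ι).app _ ≪≫ et⟩, cl_tensor, cl_tensor, cl_tensorPow,
    cl_tensorPow]
  congr 1
  · exact cl_eq_iff.2 ⟨rJ.symm ≪≫ ev⟩
  · exact congrArg (· ^ n) (cl_eq_iff.2 ⟨rL.symm⟩)

/-- Vanishing of `R¹` for twists of coherent ideals gives relative ampleness. -/
theorem isRelAmple_of_vanishing {Y : Scheme.{u}} (f : X ⟶ Y) [IsNoetherian Y] [IsProper f]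
    [HasInjectiveResolutions X.Modules] {L : X.Modules} (hL : PicF.IsInvertible L)
    (h : ∀ (J : X.Modules) (ι : J ⟶ Coh.structureModule X), Mono ι → Coh.IsCoh J →
      ∃ N : ℕ, ∀ n : ℕ, N ≤ n → IsZero ((Coh.Rpush f 1).obj (CohB1.tensorMod J (CohB1.tensorPow L n)))) :
    RelAmple.IsRelAmple f L := by
  refine ⟨inferInstance, fun ⟨V, hV⟩ => ?_⟩
  haveI : IsLocallyNoetherian X := LocallyOfFiniteType.isLocallyNoetherian f
  let U := f ⁻¹ᵁ V
  haveI : CompactSpace U.toScheme := isCompact_iff_compactSpace.1 (f.isCompact_preimage hV.isCompact)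
  have hLU : PicF.IsInvertible (L.restrict U.ι) :=
    H23.PicMul.isInvertible_of_iso ((Scheme.Modules.restrictFunctorIsoPullback U.ι).app L).symm
      (PicClLib.isInvertible_pullback U.ι hL)
  refine isAmple_of_HH_one hLU fun C hC => ?_
  let J := QCoh.vanIdeal (closure (U.ι '' C))
  have hJ : Coh.IsCoh J.toModules :=
    QCoh.isCoh_of_mono J.ι QCoh.isCoh_structureModule' (QCoh.isQCoh_vanIdeal _)
  obtain ⟨N, hN⟩ := h _ J.ι inferInstance hJ
  refine ⟨N, ?_⟩
  have h1 := subsingleton_of_isZero_Rpush f (isQCoh_twist hJ.1 hL (N + 1)) hV (hN (N + 1) (Nat.le_succ _))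
  obtain ⟨ev⟩ := nonempty_restrict_vanIdeal U hC
  obtain ⟨φ⟩ := restrict_twist U J.toModules L (N + 1) ev
  exact QCoh.subsingleton_HH_of_iso φ 1 h1

end Groth.Agent.AmpleVan.RelCrit
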