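import Groth.Agent.AmpleVan.LiftFibre
import Groth.Agent.AmpleVan.NakayamaFibre
import Groth.Agent.QCoh.FlatBC
import Groth.Agent.SheafHomX.Local

/-!
# Morphisms over a localisation of the base spread out
-/

set_option linter.style.haveILetI false
set_option backward.isDefEq.respectTransparency false
set_option backward.isDefEq.respectTransparency.types false

universe u

open CategoryTheory CategoryTheory.Limits AlgebraicGeometry TopologicalSpace Opposite

noncomputable section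

namespace Groth.Agent.AmpleVan

open Groth.Agent

attribute [local instance] QCoh.hasFiniteBiproducts

variable {A : Type u} [CommRing A] (S : Submonoid A) {X : Scheme.{u}} [X.Over (Spec (CommRingCat.of A))]

/-- An isomorphism up to `S`-torsion on affines inside `U`. -/
def IsSIso {M N : X.Modules} (κ : M ⟶ N) (U : X.Opens) : Prop :=
  ∀ W : X.Opens, IsAffineOpen W → W ≤ U →
    (∀ σ : Γ(N, W), ∃ b ∈ S, ∃ t, κ.app W t = (Formal.smulMod A N b).app W σ) ∧
    ∀ t : Γ(M, W), κ.app W t = 0 → ∃ b ∈ S, (Formal.smulMod A M b).app W t = 0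

theorem smulMod_mul_app (M : X.Modules) (a b : A) (W : X.Opens) (m : Γ(M, W)) :
    (Formal.smulMod A M (a * b)).app W m = (Formal.smulMod A M a).app W ((Formal.smulMod A M b).app W m) :=
  congr(($(FFun.smulMod_mul M a b)).app W m)

theorem smulMod_app_comm {M N : X.Modules} (κ : M ⟶ N) (a : A) (W : X.Opens) (m : Γ(M, W)) :
    κ.app W ((Formal.smulMod A M a).app W m) = (Formal.smulMod A N a).app W (κ.app W m) :=
  congr(($(FFun.smulMod_naturality κ a)).app W m)

theorem exists_common {ι : Type*} [Fintype ι] (b : ι → A) (hb : ∀ i, b i ∈ S) :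
    ∃ c ∈ S, ∃ d : ι → A, ∀ i, c = d i * b i := by
  classical
  refine ⟨∏ i, b i, S.prod_mem fun i _ => hb i, fun i => ∏ j ∈ Finset.univ.erase i, b j, fun i => ?_⟩
  rw [mul_comm]
  exact (Finset.mul_prod_erase _ _ (Finset.mem_univ i)).symm

variable {S} in
/-- The property survives applying `hom(F, -)` where `F` is free. -/
theorem IsSIso.hom {F M N : X.Modules} {κ : M ⟶ N} {U : X.Opens} {a : ℕ}
    (e : F.restrict U.ι ≅ FlatMod.freeMod U a) (h : IsSIso S κ U) :
    IsSIso S ((SheafHomX.hom F).map κ) U := by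
  classical
  let j : (U : Scheme.{u}) ⟶ X := U.ι
  let R := Scheme.Modules.restrictFunctor j
  let T : ULift.{u} (Fin a) → (U : Scheme.{u}).Modules := fun _ => Coh.structureModule (U : Scheme.{u})
  let q : R.obj F ≅ ⨁ T := e ≪≫ QCoh.freeModIso _ a ≪≫ (biproduct.isoCoproduct T).symm
  let P := SheafHomX.hom F
  let Φ : ∀ L : X.Modules, R.obj (P.obj L) ≅ ⨁ fun _ : ULift.{u} (Fin a) => R.obj L := fun L =>
    (SheafHomX.restrictIso j F).app L ≪≫
      { hom := (SheafHomX.homMap q.inv).app (R.obj L)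
        inv := (SheafHomX.homMap q.hom).app (R.obj L)
        hom_inv_id := by rw [← SheafHomX.homMap_comp, Iso.hom_inv_id, SheafHomX.homMap_id]; rfl
        inv_hom_id := by rw [← SheafHomX.homMap_comp, Iso.inv_hom_id, SheafHomX.homMap_id] } ≪≫
      SheafHomX.homBiproductIso T (R.obj L) ≪≫
      biproduct.mapIso fun _ => (SheafHomX.unitIso (U : Scheme.{u})).app (R.obj L)
  have hΦ : ∀ {L L' : X.Modules} (g : L ⟶ L'),
      R.map (P.map g) ≫ (Φ L').hom = (Φ L).hom ≫ biproduct.map fun _ => R.map g := by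
    intro L L' g
    have h1 := SheafHomX.restrict_map j F g
    have h2 := (SheafHomX.homMap q.inv).naturality (R.map g)
    have h3 : (SheafHomX.hom (⨁ T)).map (R.map g) ≫ (SheafHomX.homBiproductIso T (R.obj L')).hom ≫
        (biproduct.mapIso fun _ => (SheafHomX.unitIso (U : Scheme.{u})).app (R.obj L')).hom =
      ((SheafHomX.homBiproductIso T (R.obj L)).hom ≫
        (biproduct.mapIso fun _ => (SheafHomX.unitIso (U : Scheme.{u})).app (R.obj L)).hom) ≫
        biproduct.map fun _ => R.map g := by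
      refine biproduct.hom_ext _ _ fun b => ?_
      simp [SheafHomX.homBiproductIso, SheafHomX.contraBiproductIso, SheafHomX.homMapHom]
    simp only [Φ, Iso.trans_hom, Iso.app_hom, Category.assoc]
    rw [← Category.assoc]
    refine (congrArg (· ≫ _) h1).trans ?_
    rw [Category.assoc, ← Category.assoc ((SheafHomX.hom _).map (R.map g))]
    refine (congrArg (fun z => _ ≫ z ≫ _) h2).trans ?_
    rw [Category.assoc, h3]
    simp only [Category.assoc]
    rfl
  intro W hW hWU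
  obtain ⟨W₀, rfl⟩ : ∃ W₀ : (U : Scheme.{u}).Opens, j ''ᵁ W₀ = W := ⟨U.ι ⁻¹ᵁ W, by
    rw [Scheme.Hom.image_preimage_eq_opensRange_inf, Scheme.Opens.opensRange_ι]
    exact inf_eq_right.mpr hWU⟩
  obtain ⟨hs, hk⟩ := h _ hW hWU
  let pr : ∀ (L : X.Modules), Γ(P.obj L, j ''ᵁ W₀) → ULift.{u} (Fin a) → Γ(L, j ''ᵁ W₀) := fun L x b =>
    ((Φ L).hom ≫ biproduct.π _ b).app W₀ x
  have hpr : ∀ {L L' : X.Modules} (g : L ⟶ L') (x : Γ(P.obj L, j ''ᵁ W₀)) (b),
      pr L' ((P.map g).app (j ''ᵁ W₀) x) b = g.app (j ''ᵁ W₀) (pr L x b) := by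
    intro L L' g x b
    have := congr(Scheme.Modules.Hom.app ($(hΦ g) ≫ biproduct.π _ b) W₀ x)
    rw [Category.assoc, Category.assoc, biproduct.map_π] at this
    exact this
  have hsm : ∀ (L : X.Modules) (c : A) (x : Γ(P.obj L, j ''ᵁ W₀)) (b),
      pr L ((Formal.smulMod A (P.obj L) c).app (j ''ᵁ W₀) x) b =
        (Formal.smulMod A L c).app (j ''ᵁ W₀) (pr L x b) := fun L c x b => by
    rw [← SheafHomX.hom_map_smulMod]
    exact hpr _ x b
  have hinj : ∀ (L : X.Modules) (x y : Γ(P.obj L, j ''ᵁ W₀)), (∀ b, pr L x b = pr L y b) → x = y := by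
    intro L x y hxy
    have htot : ∑ b, ((Φ L).hom ≫ biproduct.π _ b) ≫ (biproduct.ι (fun _ : ULift.{u} (Fin a) => R.obj L) b ≫ (Φ L).inv) = 𝟙 _ := by
      have ht : ∑ b, biproduct.π (fun _ : ULift.{u} (Fin a) => R.obj L) b ≫ biproduct.ι (fun _ : ULift.{u} (Fin a) => R.obj L) b = 𝟙 _ :=
        biproduct.hom_ext _ _ fun j => by simp [Preadditive.sum_comp, biproduct.ι_π, comp_dite, comp_ite]
      calc ∑ b, ((Φ L).hom ≫ biproduct.π _ b) ≫ (biproduct.ι (fun _ : ULift.{u} (Fin a) => R.obj L) b ≫ (Φ L).inv)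
          = (Φ L).hom ≫ (∑ b, biproduct.π (fun _ : ULift.{u} (Fin a) => R.obj L) b ≫ biproduct.ι (fun _ : ULift.{u} (Fin a) => R.obj L) b) ≫ (Φ L).inv := by
            simp only [Preadditive.sum_comp, Preadditive.comp_sum, Category.assoc]
        _ = 𝟙 _ := by rw [ht, Category.id_comp, Iso.hom_inv_id]
    have key : ∀ z : Γ(P.obj L, j ''ᵁ W₀),
        z = ∑ b, (biproduct.ι (fun _ : ULift.{u} (Fin a) => R.obj L) b ≫ (Φ L).inv).app W₀ (pr L z b) := fun z => by
      conv_lhs => rw [show z = Scheme.Modules.Hom.app (𝟙 (R.obj (P.obj L))) W₀ z from rfl, ← htot]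
      exact H23.Frame.app_sum _ _ _ _
    rw [key x, key y]
    simp only [hxy]
  refine ⟨fun σ => ?_, fun t ht => ?_⟩
  · choose b hb t ht using fun i => hs (pr N σ i)
    obtain ⟨c, hc, d, hd⟩ := exists_common S b hb
    let t' : Γ(P.obj M, j ''ᵁ W₀) := ∑ i, (biproduct.ι (fun _ : ULift.{u} (Fin a) => R.obj M) i ≫ (Φ M).inv).app W₀
      ((Formal.smulMod A M (d i)).app (j ''ᵁ W₀) (t i))
    have ht' : ∀ i, pr M t' i = (Formal.smulMod A M (d i)).app (j ''ᵁ W₀) (t i) := by
      intro i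
      refine (map_sum (((Φ M).hom ≫ biproduct.π _ i).app W₀).hom _ _).trans ?_
      rw [Finset.sum_eq_single i]
      · exact congr(Scheme.Modules.Hom.app $(show (biproduct.ι (fun _ : ULift.{u} (Fin a) => R.obj M) i ≫ (Φ M).inv) ≫
          ((Φ M).hom ≫ biproduct.π _ i) = 𝟙 _ by simp) W₀ _)
      · intro i' _ hi'
        exact congr(Scheme.Modules.Hom.app $(show (biproduct.ι (fun _ : ULift.{u} (Fin a) => R.obj M) i' ≫ (Φ M).inv) ≫
          ((Φ M).hom ≫ biproduct.π _ i) = 0 by simp [biproduct.ι_π_ne _ hi']) W₀ _)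
      · simp
    refine ⟨c, hc, t', hinj N _ _ fun i => ?_⟩
    rw [hpr, ht', hsm, smulMod_app_comm, ht, ← smulMod_mul_app, ← hd]
  · choose b hb hbt using fun i => hk (pr M t i) (by
      rw [← hpr, ht]
      exact map_zero (((Φ N).hom ≫ biproduct.π _ i).app W₀).hom)
    obtain ⟨c, hc, d, hd⟩ := exists_common S b hb
    refine ⟨c, hc, hinj M _ _ fun i => ?_⟩
    rw [hsm, hd i, smulMod_mul_app, hbt, map_zero]
    exact (map_zero (((Φ M).hom ≫ biproduct.π _ i).app W₀).hom).symm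

variable {S} in
/-- Global sections along a map which is an isomorphism up to torsion. -/
theorem exists_global [CompactSpace X] [X.IsSeparated] {M N : X.Modules} {κ : M ⟶ N}
    (h : ∀ x : X, ∃ U : X.Opens, x ∈ U ∧ IsSIso S κ U) (σ : Γ(N, ⊤)) :
    ∃ b ∈ S, ∃ t, κ.app ⊤ t = (Formal.smulMod A N b).app ⊤ σ := by
  classical
  have hcov : ∀ x : X, ∃ W : X.Opens, IsAffineOpen W ∧ x ∈ W ∧ IsSIso S κ W := fun x => by
    obtain ⟨U, hx, hU⟩ := h x
    obtain ⟨_, ⟨W, hW, rfl⟩, hxW, hWU⟩ := X.isBasis_affineOpens.exists_subset_of_mem_open hx U.2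
    exact ⟨W, hW, hxW, fun V hV hVW => hU V hV (hVW.trans hWU)⟩
  choose W hW hxW hWS using hcov
  obtain ⟨K, hK⟩ := isCompact_univ.elim_finite_subcover (fun x => (W x : Set X)) (fun x => (W x).2)
    fun x _ => Set.mem_iUnion.2 ⟨x, hxW x⟩
  choose b hb t ht using fun x : K => (hWS x.1 (W x.1) (hW _) le_rfl).1 (N.presheaf.map (homOfLE le_top).op σ)
  obtain ⟨c, hc, d, hd⟩ := exists_common S b hb
  let u : ∀ x : K, Γ(M, W x.1) := fun x => (Formal.smulMod A M (d x)).app _ (t x)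
  have hu : ∀ x : K, κ.app _ (u x) = (Formal.smulMod A N c).app _ (N.presheaf.map (homOfLE le_top).op σ) :=
    fun x => by rw [smulMod_app_comm, ht, ← smulMod_mul_app, ← hd]
  let V : K → K → X.Opens := fun x y => W x.1 ⊓ W y.1
  have hVa : ∀ x y, IsAffineOpen (V x y) := fun x y => (hW _).inf (hW _)
  choose e he heq using fun p : K × K => (hWS p.1.1 (V p.1 p.2) (hVa _ _) inf_le_left).2
    (M.presheaf.map (homOfLE inf_le_left).op (u p.1) - M.presheaf.map (homOfLE inf_le_right).op (u p.2)) (by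
      rw [map_sub, QCoh.map_app_comm, QCoh.map_app_comm, hu, hu, ← QCoh.map_app_comm, ← QCoh.map_app_comm,
        ← map_sub, QCoh.map_map, QCoh.map_map]
      refine (congrArg _ (sub_eq_zero.2 (congrArg (fun i : (W p.1.1 ⊓ W p.2.1 : X.Opens) ⟶ ⊤ => N.presheaf.map i.op σ) (Subsingleton.elim _ _)))).trans ?_
      exact map_zero _)
  obtain ⟨c', hc', d', hd'⟩ := exists_common S e he
  let v : ∀ x : K, Γ(M, W x.1) := fun x => (Formal.smulMod A M c').app _ (u x)
  have hcompat : TopCat.Presheaf.IsCompatible M.presheaf (fun x : K => W x.1) v := fun x y => by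
    show M.presheaf.map (homOfLE inf_le_left).op (v x) = M.presheaf.map (homOfLE inf_le_right).op (v y)
    rw [← sub_eq_zero]
    show M.presheaf.map _ ((Formal.smulMod A M c').app _ (u x)) - M.presheaf.map _ ((Formal.smulMod A M c').app _ (u y)) = 0
    rw [← QCoh.map_app_comm (Formal.smulMod A M c'), ← QCoh.map_app_comm (Formal.smulMod A M c'), ← map_sub, hd' (x, y),
      smulMod_mul_app, heq (x, y), map_zero]
  obtain ⟨s, hs, -⟩ := TopCat.Sheaf.existsUnique_gluing' ⟨M.presheaf, M.isSheaf⟩ (fun x : K => W x.1) ⊤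
    (fun x => homOfLE le_top) (fun x _ => by
      obtain ⟨y, hy, hxy⟩ := Set.mem_iUnion₂.1 (hK (Set.mem_univ x))
      exact Opens.mem_iSup.2 ⟨⟨y, hy⟩, hxy⟩) v hcompat
  refine ⟨c' * c, S.mul_mem hc' hc, s, ?_⟩
  refine TopCat.Sheaf.eq_of_locally_eq' ⟨N.presheaf, N.isSheaf⟩ (fun x : K => W x.1) ⊤ (fun x => homOfLE le_top)
    (fun x _ => by
      obtain ⟨y, hy, hxy⟩ := Set.mem_iUnion₂.1 (hK (Set.mem_univ x))
      exact Opens.mem_iSup.2 ⟨⟨y, hy⟩, hxy⟩) _ _ fun x => ?_
  show N.presheaf.map (homOfLE le_top).op (κ.app ⊤ s) = N.presheaf.map (homOfLE le_top).op ((Formal.smulMod A N (c' * c)).app ⊤ σ)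
  rw [← QCoh.map_app_comm, ← QCoh.map_app_comm, hs x, smulMod_app_comm, hu, ← smulMod_mul_app]

section Unit

variable {B : Type u} [CommRing B] [Algebra A B] [IsLocalization S B] {X' : Scheme.{u}}
  [X'.Over (Spec (CommRingCat.of B))] {g : X' ⟶ X}

/-- Pulling back to the localised base is an isomorphism up to torsion. -/
theorem isSIso_unit (h : IsPullback g (X' ↘ Spec (CommRingCat.of B)) (X ↘ Spec (CommRingCat.of A))
      (Spec.map (CommRingCat.ofHom (algebraMap A B)))) {G : X.Modules} (hG : Coh.IsQCoh G) (U : X.Opens) :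
    IsSIso S ((Scheme.Modules.pullbackPushforwardAdjunction g).unit.app G) U := by
  intro W hW _
  have hbc := QCoh.isAffineBC_of_isPullback h hG W hW
  let ρ := Coh.toGlobal (X ↘ Spec (CommRingCat.of A))
  let ρ' := Coh.toGlobal (X' ↘ Spec (CommRingCat.of B))
  let G' := (Scheme.Modules.pullback g).obj G
  letI := QCoh.secModule ρ G W
  letI := QCoh.secModule ρ' G' (g ⁻¹ᵁ W)
  letI := QCoh.secModule (ρ'.comp (algebraMap A B)) G' (g ⁻¹ᵁ W)
  haveI : IsScalarTower A B Γ(G', g ⁻¹ᵁ W) := .of_algebraMap_smul fun _ _ => rfl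
  let η : G ⟶ (Scheme.Modules.pushforward g).obj G' := (Scheme.Modules.pullbackPushforwardAdjunction g).unit.app G
  let l := QCoh.secLin ρ ρ' g η (QCoh.toGlobal_comm _ _ g h.w) W (g ⁻¹ᵁ W) le_rfl
  haveI : IsLocalizedModule S l := (isLocalizedModule_iff_isBaseChange S B _).2 hbc
  have hl : ∀ t, l t = η.app W t := fun t => by
    show G'.presheaf.map (homOfLE le_rfl).op (η.app W t) = _
    exact QCoh.map_id' _ _
  have hN : ∀ (b : A) (σ : Γ(G', g ⁻¹ᵁ W)),
      (Formal.smulMod A ((Scheme.Modules.pushforward g).obj G') b).app W σ = b • σ := fun b σ => by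
    show (show Γ(X', g ⁻¹ᵁ W) from g.app W (X.presheaf.map (homOfLE le_top).op (ρ b))) • σ =
      (show Γ(X', g ⁻¹ᵁ W) from X'.presheaf.map (homOfLE le_top).op (ρ' (algebraMap A B b))) • σ
    rw [QCoh.app_topRes, QCoh.toGlobal_comm _ _ g h.w]
  refine ⟨fun σ => ?_, fun t ht => ?_⟩
  · obtain ⟨⟨t, b⟩, hb⟩ := IsLocalizedModule.surj S l σ
    exact ⟨b, b.2, t, (hl t).symm.trans (hb.symm.trans (hN _ _).symm)⟩
  · obtain ⟨b, hb⟩ := (IsLocalizedModule.eq_zero_iff S l).1 ((hl t).trans ht)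
    exact ⟨b, b.2, hb⟩

/-- A coherent module with torsion sections is killed by one element. -/
theorem exists_killing_of_torsion [CompactSpace X] [IsLocallyNoetherian X] {K : X.Modules} (hK : Coh.IsCoh K)
    (hT : ∀ W : X.Opens, IsAffineOpen W → ∀ t : Γ(K, W), ∃ b ∈ S, (Formal.smulMod A K b).app W t = 0) :
    ∃ b ∈ S, Formal.smulMod A K b = 0 := by
  classical
  have hkill : ∀ W : X.Opens, IsAffineOpen W → ∃ b ∈ S, ∀ t : Γ(K, W), (Formal.smulMod A K b).app W t = 0 := by
    intro W hW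
    haveI := QCoh.finite_sections hK hW
    obtain ⟨G, hG⟩ := (Module.Finite.fg_top : (⊤ : Submodule Γ(X, W) Γ(K, W)).FG)
    choose b hb hbt using fun t : G => hT W hW t.1
    obtain ⟨c, hc, d, hd⟩ := exists_common S b hb
    refine ⟨c, hc, fun t => ?_⟩
    refine Submodule.span_induction (p := fun t _ => (Formal.smulMod A K c).app W t = 0) (fun t ht => ?_) (map_zero _)
      (fun x y _ _ hx hy => by rw [map_add, hx, hy, add_zero])
      (fun r x _ hx => by rw [Scheme.Modules.Hom.app_smul, hx, smul_zero])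
      (show t ∈ Submodule.span Γ(X, W) (G : Set Γ(K, W)) by rw [hG]; trivial)
    rw [hd ⟨t, ht⟩, smulMod_mul_app]
    exact (congrArg _ (hbt ⟨t, ht⟩)).trans (map_zero _)
  obtain ⟨K₀, hK₀⟩ := isCompact_univ.elim_finite_subcover (fun V : X.affineOpens => (V.1 : Set X)) (fun V => V.1.2)
    fun x _ => by
      obtain ⟨_, ⟨W, hW, rfl⟩, hxW, -⟩ := X.isBasis_affineOpens.exists_subset_of_mem_open (Set.mem_univ x) isOpen_univ
      exact Set.mem_iUnion.2 ⟨⟨W, hW⟩, hxW⟩
  choose b hb hbt using fun V : K₀ => hkill V.1.1 V.1.2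
  obtain ⟨c, hc, d, hd⟩ := exists_common S b hb
  refine ⟨c, hc, H23.ModLoc.hom_ext_of_locally _ 0 fun x => ?_⟩
  obtain ⟨V, hV, hxV⟩ := Set.mem_iUnion₂.1 (hK₀ (Set.mem_univ x))
  refine ⟨V.1, hxV, ?_⟩
  rw [Functor.map_zero]
  haveI : IsAffine (V.1 : Scheme.{u}) := V.2
  refine SheafHomX.eq_zero_of_sect (QCoh.isQCoh_restrict V.1.ι hK.1) _ fun y => ?_
  refine QCoh.hom_ext_app fun O r => ?_
  have e0 : ∀ t : Γ(K, V.1.ι ''ᵁ ⊤), (Formal.smulMod A K c).app (V.1.ι ''ᵁ ⊤) t = 0 := by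
    rw [V.1.ι_image_top]
    intro t
    rw [hd ⟨V, hV⟩, smulMod_mul_app, hbt, map_zero]
  have e1 : InvX.one (y ≫ (Scheme.Modules.restrictFunctor V.1.ι).map (Formal.smulMod A K c)) = 0 := e0 (InvX.one y)
  refine (InvX.app_eq_smul _ r).trans ?_
  rw [e1, map_zero]
  exact smul_zero _

/-- Modules which vanish over the localised base are killed by one element. -/
theorem exists_killing [CompactSpace X] [IsLocallyNoetherian X]
    (h : IsPullback g (X' ↘ Spec (CommRingCat.of B)) (X ↘ Spec (CommRingCat.of A))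
      (Spec.map (CommRingCat.ofHom (algebraMap A B)))) {K : X.Modules} (hK : Coh.IsCoh K)
    (hz : IsZero ((Scheme.Modules.pullback g).obj K)) : ∃ b ∈ S, Formal.smulMod A K b = 0 := by
  have hη : (Scheme.Modules.pullbackPushforwardAdjunction g).unit.app K = 0 :=
    ((Scheme.Modules.pushforward g).map_isZero hz).eq_of_tgt _ _
  exact exists_killing_of_torsion S hK fun W hW t => (isSIso_unit S h hK.1 W W hW le_rfl).2 t (by rw [hη]; rfl)

end Unit

/-- A module killed by `b` vanishes where `b` is invertible. -/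
theorem isZero_restrict_basicOpen {K : X.Modules} {b : A} (hb : Formal.smulMod A K b = 0) :
    IsZero (K.restrict ((X ↘ Spec (CommRingCat.of A)) ⁻¹ᵁ PrimeSpectrum.basicOpen b).ι) := by
  let V := (X ↘ Spec (CommRingCat.of A)) ⁻¹ᵁ PrimeSpectrum.basicOpen b
  refine (IsZero.iff_id_eq_zero _).2 (QCoh.hom_ext_app fun O s => ?_)
  show s = 0
  let W := V.ι ''ᵁ O
  have hle : W ≤ X.basicOpen (Coh.toGlobal (X ↘ Spec (CommRingCat.of A)) b) := by
    rintro _ ⟨z, -, rfl⟩
    rw [show Coh.toGlobal (X ↘ Spec (CommRingCat.of A)) b =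
      (X ↘ Spec (CommRingCat.of A)).appTop ((Scheme.ΓSpecIso (CommRingCat.of A)).inv b) from rfl,
      ← Scheme.preimage_basicOpen_top, basicOpen_eq_of_affine', Iso.inv_hom_id_apply]
    exact z.2
  have hu : IsUnit (X.presheaf.map (homOfLE (le_top : W ≤ ⊤)).op (Coh.toGlobal (X ↘ Spec (CommRingCat.of A)) b)) := by
    have := (RingedSpace.isUnit_res_basicOpen _ (Coh.toGlobal (X ↘ Spec (CommRingCat.of A)) b)).map
      (X.presheaf.map (homOfLE hle).op).hom
    exact (congrArg IsUnit (QCoh.ringMap_map _ _ _)).mp this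
  let s' : Γ(K, W) := s
  have h2 : X.presheaf.map (homOfLE (le_top : W ≤ ⊤)).op (Coh.toGlobal (X ↘ Spec (CommRingCat.of A)) b) • s' = 0 :=
    congr(($hb).app W s')
  have h3 := hu.smul_eq_zero.1 h2
  exact h3

end Groth.Agent.AmpleVan
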