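import Groth.Agent.AmpleVan.Tower

/-!
# Subsystems of systems generated in degree zero are generated in bounded degrees
-/

set_option linter.style.haveILetI false
set_option backward.isDefEq.respectTransparency false
set_option backward.isDefEq.respectTransparency.types false

universe u

open CategoryTheory CategoryTheory.Limits AlgebraicGeometry TopologicalSpace Opposite

attribute [local instance] Groth.Agent.QCoh.hasFiniteBiproducts

noncomputable section

namespace Groth.Agent.AmpleVan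

open Groth.Agent

variable {X : Scheme.{u}} {r : ℕ}

theorem exists_genFrom_of_mono [IsNoetherian X] (S S' : FFun.Gen.Sys X r) (hS : ∀ n, Coh.IsCoh (S.G n))
    (hS' : ∀ n, Coh.IsCoh (S'.G n)) (hgen : S.GenFrom 0) (ι : ∀ n, S'.G n ⟶ S.G n) [∀ n, Mono (ι n)]
    (hι : ∀ n i, S'.t n i ≫ ι (n + 1) = ι n ≫ S.t n i) : ∃ d, S'.GenFrom d := by
  classical
  obtain ⟨s, hs, hcov⟩ := isCompact_iff_finite_and_eq_biUnion_affineOpens.mp
    (show IsCompact ((⊤ : X.Opens) : Set X) by simpa using isCompact_univ)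
  haveI := hs.to_subtype
  haveI := Fintype.ofFinite s
  have hcov' : ∀ x : X, ∃ i : s, x ∈ i.1.1 := fun x => by
    have hx : x ∈ (⊤ : X.Opens) := trivial
    rw [hcov] at hx
    obtain ⟨V, hV, hxV⟩ := by simpa only [Opens.mem_iSup, exists_prop] using hx
    exact ⟨⟨V, hV⟩, hxV⟩
  have hd : ∀ V : s, ∃ d, ∀ n, d ≤ n → ∀ x : Γ(S'.G (n + 1), V.1.1),
      ∃ y : Fin r → Γ(S'.G n, V.1.1), x = ∑ i, (S'.t n i).app V.1.1 (y i) := fun V => by
    haveI := QCoh.noetherian_sections (X := X) V.1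
    haveI := fun n => QCoh.finite_sections (hS n) V.1.2
    let T : ∀ n, Fin r → (Γ(S.G n, V.1.1) →ₗ[Γ(X, V.1.1)] Γ(S.G (n + 1), V.1.1)) := fun n i =>
      { toFun := (S.t n i).app V.1.1
        map_add' := map_add _
        map_smul' := Scheme.Modules.Hom.app_smul _ }
    let M : ∀ n, Submodule Γ(X, V.1.1) Γ(S.G n, V.1.1) := fun n =>
      LinearMap.range ({ toFun := (ι n).app V.1.1
                         map_add' := map_add _
                         map_smul' := Scheme.Modules.Hom.app_smul _ } :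
        Γ(S'.G n, V.1.1) →ₗ[Γ(X, V.1.1)] Γ(S.G n, V.1.1))
    have hT : ∀ n i j x, T (n + 1) i (T n j x) = T (n + 1) j (T n i x) := fun n i j x =>
      congr(($(S.comm n i j)).app V.1.1 x)
    obtain ⟨d, hd⟩ := FFun.Gen.exists_gen_sub T hT (d₀ := 0) (fun n _ => eq_top_iff.2 fun x _ => by
        have hD : Coh.IsCoh (⨁ fun _ : ULift.{u} (Fin r) => S.G n) := QCoh.isCoh_biproduct _ fun _ => hS n
        haveI := hgen n (Nat.zero_le _)
        obtain ⟨z, rfl⟩ := QCoh.app_surjective_of_epi hD.1 (hS (n + 1)).1 (S.tAll n) V.1.2 x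
        rw [QCoh.biproduct_app_decomp _ V.1.1 z, map_sum]
        refine Submodule.sum_mem _ fun b _ => ?_
        refine le_iSup (fun i => LinearMap.range (T n i)) b.down
          ⟨(biproduct.π (fun _ : ULift.{u} (Fin r) => S.G n) b).app V.1.1 z, ?_⟩
        exact (congr(($(biproduct.ι_desc (fun i : ULift.{u} (Fin r) => S.t n i.down) b)).app V.1.1 _) : _).symm) M
      (fun n i x hx => by
        obtain ⟨y, rfl⟩ := hx
        exact ⟨(S'.t n i).app V.1.1 y, congr(($(hι n i)).app V.1.1 y)⟩)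
    refine ⟨d, fun n hn x => ?_⟩
    obtain ⟨f, hf, hfsum⟩ := Submodule.mem_iSup_iff_exists_finsupp _ _ |>.1 (hd n hn ⟨x, rfl⟩)
    choose w hw hwf using fun i => hf i
    choose y hy using hw
    refine ⟨y, QCoh.app_injective (ι (n + 1)) V.1.1 ?_⟩
    rw [map_sum]
    refine hfsum.symm.trans ?_
    rw [Finsupp.sum_fintype _ _ (fun _ => rfl)]
    refine Finset.sum_congr rfl fun i _ => ?_
    refine (hwf i).symm.trans ?_
    rw [← hy i]
    exact (congr(($(hι n i)).app V.1.1 (y i)) : _).symm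
  choose d hd using hd
  refine ⟨Finset.univ.sup d, fun n hn => ?_⟩
  have hD : Coh.IsCoh (⨁ fun _ : ULift.{u} (Fin r) => S'.G n) :=
    QCoh.isCoh_biproduct _ fun _ => hS' n
  have hC := QCoh.isCoh_cokernel hD.1 (hS' (n + 1)) (S'.tAll n)
  refine Preadditive.epi_of_isZero_cokernel _ (QCoh.isZero_of_cover hC.1 (fun V : s => V.1.1)
    (fun V => V.1.2) hcov' fun V => subsingleton_of_forall_eq 0 fun c => ?_)
  obtain ⟨x, rfl⟩ := QCoh.app_surjective_of_epi (hS' (n + 1)).1 hC.1 (cokernel.π (S'.tAll n)) V.1.2 c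
  obtain ⟨y, rfl⟩ := hd V n ((Finset.le_sup (Finset.mem_univ V)).trans hn) x
  rw [map_sum]
  refine Finset.sum_eq_zero fun i _ => ?_
  have e : S'.t n i ≫ cokernel.π (S'.tAll n) = 0 := by
    rw [← biproduct.ι_desc (fun i : ULift.{u} (Fin r) => S'.t n i.down) ⟨i⟩, Category.assoc]
    exact (congrArg _ (cokernel.condition _)).trans comp_zero
  exact congr(($e).app V.1.1 (y i))

end Groth.Agent.AmpleVan
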