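import Groth.Agent.KFlatLib.Scheme.TensorAssoc
import Groth.Agent.KFlatLib.Scheme.Flatness
import Groth.Agent.H23.PicMul

/-!
# Tensoring with an invertible module is an autoequivalence
-/

set_option linter.style.haveILetI false
set_option backward.isDefEq.respectTransparency false

universe u

open CategoryTheory CategoryTheory.Limits AlgebraicGeometry

attribute [local instance] HasDerivedCategory.standard

noncomputable section

namespace Groth.Agent.AmpleVan

variable {X : Scheme.{u}}

/-- `- ⊗ P`. -/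
abbrev tw (P : X.Modules) : X.Modules ⥤ X.Modules := (DCoh.tensorBi (X := X)).flip.obj P

example (P M : X.Modules) : (tw P).obj M = CohB1.tensorMod M P := rfl

/-- `(- ⊗ P) ⊗ Q ≅ - ⊗ (P ⊗ Q)`. -/
def twComp (P Q : X.Modules) : tw P ⋙ tw Q ≅ tw ((tw Q).obj P) :=
  NatIso.ofComponents (fun M => (((KFlatLib.tensorAssocSch X).app M).app P).app Q)
    (fun {M M'} f => congr_app (congr_app ((KFlatLib.tensorAssocSch X).hom.naturality f) P) Q)

/-- `- ⊗ O ≅ id`. -/
def twUnit : tw (Coh.structureModule X) ≅ 𝟭 X.Modules := KFlatLib.tensorStructureIso X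

theorem isEquivalence_tw {P : X.Modules} (hP : PicF.IsInvertible P) : (tw P).IsEquivalence := by
  obtain ⟨D, -, ⟨e⟩⟩ := H23.PicInv.exists_inverse hP
  obtain ⟨c⟩ := H23.PicMul.comm D P
  exact (CategoryTheory.Equivalence.mk (tw P) (tw D)
    (twUnit.symm ≪≫ (DCoh.tensorBi (X := X)).flip.mapIso e.symm ≪≫ (twComp P D).symm)
    (twComp D P ≪≫ (DCoh.tensorBi (X := X)).flip.mapIso (c ≪≫ e) ≪≫ twUnit)).isEquivalence_functor

end Groth.Agent.AmpleVan
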